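import Cfsg.Agent.Lib.PSLn.Basic
import Mathlib.LinearAlgebra.Dimension.Finite
import Mathlib.LinearAlgebra.FiniteDimensional.Lemmas

/-!
Extending linear maps between subspaces to linear automorphisms; transitivity of `GL_n` and
`SL_n` on subspaces, frames and transvections.
-/

set_option autoImplicit false

namespace CfsgLib.PSLn

open Matrix

/-- An isomorphism of subspaces extends to the whole space. -/
theorem exists_equiv_extend {K V : Type*} [Field K] [AddCommGroup V] [Module K V]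
    [FiniteDimensional K V] {U₁ U₂ : Submodule K V} (f : U₁ ≃ₗ[K] U₂) :
    ∃ g : V ≃ₗ[K] V, (∀ u : U₁, g u = f u) ∧ U₁.map (g : V →ₗ[K] V) = U₂ := by
  obtain ⟨C₁, h₁⟩ := Submodule.exists_isCompl U₁
  obtain ⟨C₂, h₂⟩ := Submodule.exists_isCompl U₂
  have hd : Module.finrank K C₁ = Module.finrank K C₂ := by
    have e₁ := Submodule.finrank_add_eq_of_isCompl h₁
    have e₂ := Submodule.finrank_add_eq_of_isCompl h₂
    have := f.finrank_eq
    omega
  let g := ((Submodule.prodEquivOfIsCompl U₁ C₁ h₁).symm.trans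
    (LinearEquiv.prodCongr f (LinearEquiv.ofFinrankEq C₁ C₂ hd))).trans
    (Submodule.prodEquivOfIsCompl U₂ C₂ h₂)
  have hg : ∀ u : U₁, g u = f u := fun u => by
    simp [g, Submodule.prodEquivOfIsCompl_symm_apply_left]
  refine ⟨g, hg, le_antisymm ?_ ?_⟩
  · rintro _ ⟨u, hu, rfl⟩
    rw [LinearEquiv.coe_coe, hg ⟨u, hu⟩]
    exact (f _).2
  · intro v hv
    exact ⟨(f.symm ⟨v, hv⟩ : V), (f.symm ⟨v, hv⟩).2, by
      rw [LinearEquiv.coe_coe, hg, LinearEquiv.apply_symm_apply]⟩

variable {F : Type*} [Field F] {n : ℕ}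

/-- A linear automorphism of `F ^ n` as an element of `GL_n`. -/
theorem exists_GL_of_linearEquiv (g : (Fin n → F) ≃ₗ[F] (Fin n → F)) :
    ∃ M : GL (Fin n) F, ∀ v, M.1 *ᵥ v = g v :=
  ⟨⟨LinearMap.toMatrix' (g : (Fin n → F) →ₗ[F] (Fin n → F)),
    LinearMap.toMatrix' (g.symm : (Fin n → F) →ₗ[F] (Fin n → F)),
    by rw [← LinearMap.toMatrix'_comp, LinearEquiv.comp_coe, LinearEquiv.symm_trans_self,
      LinearEquiv.refl_toLinearMap, LinearMap.toMatrix'_id],
    by rw [← LinearMap.toMatrix'_comp, LinearEquiv.comp_coe, LinearEquiv.self_trans_symm,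
      LinearEquiv.refl_toLinearMap, LinearMap.toMatrix'_id]⟩,
    fun v => LinearMap.toMatrix'_mulVec _ _⟩

/-- `GL_n` maps any independent family to any other. -/
theorem exists_GL_mulVec {ι : Type*} [Fintype ι] {s t : ι → Fin n → F}
    (hs : LinearIndependent F s) (ht : LinearIndependent F t) :
    ∃ g : GL (Fin n) F, ∀ i, g.1 *ᵥ s i = t i := by
  obtain ⟨g, hg, -⟩ := exists_equiv_extend ((Module.Basis.span hs).equiv (Module.Basis.span ht)
    (Equiv.refl ι))
  obtain ⟨M, hM⟩ := exists_GL_of_linearEquiv g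
  refine ⟨M, fun i => ?_⟩
  rw [hM, ← Module.Basis.coe_span_apply hs i, hg, Module.Basis.equiv_apply, Equiv.refl_apply,
    Module.Basis.coe_span_apply]

theorem det_one_add_vec (v f : Fin n → F) : (1 + vecMulVec v f).det = 1 + f ⬝ᵥ v := by
  rw [vecMulVec_eq Unit, det_one_add_replicateCol_mul_replicateRow]

/-- Over `n ≥ 3` every transvection is conjugate in `SL_n` to the standard one. -/
theorem isConj_tv_std (hn : 3 ≤ n) {v w : Fin n → F} (hv : v ≠ 0) (hw : w ≠ 0) (h : w ⬝ᵥ v = 0) :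
    IsConj (tv (Pi.single ⟨0, by omega⟩ (1 : F)) (Pi.single ⟨1, by omega⟩ 1)
      (by simp [dotProduct_single, Fin.ext_iff])) (tv v w h) := by
  set i₀ : Fin n := ⟨0, by omega⟩
  set i₁ : Fin n := ⟨1, by omega⟩
  set i₂ : Fin n := ⟨2, by omega⟩
  have h01 : i₀ ≠ i₁ := by simp [i₀, i₁, Fin.ext_iff]
  have h12 : i₁ ≠ i₂ := by simp [i₁, i₂, Fin.ext_iff]
  have h02 : i₀ ≠ i₂ := by simp [i₀, i₂, Fin.ext_iff]
  obtain ⟨j, hj⟩ := Function.ne_iff.mp hw
  rw [Pi.zero_apply] at hj
  let u : Fin n → F := Pi.single j (w j)⁻¹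
  have hu : w ⬝ᵥ u = 1 := by simp [u, dotProduct_single, mul_inv_cancel₀ hj]
  have hind : LinearIndependent F ![v, u] := by
    rw [LinearIndependent.pair_iff]
    intro a b hab
    have hb := congrArg (fun x => w ⬝ᵥ x) hab
    simp only [dotProduct_add, dotProduct_smul, h, hu, dotProduct_zero, smul_eq_mul, mul_zero,
      zero_add, mul_one] at hb
    subst hb
    rw [zero_smul, add_zero] at hab
    exact ⟨(smul_eq_zero.mp hab).resolve_right hv, rfl⟩
  have hind0 : LinearIndependent F ![(Pi.single i₀ 1 : Fin n → F), Pi.single i₁ 1] := by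
    rw [LinearIndependent.pair_iff]
    intro a b hab
    have e0 := congrFun hab i₀
    have e1 := congrFun hab i₁
    simp [h01, Ne.symm h01] at e0 e1
    exact ⟨e0, e1⟩
  obtain ⟨M, hM⟩ := exists_GL_mulVec hind0 hind
  have hM0 : M.1 *ᵥ Pi.single i₀ 1 = v := hM 0
  have hM1 : M.1 *ᵥ Pi.single i₁ 1 = u := hM 1
  -- clear `w` on the other columns
  let c : Fin n → F := Function.update (-(w ᵥ* M.1)) i₁ 0
  have hc0 : c i₀ = 0 := by
    rw [show c i₀ = -((w ᵥ* M.1) i₀) from Function.update_of_ne h01 _ _, neg_eq_zero]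
    rw [← mul_one ((w ᵥ* M.1) i₀), ← dotProduct_single, ← dotProduct_mulVec, hM0, h]
  have hc1 : c i₁ = 0 := Function.update_self _ _ _
  let N : GL (Fin n) F := GeneralLinearGroup.mkOfDetNeZero
    (1 + vecMulVec (Pi.single i₁ (1 : F)) c) (by
      rw [det_one_add_vec, dotProduct_single, hc1, zero_mul, add_zero]
      exact one_ne_zero)
  let d : F := (M.1 * N.1).det
  have hd : d ≠ 0 := ((Matrix.isUnit_iff_isUnit_det _).mp (M * N).isUnit).ne_zero
  let D : GL (Fin n) F := GeneralLinearGroup.mkOfDetNeZero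
    (Matrix.diagonal (Function.update 1 i₂ d⁻¹)) (by
      rw [Matrix.det_diagonal, Finset.prod_update_of_mem (Finset.mem_univ _)]
      simp [hd])
  let A : Matrix.SpecialLinearGroup (Fin n) F := ⟨(M * N * D).1, by
    show (M.1 * N.1 * (Matrix.diagonal (Function.update (1 : Fin n → F) i₂ d⁻¹))).det = 1
    rw [Matrix.det_mul, Matrix.det_diagonal, Finset.prod_update_of_mem (Finset.mem_univ _)]
    simp only [Pi.one_apply, Finset.prod_const_one, mul_one]
    exact mul_inv_cancel₀ hd⟩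
  have hA0 : A.1 *ᵥ Pi.single i₀ 1 = v := by
    show (M.1 * (1 + vecMulVec (Pi.single i₁ (1 : F)) c) * Matrix.diagonal _) *ᵥ _ = v
    rw [← mulVec_mulVec, ← mulVec_mulVec, diagonal_mulVec_single, Function.update_of_ne h02,
      Pi.one_apply, mul_one, add_mulVec, one_mulVec, vecMulVec_mulVec, dotProduct_single, hc0,
      zero_mul, MulOpposite.op_zero, zero_smul, add_zero, hM0]
  have hwA : w ᵥ* A.1 = Pi.single i₁ 1 := by
    show w ᵥ* (M.1 * (1 + vecMulVec (Pi.single i₁ (1 : F)) c) * Matrix.diagonal _) = _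
    have e1 : (w ᵥ* M.1) i₁ = 1 := by
      rw [← mul_one ((w ᵥ* M.1) i₁), ← dotProduct_single, ← dotProduct_mulVec, hM1, hu]
    rw [← vecMul_vecMul, ← vecMul_vecMul, vecMul_add, vecMul_one, vecMul_vecMulVec,
      dotProduct_single, e1, mul_one, one_smul]
    funext i
    rw [vecMul_diagonal, Pi.add_apply]
    rcases eq_or_ne i i₁ with rfl | hi
    · rw [e1, hc1, add_zero, Function.update_of_ne h12, Pi.one_apply, mul_one, Pi.single_eq_same]
    · rw [show c i = -((w ᵥ* M.1) i) from Function.update_of_ne hi _ _, add_neg_cancel, zero_mul,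
        Pi.single_eq_of_ne hi]
  refine isConj_iff.mpr ⟨A, ?_⟩
  rw [mul_inv_eq_iff_eq_mul]
  apply Subtype.ext
  rw [SpecialLinearGroup.coe_mul, SpecialLinearGroup.coe_mul, coe_tv, coe_tv, Matrix.mul_add,
    Matrix.mul_one, mul_vecMulVec, hA0, Matrix.add_mul, Matrix.one_mul, vecMulVec_mul, hwA]

end CfsgLib.PSLn
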