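import Cfsg.Agent.Lib.PSLn.Basic
import Mathlib.LinearAlgebra.Matrix.Block
import Mathlib.LinearAlgebra.Matrix.Permutation
import Mathlib.LinearAlgebra.Matrix.Swap
import Mathlib.GroupTheory.Sylow
import Mathlib.Algebra.Order.Field.Basic

/-!
Every automorphism of `PSL_n(q)` sends root subgroups to transvection subgroups: the long root
subgroup is the centre of a Sylow `p`-subgroup.
-/

set_option autoImplicit false

namespace CfsgLib.PSLn

open Matrix
open scoped MatrixGroups

variable {F : Type*} [Field F] {n : ℕ}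

local notation "SL" => Matrix.SpecialLinearGroup (Fin n) F
local notation "PSL" => Matrix.ProjectiveSpecialLinearGroup (Fin n) F
local notation "V" => (Fin n → F)

theorem upper_mul {A B : Matrix (Fin n) (Fin n) F}
    (hA : ∀ i j, j ≤ i → A i j = (1 : Matrix (Fin n) (Fin n) F) i j)
    (hB : ∀ i j, j ≤ i → B i j = (1 : Matrix (Fin n) (Fin n) F) i j) (i j : Fin n) (hij : j ≤ i) :
    (A * B) i j = (1 : Matrix (Fin n) (Fin n) F) i j := by
  rw [Matrix.mul_apply, Finset.sum_eq_single i]
  · rw [hA i i le_rfl, one_apply_eq, one_mul, hB i j hij]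
  · intro k _ hk
    rcases lt_or_gt_of_ne hk with h | h
    · rw [hA i k h.le, one_apply_ne h.ne', zero_mul]
    · rw [hB k j (hij.trans h.le), one_apply_ne (ne_of_gt (lt_of_le_of_lt hij h)), mul_zero]
  · simp

/-- Upper unitriangular matrices. -/
def upper (F : Type*) [Field F] [Finite F] (n : ℕ) :
    Subgroup (Matrix.SpecialLinearGroup (Fin n) F) where
  carrier := {A | ∀ i j, j ≤ i → A.1 i j = (1 : Matrix (Fin n) (Fin n) F) i j}
  one_mem' := fun i j _ => by simp
  mul_mem' := fun {A B} hA hB i j hij => by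
    rw [SpecialLinearGroup.coe_mul]; exact upper_mul hA hB i j hij
  inv_mem' := fun {A} hA => by
    have hmem : ∀ k : ℕ, ∀ i j, j ≤ i → (A ^ k).1 i j = (1 : Matrix (Fin n) (Fin n) F) i j := by
      intro k
      induction k with
      | zero => intro i j _; simp
      | succ k ih => intro i j hij; rw [pow_succ, SpecialLinearGroup.coe_mul]; exact upper_mul ih hA i j hij
    have h : A⁻¹ = A ^ (orderOf A - 1) := by
      refine inv_eq_of_mul_eq_one_right ?_
      rw [← pow_succ', Nat.sub_add_cancel (orderOf_pos A), pow_orderOf_eq_one]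
    rw [h]
    exact hmem _

variable [Fintype F]

theorem mem_upper {A : SL} :
    A ∈ upper F n ↔ ∀ i j, j ≤ i → A.1 i j = (1 : Matrix (Fin n) (Fin n) F) i j := Iff.rfl

theorem xx_mem_upper {i j : Fin n} (hij : i < j) (a : F) : xx i j hij.ne a ∈ upper F n := by
  intro k l hkl
  rw [coe_xx, Matrix.add_apply, Matrix.single_apply, if_neg, add_zero]
  rintro ⟨rfl, rfl⟩
  exact absurd hkl (not_le.mpr hij)

theorem card_upper : Nat.card (upper F n) = ∏ j : Fin n, Fintype.card F ^ (j : ℕ) := by
  classical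
  let e : upper F n ≃ ((j : Fin n) → Fin (j : ℕ) → F) :=
    { toFun := fun A j i => A.1.1 ⟨i.1, i.2.trans j.2⟩ j
      invFun := fun g =>
        let M : Matrix (Fin n) (Fin n) F :=
          fun i j => if h : i < j then g j ⟨i.1, h⟩ else (1 : Matrix (Fin n) (Fin n) F) i j
        ⟨⟨M, by
          rw [Matrix.det_of_upperTriangular]
          · exact Finset.prod_eq_one fun i _ => by simp [M]
          · intro i j hij
            simp only [id_eq] at hij
            simp [M, not_lt.mpr hij.le, one_apply_ne hij.ne']⟩,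
          fun i j hij => by simp [M, not_lt.mpr hij]⟩
      left_inv := fun A => by
        apply Subtype.ext; apply Subtype.ext
        ext i j
        by_cases h : i < j
        · simp [h]
        · simp [h, A.2 i j (not_lt.mp h)]
      right_inv := fun g => by
        funext j i
        have : (⟨i.1, i.2.trans j.2⟩ : Fin n) < j := i.2
        simp [this] }
  rw [Nat.card_congr e, Nat.card_pi]
  simp [Nat.card_eq_fintype_card]

/-- The projection restricted to the unitriangular group. -/
def upperHom (F : Type*) [Field F] [Finite F] (n : ℕ) :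
    upper F n →* Matrix.ProjectiveSpecialLinearGroup (Fin n) F :=
  (QuotientGroup.mk' _).comp (upper F n).subtype

theorem upperHom_injective : Function.Injective (upperHom F n) := by
  rw [← MonoidHom.ker_eq_bot_iff, Subgroup.eq_bot_iff_forall]
  intro A hA
  rw [MonoidHom.mem_ker] at hA
  have hA' : A.1 ∈ Subgroup.center SL := (QuotientGroup.eq_one_iff _).mp hA
  obtain ⟨r, -, hr⟩ := SpecialLinearGroup.mem_center_iff.mp hA'
  apply Subtype.ext; apply Subtype.ext
  ext i j
  have h1 : r = 1 := by
    have := A.2 i i le_rfl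
    rw [← hr] at this
    simpa using this
  rw [← hr, h1]
  simp

/-- The upper unitriangular Sylow subgroup. -/
noncomputable def upperSylow (p : ℕ) [Fact p.Prime] [CharP F p] : Sylow p PSL :=
  (IsPGroup.to_le (H := (upperHom F n).range) (by
    intro x
    obtain ⟨f, hp, hf⟩ := FiniteField.card F p
    have hU : IsPGroup p (upper F n) := IsPGroup.of_card (n := ∑ j : Fin n, (f : ℕ) * (j : ℕ)) (by
      rw [card_upper, ← Finset.prod_pow_eq_pow_sum]
      exact Finset.prod_congr rfl fun j _ => by rw [hf, pow_mul])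
    exact (hU.of_surjective _ (upperHom F n).rangeRestrict_surjective) x) le_rfl).toSylow (by
    intro hdvd
    have hcard : Nat.card (upperHom F n).range = Nat.card (upper F n) :=
      (Nat.card_congr (MonoidHom.ofInjective (upperHom_injective (F := F) (n := n))).toEquiv).symm
    have h1 : Nat.card (upperHom F n).range * (upperHom F n).range.index ∣ Nat.card (GL (Fin n) F) := by
      rw [Subgroup.card_mul_index]
      exact (Subgroup.card_quotient_dvd_card (Subgroup.center SL)).trans
        (Subgroup.card_dvd_of_injective _ (SpecialLinearGroup.toGL_injective (n := Fin n) (R := F)))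
    have h2 : Nat.card (GL (Fin n) F) =
        Nat.card (upper F n) * ∏ i : Fin n, (Fintype.card F ^ (n - (i : ℕ)) - 1) := by
      rw [card_upper, Matrix.card_GL_field, ← Finset.prod_mul_distrib]
      refine Finset.prod_congr rfl fun i _ => ?_
      rw [Nat.mul_sub, mul_one, ← pow_add, Nat.add_sub_cancel' i.2.le]
    rw [h2, hcard] at h1
    have h3 := hdvd.trans ((Nat.mul_dvd_mul_iff_left Nat.card_pos).mp h1)
    obtain ⟨i, -, hi⟩ := (Nat.prime_iff.mp Fact.out).exists_mem_finset_dvd h3
    obtain ⟨f, hp, hf⟩ := FiniteField.card F p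
    have hne : (f : ℕ) * (n - (i : ℕ)) ≠ 0 := Nat.mul_ne_zero f.ne_zero (Nat.sub_ne_zero_of_lt i.2)
    rw [hf, ← pow_mul] at hi
    have h4 : p ∣ p ^ ((f : ℕ) * (n - (i : ℕ))) := dvd_pow_self p hne
    have h5 := Nat.dvd_sub h4 hi
    rw [Nat.sub_sub_self (Nat.one_le_pow _ _ (Fact.out : p.Prime).pos)] at h5
    exact (Fact.out : p.Prime).not_dvd_one h5)

theorem coe_upperSylow (p : ℕ) [Fact p.Prime] [CharP F p] :
    ((upperSylow (F := F) (n := n) p : Sylow p PSL) : Subgroup PSL) = (upperHom F n).range := rfl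

/-- The centre of the unitriangular group is the long root group. -/
theorem eq_long_root_of_commute {a b : Fin n} (hab : a < b) (ha : ∀ i, a ≤ i) (hb : ∀ i, i ≤ b)
    {A : SL} (hA : A ∈ upper F n)
    (hcomm : ∀ i j (hij : i < j), Commute (mk A) (mk (xx i j hij.ne 1))) :
    A = xx a b hab.ne (A.1 a b) := by
  have key : ∀ i j (hij : i < j), A.1 * single i j (1 : F) = single i j (1 : F) * A.1 := by
    intro i j hij
    have h := hcomm i j hij
    have e : mk (A * xx i j hij.ne 1 * A⁻¹) = mk (xx i j hij.ne 1) := by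
      rw [map_mul, map_mul, map_inv, h.eq, mul_inv_cancel_right]
    have sq : ((A * xx i j hij.ne 1 * A⁻¹).1 - 1) * ((A * xx i j hij.ne 1 * A⁻¹).1 - 1) = 0 := by
      rw [show A * xx i j hij.ne 1 * A⁻¹ = conjSL (SpecialLinearGroup.toGL A) (xx i j hij.ne 1) by
        rw [conjSL_toGL, MulAut.conj_apply], xx_eq_tv]
      obtain ⟨h', e'⟩ := conjSL_tv (SpecialLinearGroup.toGL A) _ _ (dot_single_ne hij.ne (1 : F))
      rw [e']
      exact tv_sq _ _ _
    have e2 := sqzero_unique sq (by rw [xx_eq_tv]; exact tv_sq _ _ _) e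
    have e3 : A * xx i j hij.ne 1 = xx i j hij.ne 1 * A := by
      rw [mul_inv_eq_iff_eq_mul] at e2; exact e2
    have e4 := congrArg Subtype.val e3
    rw [SpecialLinearGroup.coe_mul, SpecialLinearGroup.coe_mul, coe_xx, Matrix.mul_add,
      Matrix.add_mul, Matrix.mul_one, Matrix.one_mul] at e4
    exact add_left_cancel e4
  apply Subtype.ext
  ext k l
  rw [coe_xx, Matrix.add_apply]
  by_cases hkl : k < l
  · by_cases h : k = a ∧ l = b
    · obtain ⟨rfl, rfl⟩ := h; simp [hkl.ne]
    · rw [Matrix.single_apply, if_neg fun h' => h ⟨h'.1.symm, h'.2.symm⟩, add_zero,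
        one_apply_ne hkl.ne]
      rcases eq_or_ne l b with rfl | hlb
      · -- use the row
        have hak : a < k := lt_of_le_of_ne (ha k) fun h' => h ⟨h'.symm, rfl⟩
        have := congrFun (congrFun (key a k hak) a) l
        rw [Matrix.mul_single_apply_of_ne (hbj := hkl.ne'), Matrix.single_mul_apply_same, one_mul]
          at this
        exact this.symm
      · have hlb' : l < b := lt_of_le_of_ne (hb l) hlb
        have := congrFun (congrFun (key l b hlb') k) b
        rw [Matrix.mul_single_apply_same, mul_one,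
          Matrix.single_mul_apply_of_ne (h := hkl.ne)] at this
        exact this
  · rw [hA k l (not_lt.mp hkl), Matrix.single_apply, if_neg, add_zero]
    rintro ⟨rfl, rfl⟩; exact hkl hab

theorem long_root_commute {a b : Fin n} (hab : a < b) (ha : ∀ i, a ≤ i) (hb : ∀ i, i ≤ b)
    {A : SL} (hA : A ∈ upper F n) (c : F) : A * xx a b hab.ne c = xx a b hab.ne c * A := by
  apply Subtype.ext
  rw [SpecialLinearGroup.coe_mul, SpecialLinearGroup.coe_mul, coe_xx, Matrix.mul_add,
    Matrix.add_mul, Matrix.mul_one, Matrix.one_mul]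
  congr 1
  ext k l
  by_cases hl : l = b
  · subst hl
    rw [Matrix.mul_single_apply_same, hA k a (ha k)]
    by_cases hk : k = a
    · subst hk
      rw [Matrix.single_mul_apply_same, hA l l le_rfl]; simp
    · rw [Matrix.single_mul_apply_of_ne (h := hk), one_apply_ne hk, zero_mul]
  · rw [Matrix.mul_single_apply_of_ne (hbj := hl)]
    by_cases hk : k = a
    · subst hk
      rw [Matrix.single_mul_apply_same, hA b l (hb l), one_apply_ne (Ne.symm hl), mul_zero]
    · rw [Matrix.single_mul_apply_of_ne (h := hk)]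

omit [Fintype F] in
/-- Any root group is conjugate to a given one. -/
theorem exists_conj_root {a b i j : Fin n} (hab : a ≠ b) (hij : i ≠ j) :
    ∃ (s : SL) (ε : F), ∀ c, xx i j hij c = s * xx a b hab (ε * c) * s⁻¹ := by
  classical
  let τ₁ : Equiv.Perm (Fin n) := Equiv.swap a i
  let τ : Equiv.Perm (Fin n) := Equiv.swap (τ₁ b) j * τ₁
  have hτa : τ a = i := by
    have h1 : τ₁ a = i := Equiv.swap_apply_left _ _
    rw [Equiv.Perm.mul_apply, h1]
    exact Equiv.swap_apply_of_ne_of_ne (fun h => hab (τ₁.injective (h1.trans h))) hij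
  have hτb : τ b = j := by rw [Equiv.Perm.mul_apply, Equiv.swap_apply_left]
  let σ : Equiv.Perm (Fin n) := τ⁻¹
  have hσi : σ i = a := by simp [σ, ← hτa]
  have hσj : σ j = b := by simp [σ, ← hτb]
  let ε : F := ((Equiv.Perm.sign σ : ℤˣ) : ℤ)
  have hε : ε * ε = 1 := by
    rcases Int.units_eq_one_or (Equiv.Perm.sign σ) with h | h <;> simp [ε, h]
  let M : Matrix (Fin n) (Fin n) F := Matrix.diagonal (Function.update 1 i ε) * σ.permMatrix F
  have hdet : M.det = 1 := by
    rw [Matrix.det_mul, Matrix.det_diagonal, Matrix.det_permutation,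
      Finset.prod_update_of_mem (Finset.mem_univ i)]
    simp only [Pi.one_apply, Finset.prod_const_one, mul_one]
    exact hε
  let s : SL := ⟨M, hdet⟩
  refine ⟨s, ε, fun c => ?_⟩
  obtain ⟨h', e⟩ := conjSL_tv (SpecialLinearGroup.toGL s) _ _ (dot_single_ne hab (ε * c))
  rw [← MulAut.conj_apply, ← conjSL_toGL, xx_eq_tv a b, e, xx_eq_tv]
  apply tv_congr
  · change _ = M *ᵥ _
    rw [← Matrix.mulVec_mulVec, Matrix.permMatrix_mulVec]
    funext k
    rw [Matrix.mulVec_diagonal]
    by_cases hk : k = i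
    · subst hk; simp [hσi, ← mul_assoc, hε]
    · have : σ k ≠ a := fun h => hk (σ.injective (h.trans hσi.symm))
      simp [hk, Function.update_of_ne, this]
  · have hrow : (Pi.single j 1 : V) ᵥ* M = Pi.single b 1 := by
      funext k
      rw [Matrix.single_one_vecMul, Matrix.row_def]
      simp only [M, Matrix.diagonal_mul, Function.update_of_ne hij.symm, Pi.one_apply, one_mul,
        PEquiv.toMatrix_apply, Equiv.Perm.permMatrix, Equiv.toPEquiv_apply, hσj]
      by_cases hk : k = b
      · subst hk; simp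
      · simp [hk, Ne.symm hk]
    change _ = _ ᵥ* ((SpecialLinearGroup.toGL s)⁻¹).1
    rw [← hrow, Matrix.vecMul_vecMul]
    have : M * ((SpecialLinearGroup.toGL s)⁻¹).1 = 1 := by
      rw [show M = (SpecialLinearGroup.toGL s).1 from rfl, ← Units.val_mul, mul_inv_cancel,
        Units.val_one]
    rw [this, Matrix.vecMul_one]

/-- An automorphism maps each root group into a transvection group. -/
theorem exists_transvection_image (p : ℕ) [Fact p.Prime] [CharP F p] (φ : MulAut PSL)
    {i j : Fin n} (hij : i ≠ j) : ∃ (v f : V) (h : f ⬝ᵥ v = 0), v ≠ 0 ∧ f ≠ 0 ∧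
      ∀ c : F, ∃ d : F, φ (mk (xx i j hij c)) =
        mk (tv (d • v) f (by rw [dotProduct_smul, h, smul_zero])) := by
  classical
  have hn : 2 ≤ n := by
    have h1 := i.2
    have h2 := j.2
    have : i.1 ≠ j.1 := fun h => hij (Fin.ext h)
    omega
  let a : Fin n := ⟨0, by omega⟩
  let b : Fin n := ⟨n - 1, by omega⟩
  have hab : a < b := by simp [a, b, Fin.lt_def]; omega
  have ha : ∀ k, a ≤ k := fun k => by simp [a, Fin.le_def]
  have hb : ∀ k, k ≤ b := fun k => by simp [b, Fin.le_def]; omega
  have : Finite PSL := Quotient.finite _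
  let U := upperSylow (F := F) (n := n) p
  obtain ⟨g, hg⟩ := MulAction.exists_smul_eq PSL (U.mapSurjective (f := φ.toMonoidHom) φ.surjective) U
  have hUU : ∀ x : PSL, x ∈ (upperHom F n).range ↔
      ∃ y ∈ (upperHom F n).range, g * φ y * g⁻¹ = x := by
    intro x
    have : x ∈ ((g • (U.mapSurjective (f := φ.toMonoidHom) φ.surjective) : Sylow p PSL) :
        Subgroup PSL) ↔ x ∈ (U : Subgroup PSL) := by rw [hg]
    rw [← coe_upperSylow (F := F) (n := n) p, ← this, Sylow.coe_subgroup_smul]
    constructor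
    · rintro ⟨_, ⟨y, hy, rfl⟩, rfl⟩
      exact ⟨y, hy, rfl⟩
    · rintro ⟨y, hy, rfl⟩
      exact ⟨φ y, ⟨y, hy, rfl⟩, rfl⟩
  -- the image of the long root group
  have hlong : ∀ c : F, ∃ d : F, g * φ (mk (xx a b hab.ne c)) * g⁻¹ = mk (xx a b hab.ne d) := by
    intro c
    have hmem : mk (xx a b hab.ne c) ∈ (upperHom F n).range := ⟨⟨_, xx_mem_upper hab c⟩, rfl⟩
    obtain ⟨⟨A, hA⟩, hAe⟩ := (hUU _).mpr ⟨_, hmem, rfl⟩
    refine ⟨A.1 a b, ?_⟩
    rw [← hAe]
    change mk A = _
    congr 1
    refine eq_long_root_of_commute hab ha hb hA fun k l hkl => ?_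
    obtain ⟨y, ⟨⟨B, hB⟩, rfl⟩, hy⟩ := (hUU (mk (xx k l hkl.ne 1))).mp ⟨⟨_, xx_mem_upper hkl 1⟩, rfl⟩
    change Commute (upperHom F n ⟨A, hA⟩) _
    rw [hAe, ← hy]
    have hc : Commute (mk (xx a b hab.ne c)) (upperHom F n ⟨B, hB⟩) := by
      change mk _ * mk B = mk B * mk _
      rw [← map_mul, ← map_mul, long_root_commute hab ha hb hB c]
    have := (hc.map φ.toMonoidHom).map (MulAut.conj g).toMonoidHom
    exact this
  obtain ⟨G, hG⟩ := mk_surjective g
  obtain ⟨s, ε, hs⟩ := exists_conj_root (F := F) hab.ne hij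
  obtain ⟨S, hS⟩ := mk_surjective (φ (mk s))
  let T : GL (Fin n) F := SpecialLinearGroup.toGL (S * G⁻¹)
  let v : V := T.1 *ᵥ Pi.single a 1
  let f : V := Pi.single b 1 ᵥ* (T⁻¹).1
  obtain ⟨h, -⟩ := conjSL_tv T (Pi.single a 1 : V) (Pi.single b 1)
    (by simp [single_dotProduct, hab.ne'])
  have hv : v ≠ 0 := fun h0 => by
    have := congrArg (fun w => (T⁻¹).1 *ᵥ w) h0
    simp only [v, Matrix.mulVec_mulVec, ← Units.val_mul, inv_mul_cancel, Units.val_one,
      Matrix.one_mulVec, Matrix.mulVec_zero] at this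
    simpa using congrFun this a
  have hf : f ≠ 0 := fun h0 => by
    have := congrArg (fun w => w ᵥ* T.1) h0
    simp only [f, Matrix.vecMul_vecMul, ← Units.val_mul, inv_mul_cancel, Units.val_one,
      Matrix.vecMul_one, Matrix.zero_vecMul] at this
    simpa using congrFun this b
  refine ⟨v, f, h, hv, hf, fun c => ?_⟩
  obtain ⟨d, hd⟩ := hlong (ε * c)
  refine ⟨d, ?_⟩
  have e1 : φ (mk (xx a b hab.ne (ε * c))) = g⁻¹ * mk (xx a b hab.ne d) * g := by
    rw [← hd]; group
  rw [hs, map_mul, map_mul, map_inv, map_mul, map_mul, map_inv, e1, ← hG, ← hS]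
  obtain ⟨h'', e2⟩ := conjSL_tv T _ _ (dot_single_ne hab.ne d)
  have e3 : mk S * ((mk G)⁻¹ * mk (xx a b hab.ne d) * mk G) * (mk S)⁻¹ =
      mk (conjSL T (xx a b hab.ne d)) := by
    rw [show T = SpecialLinearGroup.toGL (S * G⁻¹) from rfl, conjSL_toGL, MulAut.conj_apply, map_mul,
      map_mul, map_inv, map_mul, map_inv]
    group
  rw [e3, xx_eq_tv, e2]
  congr 1
  exact tv_congr _ _ (Matrix.mulVec_smul _ _ _) rfl

end CfsgLib.PSLn
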