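import Cfsg.Agent.Lib.GLFlags.Unipotent
import Cfsg.Agent.Lib.PSLn.Sylow
import Cfsg.Agent.Lib.CharTheory.ExtCriteria
import Cfsg.Agent.Lib.CharTheory.Linear
import Cfsg.Agent.Lib.Blocks.ThreePrimes
import Cfsg.Agent.Lib.Blocks.Reynolds

/-!
The Steinberg character of `GL_n(q)`, its restriction to `SL_n(q)` and the character of `PSL_n(q)`.
-/

set_option autoImplicit false

namespace CfsgLib.PSLn.St

open Cfsg Matrix CfsgLib.GLFlags CfsgLib.CharTheory
open scoped MatrixGroups

variable {F : Type*} [Field F] [Fintype F] {n : ℕ}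

/-- The Steinberg character of `GL_n`. -/
noncomputable def stGL (n : ℕ) (F : Type*) [Field F] : GL (Fin n) F → ℂ :=
  unipotentCharacterGL n F fun _ => 1

theorem sum_ones : ∑ _i : Fin n, (1 : ℕ) = n := by simp

theorem qInt_add (q a b : ℕ) : qInt q (a + b) = qInt q a + q ^ a * qInt q b := by
  simp only [qInt, Finset.sum_range_add, Finset.mul_sum, pow_add]

theorem prod_diff (q : ℕ) (j : ℕ) :
    ∏ i ∈ Finset.range j, ((qInt q (j + 1) : ℂ) - qInt q (i + 1)) =
      (q : ℂ) ^ (j + 1).choose 2 * (qFac q j : ℂ) := by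
  have h1 : ∀ i ∈ Finset.range j, ((qInt q (j + 1) : ℂ) - qInt q (i + 1)) =
      (q : ℂ) ^ (i + 1) * (qInt q (j - i) : ℂ) := by
    intro i hi
    have hij := Finset.mem_range.1 hi
    have e : qInt q (j + 1) = qInt q (i + 1) + q ^ (i + 1) * qInt q (j - i) := by
      rw [← qInt_add]; congr 1; omega
    rw [e]; push_cast; ring
  rw [Finset.prod_congr rfl h1, Finset.prod_mul_distrib, Finset.prod_pow_eq_pow_sum]
  congr 1
  · congr 1
    have : ∀ m, ∑ i ∈ Finset.range m, (i + 1) = (m + 1).choose 2 := fun m => by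
      induction m with
      | zero => simp
      | succ m ih => rw [Finset.sum_range_succ, ih, Nat.choose_succ_succ' (m + 1) 1, Nat.choose_one_right, add_comm]
    exact this j
  · rw [qFac, Nat.cast_prod, ← Finset.prod_range_reflect]
    refine Finset.prod_congr rfl fun i hi => ?_
    have := Finset.mem_range.1 hi
    congr 2; omega

theorem stGL_one : stGL n F 1 = (Fintype.card F : ℂ) ^ n.choose 2 := by
  have h := unipotent_one (F := F) (ν := fun _ : Fin n => 1) sum_ones
  set q := Fintype.card F with hq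
  have hq0 : (q : ℂ) ≠ 0 := Nat.cast_ne_zero.2 Fintype.card_ne_zero
  have hL : ∏ i : Fin n, (qFac q (shift (fun _ => 1) i) : ℂ) = ∏ k ∈ Finset.range n, (qFac q (k + 1) : ℂ) := by
    rw [← Fin.prod_univ_eq_prod_range]
    exact Finset.prod_congr rfl fun i _ => by rw [shift, add_comm]
  have hR : ∏ i : Fin n, ∏ j ∈ Finset.Ioi i,
      ((qInt q (shift (fun _ => 1) j) : ℂ) - qInt q (shift (fun _ => 1) i)) =
      (q : ℂ) ^ (n + 1).choose 3 * ∏ k ∈ Finset.range n, (qFac q k : ℂ) := by
    rw [Finset.prod_comm' (t' := Finset.univ) (s' := fun j => Finset.Iio j) (fun i j => by simp)]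
    have h2 : ∀ j : Fin n, ∏ i ∈ Finset.Iio j,
        ((qInt q (shift (fun _ => 1) j) : ℂ) - qInt q (shift (fun _ => 1) i)) =
        (q : ℂ) ^ ((j : ℕ) + 1).choose 2 * (qFac q (j : ℕ) : ℂ) := by
      intro j
      rw [← prod_diff]
      refine Finset.prod_bij' (fun i _ => (i : ℕ)) (fun k hk => ⟨k, (Finset.mem_range.1 hk).trans j.2⟩)
        (fun i hi => by simpa [Finset.mem_range] using hi)
        (fun k hk => by simpa [Finset.mem_Iio, Fin.lt_def] using hk) (fun i _ => rfl) (fun k _ => rfl) ?_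
      intro i _
      simp only [shift, add_comm]
    rw [Finset.prod_congr rfl fun j _ => h2 j, Finset.prod_mul_distrib, Finset.prod_pow_eq_pow_sum,
      Fin.prod_univ_eq_prod_range (fun k => (qFac q k : ℂ)) n]
    congr 2
    rw [Fin.sum_univ_eq_sum_range (fun k => (k + 1).choose 2) n, ← sum_choose_two (n + 1),
      Finset.sum_range_succ']
    simp
  rw [hL, hR] at h
  have hP : (∏ k ∈ Finset.range n, (qFac q (k + 1) : ℂ)) = (qFac q n : ℂ) * ∏ k ∈ Finset.range n, (qFac q k : ℂ) := by
    have e1 := Finset.prod_range_succ' (fun k => (qFac q k : ℂ)) n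
    have e2 := Finset.prod_range_succ (fun k => (qFac q k : ℂ)) n
    have e3 : (qFac q 0 : ℂ) = 1 := by simp [qFac]
    rw [e2, e3, mul_one] at e1
    rw [← e1, mul_comm]
  have hne : (qFac q n : ℂ) * ∏ k ∈ Finset.range n, (qFac q k : ℂ) ≠ 0 :=
    mul_ne_zero (Nat.cast_ne_zero.2 (qFac_pos _ _).ne')
      (Finset.prod_ne_zero_iff.2 fun k _ => Nat.cast_ne_zero.2 (qFac_pos _ _).ne')
  refine mul_right_cancel₀ (mul_ne_zero (pow_ne_zero (n.choose 3) hq0) hne) ?_
  calc _ = stGL n F 1 * (q : ℂ) ^ n.choose 3 * ((qFac q n : ℂ) * ∏ k ∈ Finset.range n, (qFac q k : ℂ)) := by ring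
    _ = _ := by
      rw [← hP, stGL, h, hP]
      have e : (n + 1).choose 3 = n.choose 2 + n.choose 3 := Nat.choose_succ_succ' n 2
      rw [e, pow_add]; ring

theorem stGL_irr : IsIrrCharacter (GL (Fin n) F) (stGL n F) := by
  classical
  obtain ⟨ε, hε, horth⟩ := altSum_eq n
  have hmono : Monotone (fun _ : Fin n => 1) := monotone_const
  have hs := shift_strictMono hmono
  have hnorm := classInner_unipotent (F := F) sum_ones (sum_ones (n := n))
  rw [horth _ _ hs hs, if_pos rfl] at hnorm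
  have hg := isGenChar_unipotent (F := F) (n := n) fun _ => 1
  obtain ⟨c, -, -, hsq⟩ := classInner_self_eq_sum_sq hg
  rw [hnorm, Int.cast_inj] at hsq
  have hε1 : ε = 1 := by
    refine hε.resolve_right fun h => ?_
    have h0 : 0 ≤ ∑ ψ, c ψ ^ 2 := Finset.sum_nonneg fun ψ _ => sq_nonneg _
    omega
  subst hε1
  exact irr_of_norm_one hg (hnorm.trans Int.cast_one) (unipotent_one_pos hmono sum_ones)

/-- Central scalar elements act trivially on the permutation modules, so lie in the kernel. -/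
theorem stGL_scalar {z : GL (Fin n) F} (r : F) (hz : z.1 = Matrix.scalar (Fin n) r) :
    stGL n F z = stGL n F 1 := by
  have hc : ∀ g : GL (Fin n) F, z * g = g * z := fun g => by
    apply Units.ext
    rw [Units.val_mul, Units.val_mul, hz]
    exact (Matrix.scalar_commute r (fun _ => Commute.all _ _) _).eq
  rw [stGL, unipotentCharacterGL_eq]
  simp only [Finset.sum_apply, Pi.smul_apply]
  refine Finset.sum_congr rfl fun κ _ => ?_
  by_cases hκ : ∀ i, (κ i).val ≤ shift (fun _ : Fin n => 1) i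
  · congr 1
    unfold fixedPointCharacter
    rw [Nat.cast_inj]
    refine Nat.card_congr (Equiv.setCongr (Set.ext fun x => ?_))
    simp only [MulAction.mem_fixedBy, one_smul, iff_true]
    obtain ⟨g, rfl⟩ := QuotientGroup.mk_surjective x
    show (QuotientGroup.mk (z * g) : GL (Fin n) F ⧸ _) = QuotientGroup.mk g
    rw [hc g]
    apply QuotientGroup.mk_mul_of_mem
    refine upper_le_parabolicGL (sum_sub_perm sum_ones hκ) ?_
    show (z.1).BlockTriangular id
    rw [hz, Matrix.scalar_apply]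
    exact Matrix.blockTriangular_diagonal _
  · simp [altCoeff, hκ]

theorem card_GL_fact (p : ℕ) [Fact p.Prime] [CharP F p] :
    (Nat.card (GL (Fin n) F)).factorization p = (Fintype.card F ^ n.choose 2).factorization p := by
  obtain ⟨f, hp, hf⟩ := FiniteField.card F p
  rw [card_GL_eq]
  have hq1 : 1 < Fintype.card F := Fintype.one_lt_card
  have h1 : ¬ p ∣ Fintype.card F - 1 := fun h => by
    have h2 : p ∣ Fintype.card F := hf ▸ dvd_pow_self p f.ne_zero
    have h3 := Nat.dvd_sub h2 h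
    rw [Nat.sub_sub_self hq1.le] at h3
    exact (Fact.out : p.Prime).not_dvd_one h3
  have h4 : ∀ k, ¬ p ∣ qInt (Fintype.card F) (k + 1) := fun k h => by
    rw [qInt, Finset.sum_range_succ', pow_zero] at h
    have h2 : p ∣ ∑ i ∈ Finset.range k, Fintype.card F ^ (i + 1) :=
      Finset.dvd_sum fun i _ => (hf ▸ dvd_pow_self p f.ne_zero : p ∣ Fintype.card F).trans (dvd_pow_self _ (Nat.succ_ne_zero i))
    exact (Fact.out : p.Prime).not_dvd_one ((Nat.dvd_add_right h2).1 h)
  have h5 : ¬ p ∣ qFac (Fintype.card F) n := fun h => by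
    obtain ⟨i, -, hi⟩ := (Nat.prime_iff.mp Fact.out).exists_mem_finset_dvd h
    exact h4 i hi
  have hq0 : Fintype.card F ^ n.choose 2 ≠ 0 := pow_ne_zero _ (by omega)
  rw [Nat.factorization_mul (Nat.mul_ne_zero hq0 (pow_ne_zero _ (by omega))) (qFac_pos _ _).ne',
    Nat.factorization_mul hq0 (pow_ne_zero _ (by omega))]
  simp [Nat.factorization_eq_zero_of_not_dvd h1, Nat.factorization_eq_zero_of_not_dvd h5]

theorem stGL_vanish (p : ℕ) [Fact p.Prime] [CharP F p] {g : GL (Fin n) F} (hg : p ∣ orderOf g) :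
    stGL n F g = 0 := by
  classical
  obtain ⟨M, hM⟩ := CfsgLib.Blocks.exists_pModular (p := p) Fact.out
  refine CfsgLib.Blocks.ThreePrimes.vanish_of_defZero hM ⟨stGL n F, stGL_irr⟩ ?_ hg
  rw [CfsgLib.Blocks.dv_of_one (n := Fintype.card F ^ n.choose 2) (by push_cast; exact stGL_one), card_GL_fact p]

theorem toGL_range_normal : ((SpecialLinearGroup.toGL : Matrix.SpecialLinearGroup (Fin n) F →* GL (Fin n) F).range).Normal := by
  have e : (SpecialLinearGroup.toGL : Matrix.SpecialLinearGroup (Fin n) F →* GL (Fin n) F).range =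
      GeneralLinearGroup.det.ker := by
    ext g
    rw [MonoidHom.mem_ker, MonoidHom.mem_range]
    constructor
    · rintro ⟨A, rfl⟩; exact Units.ext A.2
    · intro h; exact ⟨⟨g.1, congrArg Units.val h⟩, Units.ext rfl⟩
  rw [e]; infer_instance

/-- The Steinberg character of `SL_n`. -/
noncomputable def stSL (n : ℕ) (F : Type*) [Field F] : Matrix.SpecialLinearGroup (Fin n) F → ℂ :=
  fun A => stGL n F (SpecialLinearGroup.toGL A)

theorem stSL_one : stSL n F 1 = (Fintype.card F : ℂ) ^ n.choose 2 := by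
  rw [stSL, map_one, stGL_one]

theorem stSL_irr (p : ℕ) [Fact p.Prime] [CharP F p] :
    IsIrrCharacter (Matrix.SpecialLinearGroup (Fin n) F) (stSL n F) := by
  classical
  let φ := (SpecialLinearGroup.toGL : Matrix.SpecialLinearGroup (Fin n) F →* GL (Fin n) F)
  haveI : φ.range.Normal := toGL_range_normal
  haveI := Fintype.ofFinite φ.range
  have hχ := stGL_irr (F := F) (n := n)
  have hres := isCharacter_restrict (isCharacter_of_irr hχ) φ.range
  have hne : (fun x : φ.range => stGL n F x) ≠ 0 := fun h => by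
    have h1 := congrFun h 1
    simp only [OneMemClass.coe_one, stGL_one, Pi.zero_apply] at h1
    exact pow_ne_zero _ (Nat.cast_ne_zero.2 Fintype.card_ne_zero) h1
  obtain ⟨θ, hθ, hc⟩ := exists_constituent hres hne
  obtain ⟨e, he, hdvd⟩ := degree_ratio_dvd hχ hθ hc
  obtain ⟨d, -, hd⟩ := irr_degree_pos hθ
  rw [stGL_one, hd, ← Nat.cast_pow, ← Nat.cast_mul, Nat.cast_inj] at he
  have hidx : φ.range.index ∣ Fintype.card F - 1 := by
    have e1 : φ.range = GeneralLinearGroup.det.ker := by
      ext g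
      rw [MonoidHom.mem_ker, MonoidHom.mem_range]
      constructor
      · rintro ⟨A, rfl⟩; exact Units.ext A.2
      · intro h; exact ⟨⟨g.1, congrArg Units.val h⟩, Units.ext rfl⟩
    rw [e1, Subgroup.index_ker, ← Fintype.card_units, ← Nat.card_eq_fintype_card]
    exact Subgroup.card_subgroup_dvd_card _
  have he1 : e = 1 := by
    have h1 : e ∣ Fintype.card F ^ n.choose 2 := ⟨d, he⟩
    have h2 : Nat.Coprime (Fintype.card F - 1) (Fintype.card F ^ n.choose 2) :=
      ((Nat.coprime_self_sub_left (Nat.one_le_of_lt Fintype.one_lt_card)).2 (Nat.coprime_one_left _)).pow_right _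
    exact Nat.eq_one_of_dvd_coprimes h2 (hdvd.trans hidx) h1
  -- the restriction is its constituent
  have heq : (fun x : φ.range => stGL n F x) = θ := by
    have h1 : θ 1 = stGL n F ((1 : φ.range) : GL (Fin n) F) := by
      rw [OneMemClass.coe_one, stGL_one, hd, ← Nat.cast_pow, he, he1, one_mul]
    obtain ⟨ψ, hψ⟩ : ∃ ψ, ψ = (fun x : φ.range => stGL n F x) - θ := ⟨_, rfl⟩
    have hψc : IsCharacter φ.range ψ := hψ ▸ isCharacter_sub_irr hres hθ hc
    have hψ0 := eq_zero_of_degree_zero hψc (by rw [hψ, Pi.sub_apply, h1, sub_self])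
    rw [hψ, sub_eq_zero] at hψ0
    exact hψ0
  have hirr : IsIrrCharacter φ.range (fun x : φ.range => stGL n F x) := heq ▸ hθ
  exact isIrrCharacter_comp_surjective hirr φ.rangeRestrict φ.rangeRestrict_surjective

theorem center_scalar {A : Matrix.SpecialLinearGroup (Fin n) F} (hA : A ∈ Subgroup.center _) :
    stSL n F A = stSL n F 1 := by
  obtain ⟨r, -, hr⟩ := Matrix.SpecialLinearGroup.mem_center_iff.mp hA
  rw [stSL, stSL, map_one]
  exact stGL_scalar r hr.symm

theorem exists_psl (p : ℕ) [Fact p.Prime] [CharP F p] :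
    ∃ χ : Matrix.ProjectiveSpecialLinearGroup (Fin n) F → ℂ,
      IsIrrCharacter (Matrix.ProjectiveSpecialLinearGroup (Fin n) F) χ ∧
      χ 1 = (Fintype.card F : ℂ) ^ n.choose 2 ∧
      ∀ A : Matrix.SpecialLinearGroup (Fin n) F, χ A = stSL n F A := by
  obtain ⟨ψ, hψ, he⟩ := exists_quotient_irr (Subgroup.center (Matrix.SpecialLinearGroup (Fin n) F))
    (stSL_irr p) fun A hA => center_scalar hA
  refine ⟨ψ, hψ, ?_, fun A => (congrFun he A).symm⟩
  rw [← stSL_one (n := n) (F := F), congrFun he 1]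
  rfl

theorem card_sylow_psl (p : ℕ) [Fact p.Prime] [CharP F p]
    (P : Sylow p (Matrix.ProjectiveSpecialLinearGroup (Fin n) F)) :
    Nat.card P = Fintype.card F ^ n.choose 2 := by
  haveI : Finite (Matrix.ProjectiveSpecialLinearGroup (Fin n) F) := Quotient.finite _
  rw [Nat.card_congr (P.equiv (upperSylow (F := F) (n := n) p)).toEquiv]
  show Nat.card (upperHom F n).range = _
  rw [(Nat.card_congr (MonoidHom.ofInjective (upperHom_injective (F := F) (n := n))).toEquiv).symm,
    card_upper, Finset.prod_pow_eq_pow_sum, Fin.sum_univ_eq_sum_range (fun k => k) n, Finset.sum_range_id,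
    Nat.choose_two_right]

theorem psl_steinberg (p : ℕ) [Fact p.Prime] [CharP F p] :
    ∃ χ : Matrix.ProjectiveSpecialLinearGroup (Fin n) F → ℂ,
      IsIrrCharacter (Matrix.ProjectiveSpecialLinearGroup (Fin n) F) χ ∧
      ∀ P : Sylow p (Matrix.ProjectiveSpecialLinearGroup (Fin n) F), χ 1 = Nat.card P ∧
        ∀ x : Matrix.ProjectiveSpecialLinearGroup (Fin n) F, x ∈ P → x ≠ 1 → χ x = 0 := by
  obtain ⟨χ, hχ, h1, hA⟩ := exists_psl (F := F) (n := n) p
  refine ⟨χ, hχ, fun P => ⟨by rw [h1, card_sylow_psl p P, Nat.cast_pow], fun x hx hx1 => ?_⟩⟩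
  obtain ⟨A, rfl⟩ := QuotientGroup.mk_surjective x
  rw [hA, stSL]
  refine stGL_vanish p ?_
  rw [orderOf_injective _ SpecialLinearGroup.toGL_injective]
  obtain ⟨k, hk⟩ := P.isPGroup' ⟨_, hx⟩
  have hk' : (A : Matrix.ProjectiveSpecialLinearGroup (Fin n) F) ^ p ^ k = 1 := congrArg Subtype.val hk
  obtain ⟨j, -, hj⟩ := (Nat.dvd_prime_pow Fact.out).1 (orderOf_dvd_of_pow_eq_one hk')
  rcases Nat.eq_zero_or_pos j with rfl | hj0
  · rw [pow_zero, orderOf_eq_one_iff] at hj
    exact absurd hj hx1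
  · exact ((dvd_pow_self p hj0.ne').trans hj.symm.dvd).trans
      (orderOf_map_dvd (QuotientGroup.mk' (Subgroup.center _)) A)

end CfsgLib.PSLn.St
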