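import Mathlib.FieldTheory.Fixed
import Mathlib.FieldTheory.Finite.Basic
import Mathlib.LinearAlgebra.Matrix.GeneralLinearGroup.Defs
import Mathlib.LinearAlgebra.Matrix.NonsingularInverse
import Mathlib.LinearAlgebra.Dual.Lemmas
import Mathlib.GroupTheory.QuotientGroup.Basic

/-!
Galois descent for `GL_n` over a finite field: Hilbert 90, surjectivity of the norm, and the
existence of orthonormal bases for hermitian forms.
-/

set_option autoImplicit false

namespace CfsgLib.PSLn

open Matrix

variable {F : Type*} [Field F] {n : ℕ}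

/-- The fixed field of a ring automorphism. -/
def fixedField (σ : RingAut F) : Subfield F where
  carrier := {x | σ x = x}
  one_mem' := map_one σ
  mul_mem' := fun {a b} ha hb => by simp only [Set.mem_setOf_eq] at ha hb ⊢; rw [map_mul, ha, hb]
  zero_mem' := map_zero σ
  add_mem' := fun {a b} ha hb => by simp only [Set.mem_setOf_eq] at ha hb ⊢; rw [map_add, ha, hb]
  neg_mem' := fun {a} ha => by simp only [Set.mem_setOf_eq] at ha ⊢; rw [map_neg, ha]
  inv_mem' := fun a ha => by simp only [Set.mem_setOf_eq] at ha ⊢; rw [map_inv₀, ha]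

theorem mem_fixedField {σ : RingAut F} {x : F} : x ∈ fixedField σ ↔ σ x = x := Iff.rfl

theorem finite_ringAut [Finite F] : Finite (RingAut F) :=
  Finite.of_injective (fun e : RingAut F => (e : F → F)) DFunLike.coe_injective

theorem card_eq_fixedField_pow [Fintype F] (σ : RingAut F) :
    Fintype.card F = Nat.card (fixedField σ) ^ orderOf σ := by
  classical
  let G := Subgroup.zpowers σ
  have := finite_ringAut (F := F)
  have : Finite G := inferInstance
  have : Fintype G := Fintype.ofFinite _
  have : FaithfulSMul G F := ⟨fun {a b} h => Subtype.ext (RingEquiv.ext fun x => h x)⟩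
  have h1 := FixedPoints.finrank_eq_card G F
  have h2 : Nat.card (FixedPoints.subfield G F) = Nat.card (fixedField σ) := by
    refine Nat.card_congr (Equiv.subtypeEquivRight fun x => ?_)
    constructor
    · intro h
      exact h ⟨σ, Subgroup.mem_zpowers σ⟩
    · intro h a
      obtain ⟨a, k, rfl⟩ := a
      have hk : σ ^ k ∈ MulAction.stabilizer (RingAut F) x :=
        zpow_mem (MulAction.mem_stabilizer_iff.mpr (show σ • x = x from h)) k
      exact hk
  have : Fintype (FixedPoints.subfield G F) := Fintype.ofFinite _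
  rw [← h2, Nat.card_eq_fintype_card, Module.card_eq_pow_finrank (K := FixedPoints.subfield G F), h1,
    ← Nat.card_eq_fintype_card (α := G), show Nat.card G = orderOf σ from Nat.card_zpowers σ]

/-- The `k`-fold twisted product `g σ(g) ⋯ σ^(k-1)(g)`. -/
def tw (σ : RingAut F) (g : Matrix (Fin n) (Fin n) F) : ℕ → Matrix (Fin n) (Fin n) F
  | 0 => 1
  | k + 1 => g * (tw σ g k).map σ

theorem map_pow_apply (σ : RingAut F) (k : ℕ) (A : Matrix (Fin n) (Fin n) F) :
    (A.map σ).map ⇑(σ ^ k) = A.map ⇑(σ ^ (k + 1)) := by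
  rw [Matrix.map_map]; ext i j
  rw [Matrix.map_apply, Matrix.map_apply, Function.comp_apply, pow_succ]; rfl

theorem tw_add (σ : RingAut F) (g : Matrix (Fin n) (Fin n) F) (a b : ℕ) :
    tw σ g (a + b) = tw σ g a * (tw σ g b).map ⇑(σ ^ a) := by
  induction a with
  | zero => simp [tw]
  | succ a ih =>
    rw [Nat.succ_add]
    show g * (tw σ g (a + b)).map σ = g * (tw σ g a).map σ * _
    rw [ih, Matrix.map_mul, Matrix.map_map, Matrix.mul_assoc, pow_succ']
    rfl

theorem tw_one (σ : RingAut F) (g : Matrix (Fin n) (Fin n) F) : tw σ g 1 = g := by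
  show g * (1 : Matrix (Fin n) (Fin n) F).map σ = g
  rw [Matrix.map_one _ (map_zero σ) (map_one σ), Matrix.mul_one]

theorem tw_scalar (σ : RingAut F) (c : F) (k : ℕ) :
    tw σ (Matrix.scalar (Fin n) c) k =
      Matrix.scalar (Fin n) (∏ i ∈ Finset.range k, (σ ^ i) c) := by
  induction k with
  | zero => simp [tw]
  | succ k ih =>
    show _ * (tw σ _ k).map σ = _
    rw [ih, Finset.prod_range_succ', pow_zero, RingAut.one_apply, mul_comm _ c, map_mul]
    congr 1
    rw [Matrix.scalar_apply, Matrix.scalar_apply, Matrix.diagonal_map (map_zero σ)]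
    congr 1; funext i
    rw [map_prod]
    exact Finset.prod_congr rfl fun i _ => by rw [pow_succ']; rfl

theorem mulVec_map (σ : RingAut F) (A : Matrix (Fin n) (Fin n) F) (v : Fin n → F) :
    (fun i => σ ((A *ᵥ v) i)) = A.map σ *ᵥ (fun i => σ (v i)) := by
  funext i
  simp [Matrix.mulVec, dotProduct, map_sum]

/-- Hilbert 90 for `GL_n`. -/
theorem exists_descent (σ : RingAut F) [Finite F] (g : GL (Fin n) F)
    (hg : tw σ g.1 (orderOf σ) = 1) :
    ∃ h : GL (Fin n) F, g.1 * h.1.map σ = h.1 := by
  classical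
  have := finite_ringAut (F := F)
  set r := orderOf σ with hr
  have hr0 : 0 < r := orderOf_pos σ
  let W : Set (Fin n → F) := {v | g.1 *ᵥ (fun i => σ (v i)) = v}
  have span : Submodule.span F W = ⊤ := by
    rw [Submodule.eq_top_iff']
    intro a
    by_contra ha
    obtain ⟨f, hfa, hf⟩ := Submodule.exists_dual_map_eq_bot_of_notMem ha inferInstance
    have hW : ∀ w ∈ W, f w = 0 := fun w hw => by
      have : f w ∈ Submodule.map f (Submodule.span F W) :=
        Submodule.mem_map_of_mem (Submodule.subset_span hw)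
      rwa [hf, Submodule.mem_bot] at this
    let T : ℕ → (Fin n → F) := fun k => tw σ g.1 k *ᵥ (fun i => (σ ^ k) (a i))
    have hT : ∀ (t : F) (k : ℕ), g.1 *ᵥ (fun i => σ (((σ ^ k) t • T k) i)) =
        (σ ^ (k + 1)) t • T (k + 1) := by
      intro t k
      have e : (fun i => σ (((σ ^ k) t • T k) i)) =
          (σ ^ (k + 1)) t • ((tw σ g.1 k).map σ *ᵥ (fun i => (σ ^ (k + 1)) (a i))) := by
        funext i
        rw [Pi.smul_apply, Pi.smul_apply, smul_eq_mul, smul_eq_mul, map_mul, pow_succ']
        show σ ((σ ^ k) t) * σ ((tw σ g.1 k *ᵥ fun i => (σ ^ k) (a i)) i) = _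
        rw [congrFun (mulVec_map σ (tw σ g.1 k) _) i]
        rfl
      rw [e, Matrix.mulVec_smul, Matrix.mulVec_mulVec]
      rfl
    have hfix : ∀ t : F, (∑ k ∈ Finset.range r, (σ ^ k) t • T k) ∈ W := by
      intro t
      show g.1 *ᵥ _ = _
      have e : (fun i => σ ((∑ k ∈ Finset.range r, (σ ^ k) t • T k) i)) =
          ∑ k ∈ Finset.range r, (fun i => σ (((σ ^ k) t • T k) i)) := by
        funext i
        rw [Finset.sum_apply, Finset.sum_apply, map_sum]
      rw [e, Matrix.mulVec_sum, Finset.sum_congr rfl fun k _ => hT t k]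
      have h1 := Finset.sum_range_succ' (fun k => (σ ^ k) t • T k) r
      have h2 := Finset.sum_range_succ (fun k => (σ ^ k) t • T k) r
      have h3 : (σ ^ r) t • T r = (σ ^ 0) t • T 0 := by
        rw [pow_orderOf_eq_one, pow_zero]
        congr 1
        show tw σ g.1 r *ᵥ _ = tw σ g.1 0 *ᵥ _
        rw [hg, pow_orderOf_eq_one, pow_zero]
        rfl
      rw [h3] at h2
      exact add_right_cancel (h1.symm.trans h2)
    have hzero : ∀ t : F, ∑ k ∈ Finset.range r, f (T k) * (σ ^ k) t = 0 := by
      intro t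
      have := hW _ (hfix t)
      rw [map_sum] at this
      rw [← this]
      exact Finset.sum_congr rfl fun k _ => by rw [map_smul, smul_eq_mul, mul_comm]
    let χ : Fin r → (F →* F) := fun k => ((σ ^ (k : ℕ) : RingAut F) : F ≃+* F).toRingHom.toMonoidHom
    have hχ : Function.Injective χ := fun i j h => by
      apply Fin.ext
      refine pow_injOn_Iio_orderOf (x := σ) i.2 j.2 ?_
      exact RingEquiv.ext fun x => DFunLike.congr_fun h x
    have hli := (linearIndependent_monoidHom F F).comp χ hχ
    have hcoef := Fintype.linearIndependent_iff.mp hli (fun k => f (T k)) (by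
      funext t
      rw [Finset.sum_apply]
      simp only [Pi.smul_apply, smul_eq_mul, Function.comp_apply, Pi.zero_apply]
      rw [← hzero t, ← Fin.sum_univ_eq_sum_range (fun k => f (T k) * (σ ^ k) t) r]
      rfl) ⟨0, hr0⟩
    apply hfa
    have e : T 0 = a := by
      show tw σ g.1 0 *ᵥ _ = a
      rw [pow_zero]
      exact Matrix.one_mulVec a
    rw [← e]; exact hcoef
  obtain ⟨b, hbW, hbspan, hbli⟩ := exists_linearIndependent F W
  rw [span] at hbspan
  let B := Module.Basis.mk hbli (by rw [Subtype.range_coe]; exact hbspan.ge)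
  have : Fintype b := (Set.toFinite b).fintype
  have hcard : Fintype.card b = n := by
    have := Module.finrank_eq_card_basis B
    rw [Module.finrank_fin_fun] at this
    exact this.symm
  let e : Fin n ≃ b := (Fintype.equivFinOfCardEq hcard).symm
  let H : Matrix (Fin n) (Fin n) F := Matrix.of fun i j => (e j : Fin n → F) i
  have hu : IsUnit H := by
    rw [← Matrix.linearIndependent_cols_iff_isUnit]
    exact hbli.comp e e.injective
  refine ⟨hu.unit, ?_⟩
  ext i j
  have := congrFun (hbW (e j).2) i
  rw [IsUnit.unit_spec]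
  simpa [Matrix.mul_apply, Matrix.mulVec, dotProduct, H] using this

/-- The norm down to the fixed field, on units. -/
noncomputable def normUnits (σ : RingAut F) : Fˣ →* Fˣ :=
  ∏ i ∈ Finset.range (orderOf σ), Units.map ((σ ^ i : RingAut F) : F ≃+* F).toRingHom.toMonoidHom

theorem coe_normUnits (σ : RingAut F) (c : Fˣ) :
    (normUnits σ c : F) = ∏ i ∈ Finset.range (orderOf σ), (σ ^ i) (c : F) := by
  simp [normUnits, MonoidHom.finsetProd_apply]

/-- `c ↦ c / σ c`. -/
def twistUnits (σ : RingAut F) : Fˣ →* Fˣ :=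
  MonoidHom.id Fˣ / Units.map (σ : F ≃+* F).toRingHom.toMonoidHom

theorem coe_twistUnits (σ : RingAut F) (c : Fˣ) : (twistUnits σ c : F) = c / σ c := by
  simp [twistUnits, MonoidHom.div_apply]

/-- The units of the fixed field, inside `Fˣ`. -/
def fixedUnits (σ : RingAut F) : Subgroup Fˣ := (twistUnits σ).ker

theorem mem_fixedUnits {σ : RingAut F} {c : Fˣ} : c ∈ fixedUnits σ ↔ σ (c : F) = c := by
  rw [fixedUnits, MonoidHom.mem_ker, Units.ext_iff, coe_twistUnits, Units.val_one, div_eq_one_iff_eq]
  · exact eq_comm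
  · simp

theorem card_fixedUnits [Finite F] (σ : RingAut F) :
    Nat.card (fixedUnits σ) = Nat.card (fixedField σ) - 1 := by
  rw [← Nat.card_units]
  refine Nat.card_congr
    { toFun := fun c => ⟨⟨(c.1 : F), mem_fixedUnits.mp c.2⟩,
        ⟨((c⁻¹).1 : F), mem_fixedUnits.mp (c⁻¹).2⟩, Subtype.ext (by simp), Subtype.ext (by simp)⟩
      invFun := fun u => ⟨Units.map (fixedField σ).subtype.toMonoidHom u,
        mem_fixedUnits.mpr u.1.2⟩
      left_inv := fun c => Subtype.ext (Units.ext rfl)
      right_inv := fun u => Units.ext (Subtype.ext rfl) }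

theorem normUnits_mem [Finite F] (σ : RingAut F) (c : Fˣ) : normUnits σ c ∈ fixedUnits σ := by
  rw [mem_fixedUnits, coe_normUnits, map_prod]
  have h1 := Finset.prod_range_succ' (fun i => (σ ^ i) (c : F)) (orderOf σ)
  have h2 := Finset.prod_range_succ (fun i => (σ ^ i) (c : F)) (orderOf σ)
  rw [pow_orderOf_eq_one] at h2
  rw [pow_zero] at h1
  have hne : (1 : RingAut F) (c : F) ≠ 0 := c.ne_zero
  have := mul_right_cancel₀ hne (h1.symm.trans h2)
  exact (Finset.prod_congr rfl fun i _ => by rw [pow_succ']; rfl).trans this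

/-- Hilbert 90 for units. -/
theorem ker_normUnits [Finite F] (σ : RingAut F) :
    (normUnits σ).ker = (twistUnits σ).range := by
  apply le_antisymm
  · intro c hc
    rw [MonoidHom.mem_ker, Units.ext_iff, coe_normUnits, Units.val_one] at hc
    obtain ⟨h, hh⟩ := exists_descent σ (GeneralLinearGroup.scalar (Fin 1) c)
      (by simp only [GeneralLinearGroup.scalar]; rw [show (Units.map _ c).1 = Matrix.scalar (Fin 1) (c : F) from rfl, tw_scalar, hc, map_one])
    have h0 := congrFun (congrFun hh 0) 0
    have hd : h.1 0 0 ≠ 0 := by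
      have := ((Matrix.isUnit_iff_isUnit_det _).mp h.isUnit).ne_zero
      rwa [Matrix.det_fin_one] at this
    refine ⟨Units.mk0 _ hd, Units.ext ?_⟩
    rw [coe_twistUnits, Units.val_mk0, div_eq_iff (by simpa using hd)]
    simpa [Matrix.mul_apply] using h0.symm
  · rintro _ ⟨c, rfl⟩
    rw [MonoidHom.mem_ker, Units.ext_iff, coe_normUnits, Units.val_one, coe_twistUnits]
    simp only [map_div₀, Finset.prod_div_distrib]
    rw [div_eq_one_iff_eq (Finset.prod_ne_zero_iff.mpr fun i _ => by
      rw [Ne, map_eq_zero, map_eq_zero]; exact c.ne_zero)]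
    have h1 := Finset.prod_range_succ' (fun i => (σ ^ i) (c : F)) (orderOf σ)
    have h2 := Finset.prod_range_succ (fun i => (σ ^ i) (c : F)) (orderOf σ)
    rw [pow_orderOf_eq_one] at h2
    rw [pow_zero] at h1
    have hne : (1 : RingAut F) (c : F) ≠ 0 := c.ne_zero
    refine (mul_right_cancel₀ hne (h2.symm.trans h1)).trans ?_
    exact Finset.prod_congr rfl fun i _ => by rw [pow_succ]; rfl

/-- The norm onto the fixed field is surjective. -/
theorem range_normUnits [Finite F] (σ : RingAut F) : (normUnits σ).range = fixedUnits σ := by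
  refine Subgroup.eq_of_le_of_card_ge (by rintro _ ⟨c, rfl⟩; exact normUnits_mem σ c) ?_
  have h1 := (normUnits σ).ker.card_mul_index
  rw [Subgroup.index_ker] at h1
  have h2 := (twistUnits σ).ker.card_mul_index
  rw [Subgroup.index_ker] at h2
  rw [ker_normUnits, ← h2, mul_comm (Nat.card (twistUnits σ).ker)] at h1
  exact (Nat.eq_of_mul_eq_mul_left Nat.card_pos h1).ge

/-- A twisted product that is scalar can be normalized and descended. -/
theorem exists_descent_scalar [Finite F] (σ : RingAut F) (hn : 0 < n) (g : GL (Fin n) F) (c : F)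
    (hg : tw σ g.1 (orderOf σ) = Matrix.scalar (Fin n) c) :
    ∃ (h : GL (Fin n) F) (d : F), d ≠ 0 ∧ d • (g.1 * h.1.map σ) = h.1 := by
  classical
  let i₀ : Fin n := ⟨0, hn⟩
  have hc0 : c ≠ 0 := by
    intro h0
    have hd : ∀ k, (tw σ g.1 k).det ≠ 0 := by
      intro k
      induction k with
      | zero => simp [tw]
      | succ k ih =>
        show (g.1 * (tw σ g.1 k).map σ).det ≠ 0
        rw [Matrix.det_mul, show (tw σ g.1 k).map σ =
          (σ : F ≃+* F).toRingHom.mapMatrix (tw σ g.1 k) from rfl, ← RingHom.map_det]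
        exact mul_ne_zero ((Matrix.isUnit_iff_isUnit_det _).mp g.isUnit).ne_zero
          (by simpa using ih)
    apply hd (orderOf σ)
    have : Nonempty (Fin n) := ⟨i₀⟩
    rw [hg, h0]; simp
  have hfix : σ c = c := by
    have h1 := tw_add σ g.1 1 (orderOf σ)
    rw [Nat.add_comm, tw_add σ g.1 (orderOf σ) 1, hg, tw_one, pow_orderOf_eq_one, pow_one] at h1
    change Matrix.scalar (Fin n) c * g.1 = _ at h1
    rw [(Matrix.scalar_commute c (fun r' => Commute.all c r') g.1).eq] at h1
    have h2 := g.isUnit.mul_left_cancel h1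
    have h3 := congrFun (congrFun h2 i₀) i₀
    simpa using h3.symm
  obtain ⟨d, hd⟩ : (Units.mk0 c hc0) ∈ (normUnits σ).range := by
    rw [range_normUnits]; exact mem_fixedUnits.mpr hfix
  let g' : GL (Fin n) F := GeneralLinearGroup.scalar (Fin n) d⁻¹ * g
  have tw_smul : ∀ (a : F) (A : Matrix (Fin n) (Fin n) F) (k : ℕ), tw σ (a • A) k =
      (∏ i ∈ Finset.range k, (σ ^ i) a) • tw σ A k := by
    intro a A k
    induction k with
    | zero => simp [tw]
    | succ k ih =>
      show (a • A) * (tw σ (a • A) k).map σ = _ • (A * (tw σ A k).map σ)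
      have e : ∀ (x : F) (M : Matrix (Fin n) (Fin n) F), (x • M).map σ = σ x • M.map σ := by
        intro x M; ext i j; simp
      rw [ih, e, map_prod, smul_mul_assoc, mul_smul_comm, smul_smul, Finset.prod_range_succ',
        pow_zero, RingAut.one_apply, mul_comm a]
      congr 2
      exact Finset.prod_congr rfl fun i _ => by rw [pow_succ']; rfl
  have hg' : g'.1 = (d⁻¹ : Fˣ).1 • g.1 := by
    ext i j
    simp [g', GeneralLinearGroup.scalar, Matrix.scalar_apply, Matrix.diagonal_mul]
  obtain ⟨h, hh⟩ := exists_descent σ g' (by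
    rw [hg', tw_smul, hg]
    have : ∏ i ∈ Finset.range (orderOf σ), (σ ^ i) ((d⁻¹ : Fˣ) : F) = c⁻¹ := by
      rw [← coe_normUnits, map_inv, hd]; simp
    rw [this]
    ext i j
    by_cases hij : i = j
    · subst hij; simp [hc0]
    · simp [hij])
  refine ⟨h, (d⁻¹ : Fˣ), Units.ne_zero _, ?_⟩
  rw [← smul_mul_assoc, ← hg', hh]

/-- Hermitian forms over a finite field have orthonormal bases. -/
theorem exists_hermitian_factor [Finite F] (σ : RingAut F) (hσ : orderOf σ = 2)
    (g : GL (Fin n) F) (hg : g.1ᵀ.map σ = g.1) :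
    ∃ k : GL (Fin n) F, g.1 = k.1 * (k.1.map σ)ᵀ := by
  classical
  have hss : ∀ x, σ (σ x) = x := fun x => by
    have h := pow_orderOf_eq_one σ
    rw [hσ, pow_two] at h
    exact RingEquiv.congr_fun h x
  let B : (Fin n → F) → (Fin n → F) → F := fun u v => u ⬝ᵥ (g.1 *ᵥ fun i => σ (v i))
  have Bswap : ∀ u v, σ (B u v) = B v u := by
    intro u v
    simp only [B, dotProduct, Matrix.mulVec, Finset.mul_sum, map_sum, map_mul, hss]
    rw [Finset.sum_comm]
    refine Finset.sum_congr rfl fun i _ => Finset.sum_congr rfl fun j _ => ?_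
    conv_rhs => rw [← hg]
    simp only [Matrix.map_apply, Matrix.transpose_apply]
    ring
  have Badd : ∀ u u' v, B (u + u') v = B u v + B u' v := fun u u' v => add_dotProduct _ _ _
  have Bsmul : ∀ (a : F) u v, B (a • u) v = a * B u v := fun a u v => smul_dotProduct _ _ _
  have Bsum : ∀ {ι : Type} (s : Finset ι) (w : ι → Fin n → F) v,
      B (∑ i ∈ s, w i) v = ∑ i ∈ s, B (w i) v := fun s w v => sum_dotProduct _ _ _
  have Bsmulr : ∀ (a : F) u v, B u (a • v) = σ a * B u v := fun a u v => by
    rw [← Bswap (a • v) u, Bsmul, map_mul, Bswap]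
  have Baddr : ∀ u v v', B u (v + v') = B u v + B u v' := fun u v v' => by
    rw [← Bswap (v + v') u, Badd, map_add, Bswap, Bswap]
  have main : ∀ k ≤ n, ∃ v : Fin k → Fin n → F, ∀ i j, B (v i) (v j) = if i = j then 1 else 0 := by
    intro k
    induction k with
    | zero => exact fun _ => ⟨Fin.elim0, fun i => i.elim0⟩
    | succ k ih =>
      intro hk
      obtain ⟨v, hv⟩ := ih (by omega)
      let L : (Fin n → F) →ₗ[F] (Fin k → F) :=
        { toFun := fun w i => B w (v i)
          map_add' := fun x y => funext fun i => Badd x y (v i)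
          map_smul' := fun a x => funext fun i => by rw [Bsmul]; rfl }
      obtain ⟨w₀, hw₀, hw₀ne⟩ : ∃ w, L w = 0 ∧ w ≠ 0 := by
        have := LinearMap.ker_ne_bot_of_finrank_lt (f := L) (by
          rw [Module.finrank_fin_fun, Module.finrank_fin_fun]; omega)
        obtain ⟨w, hw, hw'⟩ := Submodule.exists_mem_ne_zero_of_ne_bot this
        exact ⟨w, hw, hw'⟩
      obtain ⟨w, hw, hww⟩ : ∃ w, L w = 0 ∧ B w w ≠ 0 := by
        by_contra hall
        push Not at hall
        have hzero : ∀ x y, L x = 0 → L y = 0 → B x y = 0 := by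
          intro x y hx hy
          by_contra hne
          have h1 : ∀ a : F, a * B x y + σ (a * B x y) = 0 := fun a => by
            have := hall (a • x + y) (by rw [map_add, map_smul, hx, hy, smul_zero, add_zero])
            rw [Badd, Baddr, Baddr, Bsmul, Bsmul, Bsmulr, Bsmulr, hall x hx, hall y hy, mul_zero, mul_zero,
              zero_add, add_zero, ← Bswap x y] at this
            rw [map_mul]; exact this
          have h2 : ∀ z : F, σ z = z := by
            have hm : ∀ z : F, z + σ z = 0 := fun z => by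
              have := h1 (z / B x y); rwa [div_mul_cancel₀ _ hne] at this
            have h20 := hm 1
            rw [map_one] at h20
            intro z
            have e : z + z = 0 := by linear_combination z * h20
            linear_combination hm z - e
          have : σ = 1 := RingEquiv.ext h2
          rw [this, orderOf_one] at hσ; omega
        apply hw₀ne
        have hB0 : ∀ u, B w₀ u = 0 := by
          intro u
          let p := u + (-1 : F) • ∑ i, B u (v i) • v i
          have hp : L p = 0 := funext fun j => by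
            show B p (v j) = 0
            simp only [p, Badd, Bsmul, Bsum, hv, mul_ite, mul_one, mul_zero, Finset.sum_ite_eq',
              Finset.mem_univ, if_true]
            ring
          have h3 := hzero w₀ p hw₀ hp
          have hu : u = p + ∑ i, B u (v i) • v i := by
            show u = u + (-1 : F) • _ + _
            module
          rw [hu, Baddr, h3, zero_add, ← Bswap _ w₀, Bsum]
          rw [Finset.sum_eq_zero, map_zero]
          intro i _
          rw [Bsmul, ← Bswap w₀ (v i), show B w₀ (v i) = 0 from congrFun hw₀ i, map_zero, mul_zero]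
        funext i
        let u : Fin n → F := (g⁻¹).1 *ᵥ (Pi.single i 1)
        have := hB0 fun j => σ (u j)
        have e : (fun j => σ ((fun j => σ (u j)) j)) = u := funext fun j => hss _
        rw [show B w₀ (fun j => σ (u j)) = w₀ ⬝ᵥ (g.1 *ᵥ fun j => σ ((fun j => σ (u j)) j)) from rfl,
          e, Matrix.mulVec_mulVec, ← Units.val_mul, mul_inv_cancel, Units.val_one, Matrix.one_mulVec,
          dotProduct_single, mul_one] at this
        exact this
      obtain ⟨d, hd⟩ : Units.mk0 _ hww ∈ (normUnits σ).range := by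
        rw [range_normUnits]; exact mem_fixedUnits.mpr (Bswap w w)
      have hd' : (d : F) * σ d = B w w := by
        have := congrArg Units.val hd
        rw [coe_normUnits, hσ, Finset.prod_range_succ, Finset.prod_range_one, pow_zero, pow_one] at this
        exact this
      have hd0 : σ (d : F) ≠ 0 := by simp
      let w' := (d : F)⁻¹ • w
      have hwv : ∀ i, B w' (v i) = 0 := fun i => by
        rw [Bsmul, show B w (v i) = 0 from congrFun hw i, mul_zero]
      refine ⟨Fin.snoc v w', fun i j => ?_⟩
      refine Fin.lastCases ?_ (fun i => ?_) i <;> refine Fin.lastCases ?_ (fun j => ?_) j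
      · rw [Fin.snoc_last, Bsmul, Bsmulr, if_pos rfl, map_inv₀, ← hd']
        field_simp
      · rw [Fin.snoc_last, Fin.snoc_castSucc, hwv, if_neg (Fin.castSucc_lt_last j).ne']
      · rw [Fin.snoc_castSucc, Fin.snoc_last, ← Bswap, hwv, map_zero,
          if_neg (Fin.castSucc_lt_last i).ne]
      · rw [Fin.snoc_castSucc, Fin.snoc_castSucc, hv]
        simp [Fin.castSucc_inj]
  obtain ⟨v, hv⟩ := main n le_rfl
  let V : Matrix (Fin n) (Fin n) F := Matrix.of v
  have hV : V * g.1 * (V.map σ)ᵀ = 1 := by
    ext i j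
    rw [Matrix.one_apply, ← hv i j, Matrix.mul_assoc]
    simp [B, V, Matrix.mul_apply, Matrix.mulVec, dotProduct]
  have hu : IsUnit V := by
    rw [Matrix.isUnit_iff_isUnit_det]
    have := congrArg Matrix.det hV
    rw [Matrix.det_mul, Matrix.det_mul, Matrix.det_one, mul_assoc] at this
    exact IsUnit.of_mul_eq_one _ this
  obtain ⟨u, hu'⟩ := hu
  refine ⟨u⁻¹, ?_⟩
  rw [← hu', Matrix.mul_assoc] at hV
  have h1 : g.1 * (u.1.map σ)ᵀ = (u⁻¹).1 :=
    calc g.1 * (u.1.map σ)ᵀ = (u⁻¹).1 * (u.1 * (g.1 * (u.1.map σ)ᵀ)) := by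
          rw [← Matrix.mul_assoc, ← Units.val_mul, inv_mul_cancel, Units.val_one, Matrix.one_mul]
      _ = (u⁻¹).1 := by rw [hV, Matrix.mul_one]
  rw [← h1, Matrix.mul_assoc, ← Matrix.transpose_mul]
  have : (g.1 * (u.1.map σ)ᵀ).map σ * u.1.map σ = 1 := by
    rw [h1, ← Matrix.map_mul, ← Units.val_mul, inv_mul_cancel, Units.val_one,
      Matrix.map_one _ (map_zero σ) (map_one σ)]
  rw [this, Matrix.transpose_one, Matrix.mul_one]

end CfsgLib.PSLn
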