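import Cfsg.Agent.Lib.PSLn.Sylow

/-!
Every automorphism of `PSL_n(q)`, `n ≥ 3`, is inner-diagonal times field times possibly the
inverse-transpose automorphism.
-/

set_option autoImplicit false

namespace CfsgLib.PSLn

open Matrix
open scoped MatrixGroups

variable {F : Type*} [Field F] {n : ℕ}

local notation "SL" => Matrix.SpecialLinearGroup (Fin n) F
local notation "PSL" => Matrix.ProjectiveSpecialLinearGroup (Fin n) F
local notation "V" => (Fin n → F)

/-- `w` lies on the line of `v`. -/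
def Par (v w : V) : Prop := ∃ c : F, w = c • v

theorem Par.symm {v w : V} (h : Par v w) (hw : w ≠ 0) : Par w v := by
  obtain ⟨c, rfl⟩ := h
  have hc : c ≠ 0 := fun h0 => hw (by rw [h0, zero_smul])
  exact ⟨c⁻¹, by rw [smul_smul, inv_mul_cancel₀ hc, one_smul]⟩

theorem Par.trans {u v w : V} (h : Par u v) (h' : Par v w) : Par u w := by
  obtain ⟨c, rfl⟩ := h
  obtain ⟨d, rfl⟩ := h'
  exact ⟨d * c, by rw [smul_smul]⟩

theorem Par.dot_left {u v w : V} (h : Par u v) (h0 : w ⬝ᵥ u = 0) : w ⬝ᵥ v = 0 := by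
  obtain ⟨c, rfl⟩ := h
  rw [dotProduct_smul, h0, smul_zero]

theorem Par.dot_right {u v w : V} (h : Par u v) (h0 : u ⬝ᵥ w = 0) : v ⬝ᵥ w = 0 := by
  obtain ⟨c, rfl⟩ := h
  rw [smul_dotProduct, h0, smul_zero]

/-- Sums of two rank-one matrices of rank one. -/
theorem par_of_add_eq {v v' f f' u h : V} (hv : v ≠ 0) (hv' : v' ≠ 0) (hf : f ≠ 0)
    (e : vecMulVec v f + vecMulVec v' f' = vecMulVec u h) : Par v v' ∨ Par f f' := by
  by_cases hpar : ∀ k l, f k * f' l = f l * f' k
  · right
    obtain ⟨k, hk⟩ := Function.ne_iff.mp hf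
    refine ⟨f' k / f k, funext fun l => ?_⟩
    rw [Pi.smul_apply, smul_eq_mul, div_mul_eq_mul_div, eq_div_iff hk]
    linear_combination hpar k l
  · left
    push Not at hpar
    obtain ⟨k, l, hkl⟩ := hpar
    set D := f k * f' l - f l * f' k with hD
    have hD0 : D ≠ 0 := sub_ne_zero.mpr hkl
    have ek : ∀ i, v i * f k + v' i * f' k = u i * h k := fun i => by
      simpa [vecMulVec_apply] using congrFun (congrFun e i) k
    have el : ∀ i, v i * f l + v' i * f' l = u i * h l := fun i => by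
      simpa [vecMulVec_apply] using congrFun (congrFun e i) l
    have h1 : Par u v := ⟨(h k * f' l - h l * f' k) / D, funext fun i => by
      rw [Pi.smul_apply, smul_eq_mul, div_mul_eq_mul_div, eq_div_iff hD0, hD]
      linear_combination (f' l) * ek i - (f' k) * el i⟩
    have h2 : Par u v' := ⟨(h l * f k - h k * f l) / D, funext fun i => by
      rw [Pi.smul_apply, smul_eq_mul, div_mul_eq_mul_div, eq_div_iff hD0, hD]
      linear_combination (f k) * el i - (f l) * ek i⟩
    exact (h1.symm hv).trans h2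

theorem tv_mul_coe {v v' f f' : V} (h : f ⬝ᵥ v = 0) (h' : f' ⬝ᵥ v' = 0) :
    (tv v f h * tv v' f' h').1 =
      1 + (vecMulVec v f + vecMulVec v' f' + (f ⬝ᵥ v') • vecMulVec v f') := by
  rw [SpecialLinearGroup.coe_mul, coe_tv, coe_tv, Matrix.add_mul, Matrix.one_mul, Matrix.mul_add,
    Matrix.mul_one, vecMulVec_mul_vecMulVec, vecMulVec_smul]
  abel

theorem commute_of_dot {v v' f f' : V} (h : f ⬝ᵥ v = 0) (h' : f' ⬝ᵥ v' = 0) (h1 : f ⬝ᵥ v' = 0)
    (h2 : f' ⬝ᵥ v = 0) : Commute (mk (tv v f h)) (mk (tv v' f' h')) := by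
  change mk _ * mk _ = mk _ * mk _
  rw [← map_mul, ← map_mul]
  congr 1
  apply Subtype.ext
  rw [tv_mul_coe, tv_mul_coe, h1, h2, zero_smul, zero_smul, add_comm (vecMulVec v f)]

theorem commute_imp {v v' f f' : V} (h : f ⬝ᵥ v = 0) (h' : f' ⬝ᵥ v' = 0)
    (hc : Commute (mk (tv v f h)) (mk (tv v' f' h'))) :
    (f ⬝ᵥ v') • vecMulVec v f' = (f' ⬝ᵥ v) • vecMulVec v' f := by
  have e : mk (conjSL (SpecialLinearGroup.toGL (tv v f h)) (tv v' f' h')) = mk (tv v' f' h') := by
    rw [conjSL_toGL, MulAut.conj_apply, map_mul, map_mul, map_inv, hc.eq, mul_inv_cancel_right]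
  obtain ⟨h'', e'⟩ := conjSL_tv (SpecialLinearGroup.toGL (tv v f h)) v' f' h'
  rw [e'] at e
  have e2 := congrArg Subtype.val (sqzero_unique (tv_sq _ _ h'') (tv_sq _ _ h') e)
  rw [← e'] at e2
  have e3 : tv v f h * tv v' f' h' = tv v' f' h' * tv v f h := by
    have e4 := Subtype.ext e2
    rw [conjSL_toGL, MulAut.conj_apply] at e4
    exact mul_inv_eq_iff_eq_mul.mp e4
  have e5 := congrArg Subtype.val e3
  rw [tv_mul_coe, tv_mul_coe] at e5
  have e6 := add_left_cancel e5
  rw [add_comm (vecMulVec v' f')] at e6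
  exact add_left_cancel e6

/-- Transvection data for the images of the root groups under `φ`. -/
structure Frame (φ : MulAut PSL) where
  of ::
  /-- the points -/
  v : Fin n → Fin n → V
  /-- the hyperplanes -/
  f : Fin n → Fin n → V
  inc : ∀ i j, i ≠ j → f i j ⬝ᵥ v i j = 0
  vne : ∀ i j, i ≠ j → v i j ≠ 0
  fne : ∀ i j, i ≠ j → f i j ≠ 0
  img : ∀ i j (hij : i ≠ j) (c : F), ∃ (d : F) (h : f i j ⬝ᵥ (d • v i j) = 0),
    φ (mk (xx i j hij c)) = mk (tv (d • v i j) (f i j) h)

theorem exists_frame [Fintype F] (p : ℕ) [Fact p.Prime] [CharP F p] (φ : MulAut PSL) :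
    Nonempty (Frame (F := F) (n := n) φ) := by
  classical
  have h : ∀ i j : Fin n, ∃ (v f : V), i ≠ j → f ⬝ᵥ v = 0 ∧ v ≠ 0 ∧ f ≠ 0 ∧
      ∀ (hij : i ≠ j) (c : F), ∃ (d : F) (h : f ⬝ᵥ (d • v) = 0),
        φ (mk (xx i j hij c)) = mk (tv (d • v) f h) := by
    intro i j
    by_cases hij : i = j
    · exact ⟨0, 0, fun h => absurd hij h⟩
    · obtain ⟨v, f, h, hv, hf, hd⟩ := exists_transvection_image p φ hij
      exact ⟨v, f, fun _ => ⟨h, hv, hf, fun _ c => ⟨(hd c).choose, _, (hd c).choose_spec⟩⟩⟩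
  choose v f hvf using h
  exact ⟨⟨v, f, fun i j h => (hvf i j h).1, fun i j h => (hvf i j h).2.1,
    fun i j h => (hvf i j h).2.2.1, fun i j h => (hvf i j h).2.2.2 h⟩⟩

/-- The frame of the composite with the graph automorphism. -/
def Frame.flip {φ : MulAut PSL} (P : Frame (F := F) (n := n) φ) : Frame (F := F) (n := n) ((graphAut : MulAut PSL) * φ) where
  v := P.f
  f := P.v
  inc i j h := by rw [dotProduct_comm]; exact P.inc i j h
  vne := P.fne
  fne := P.vne
  img i j hij c := by
    obtain ⟨d, h, e⟩ := P.img i j hij c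
    have h' : P.v i j ⬝ᵥ ((-d) • P.f i j) = 0 := by
      rw [dotProduct_smul, dotProduct_comm, P.inc i j hij, smul_zero]
    refine ⟨-d, h', ?_⟩
    rw [MulAut.mul_apply, e, graphAut_mk, graphSL_tv]
    congr 1
    refine coe_inj_of_congr _ _ ?_
    rw [neg_smul, neg_vecMulVec, vecMulVec_neg, vecMulVec_smul, smul_vecMulVec]

namespace Frame

variable {φ : MulAut (Matrix.ProjectiveSpecialLinearGroup (Fin n) F)}
variable (P : Frame φ)

theorem coeff_ne_zero {i j : Fin n} {hij : i ≠ j} {c d : F}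
    {h : P.f i j ⬝ᵥ (d • P.v i j) = 0}
    (e : φ (mk (xx i j hij c)) = mk (tv (d • P.v i j) (P.f i j) h)) (hc : c ≠ 0) : d ≠ 0 := by
  rintro rfl
  have h1 : mk (tv ((0 : F) • P.v i j) (P.f i j) h) = 1 := by
    rw [← map_one (mk : SL →* PSL)]; congr 1
    exact Subtype.ext (by rw [coe_tv, zero_smul, zero_vecMulVec, add_zero, SpecialLinearGroup.coe_one])
  rw [h1, ← map_one φ] at e
  have e2 := φ.injective e
  rw [← map_one (mk : SL →* PSL), ← xx_zero i j hij] at e2
  exact hc (mk_xx_injective hij e2)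

/-- Root groups that do not commute have non-orthogonal images. -/
theorem noncomm {i j k : Fin n} (hij : i ≠ j) (hjk : j ≠ k) (hik : i ≠ k) :
    ¬ (P.f i j ⬝ᵥ P.v j k = 0 ∧ P.f j k ⬝ᵥ P.v i j = 0) := by
  rintro ⟨h1, h2⟩
  obtain ⟨d, hd, e⟩ := P.img i j hij 1
  obtain ⟨d', hd', e'⟩ := P.img j k hjk 1
  have hc : Commute (φ (mk (xx i j hij 1))) (φ (mk (xx j k hjk 1))) := by
    rw [e, e']
    exact commute_of_dot hd hd' (by rw [dotProduct_smul, h1, smul_zero])
      (by rw [dotProduct_smul, h2, smul_zero])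
  have hc' : Commute (mk (xx i j hij (1 : F))) (mk (xx j k hjk (1 : F))) := by
    change _ = _
    apply φ.injective
    rw [map_mul φ, map_mul φ]; exact hc.eq
  rw [xx_eq_tv, xx_eq_tv] at hc'
  have := congrFun (congrFun (commute_imp _ _ hc') i) k
  simp [vecMulVec_apply, hik, hik.symm, hij, hjk] at this

/-- Two root groups whose sum is again a transvection share a point or a hyperplane. -/
theorem share_of {i j k l : Fin n} (hij : i ≠ j) (hkl : k ≠ l) (hjk : j ≠ k) (hli : l ≠ i)
    (s : SL) (hs : mk (xx i j hij 1 * xx k l hkl 1) = mk s * mk (xx i j hij 1) * (mk s)⁻¹) :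
    Par (P.v i j) (P.v k l) ∨ Par (P.f i j) (P.f k l) := by
  obtain ⟨d, hd, e⟩ := P.img i j hij 1
  obtain ⟨d', hd', e'⟩ := P.img k l hkl 1
  have hd0 := P.coeff_ne_zero e one_ne_zero
  have hd0' := P.coeff_ne_zero e' one_ne_zero
  have hc : Commute (mk (tv (d • P.v i j) (P.f i j) hd)) (mk (tv (d' • P.v k l) (P.f k l) hd')) := by
    rw [← e, ← e']
    refine Commute.map ?_ φ
    rw [xx_eq_tv, xx_eq_tv]
    exact commute_of_dot _ _ (by simp [single_dotProduct, hjk]) (by simp [single_dotProduct, hli])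
  have key := commute_imp _ _ hc
  set a := P.f i j ⬝ᵥ (d' • P.v k l) with ha
  set b := P.f k l ⬝ᵥ (d • P.v i j) with hb
  by_cases hv : Par (d • P.v i j) (d' • P.v k l)
  · left
    obtain ⟨c, hc'⟩ := hv
    refine ⟨d'⁻¹ * (c * d), ?_⟩
    rw [← smul_smul, ← smul_smul, ← hc', smul_smul, inv_mul_cancel₀ hd0', one_smul]
  by_cases hf : Par (P.f i j) (P.f k l)
  · exact Or.inr hf
  exfalso
  have hvne : d • P.v i j ≠ 0 := smul_ne_zero hd0 (P.vne i j hij)
  have hvne' : d' • P.v k l ≠ 0 := smul_ne_zero hd0' (P.vne k l hkl)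
  have hab : a = 0 ∧ b = 0 := by
    obtain ⟨r, hr⟩ := Function.ne_iff.mp (P.fne k l hkl)
    have hcol : ∀ i', a * ((d • P.v i j) i' * P.f k l r) = b * ((d' • P.v k l) i' * P.f i j r) :=
      fun i' => by simpa [vecMulVec_apply, mul_assoc] using congrFun (congrFun key i') r
    have ha0 : a = 0 := by
      by_contra ha0
      apply hv
      have hne : b * P.f i j r ≠ 0 := by
        intro h0
        obtain ⟨i', hi'⟩ := Function.ne_iff.mp hvne
        have h1 := hcol i'
        rw [show b * ((d' • P.v k l) i' * P.f i j r) = b * P.f i j r * (d' • P.v k l) i' by ring,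
          h0, zero_mul] at h1
        exact mul_ne_zero ha0 (mul_ne_zero hi' hr) h1
      refine ⟨a * P.f k l r / (b * P.f i j r), funext fun i' => ?_⟩
      rw [Pi.smul_apply (a * P.f k l r / (b * P.f i j r)) (d • P.v i j), smul_eq_mul,
        div_mul_eq_mul_div, eq_div_iff hne]
      linear_combination (-1 : F) * hcol i'
    refine ⟨ha0, ?_⟩
    obtain ⟨r', hr'⟩ := Function.ne_iff.mp (P.fne i j hij)
    obtain ⟨i', hi'⟩ := Function.ne_iff.mp hvne'
    have h1 := congrFun (congrFun key i') r'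
    rw [ha0, zero_smul, Matrix.zero_apply, Matrix.smul_apply, vecMulVec_apply, smul_eq_mul] at h1
    rcases mul_eq_zero.mp h1.symm with h | h
    · exact h
    · exact absurd h (mul_ne_zero hi' hr')
  -- the product is a transvection
  have hprod := congrArg φ hs
  rw [map_mul (mk : SL →* PSL), map_mul φ, map_mul φ, map_mul φ, map_inv φ, e, e'] at hprod
  obtain ⟨S, hS⟩ := mk_surjective (φ (mk s))
  obtain ⟨h3, e3⟩ := conjSL_tv (SpecialLinearGroup.toGL S) (d • P.v i j) (P.f i j) hd
  have e4 : mk (tv (d • P.v i j) (P.f i j) hd * tv (d' • P.v k l) (P.f k l) hd') =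
      mk (tv _ _ h3) := by
    rw [map_mul, hprod, ← e3, conjSL_toGL, MulAut.conj_apply, map_mul, map_mul, map_inv, hS]
  have hsq : ((tv (d • P.v i j) (P.f i j) hd * tv (d' • P.v k l) (P.f k l) hd').1 - 1) *
      ((tv (d • P.v i j) (P.f i j) hd * tv (d' • P.v k l) (P.f k l) hd').1 - 1) = 0 := by
    rw [tv_mul_coe, ← ha, hab.1, zero_smul, add_zero, add_sub_cancel_left, Matrix.mul_add,
      Matrix.add_mul, Matrix.add_mul, vecMulVec_sq hd, vecMulVec_sq hd', vecMulVec_mul_vecMulVec,
      vecMulVec_mul_vecMulVec, ← ha, ← hb, hab.1, hab.2, zero_smul, zero_smul, vecMulVec_zero,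
      vecMulVec_zero]
    simp
  have e5 := congrArg Subtype.val (sqzero_unique hsq (tv_sq _ _ _) e4)
  rw [tv_mul_coe, ← ha, hab.1, zero_smul, add_zero, coe_tv] at e5
  rcases par_of_add_eq hvne hvne' (P.fne i j hij) (add_left_cancel e5) with h | h
  · exact hv h
  · exact hf h

theorem share_row {i j k : Fin n} (hij : i ≠ j) (hik : i ≠ k) (hjk : j ≠ k) :
    Par (P.v i j) (P.v i k) ∨ Par (P.f i j) (P.f i k) := by
  refine P.share_of hij hik hij.symm hik.symm (xx j k hjk (-1)) ?_
  rw [← map_inv, ← map_mul, ← map_mul]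
  congr 1
  apply Subtype.ext
  rw [xx_inv, neg_neg]
  simp only [SpecialLinearGroup.coe_mul, coe_xx, Matrix.mul_add, Matrix.add_mul, Matrix.mul_one,
    Matrix.one_mul, Matrix.single_mul_single_same, Matrix.single_mul_single_of_ne _ _ _ _ hij.symm,
    Matrix.single_mul_single_of_ne _ _ _ _ hjk.symm,
    Matrix.single_mul_single_of_ne _ _ _ _ hik.symm, Matrix.zero_mul, mul_one,
    add_zero]
  ext a b
  simp only [Matrix.add_apply, Matrix.single_apply]
  split_ifs <;> ring

theorem share_col {i j k : Fin n} (hij : i ≠ j) (hkj : k ≠ j) (hik : i ≠ k) :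
    Par (P.v i j) (P.v k j) ∨ Par (P.f i j) (P.f k j) := by
  refine P.share_of hij hkj hkj.symm hij.symm (xx k i hik.symm 1) ?_
  rw [← map_inv, ← map_mul, ← map_mul]
  congr 1
  apply Subtype.ext
  rw [xx_inv]
  simp only [SpecialLinearGroup.coe_mul, coe_xx, Matrix.mul_add, Matrix.add_mul, Matrix.mul_one,
    Matrix.one_mul, Matrix.single_mul_single_same, Matrix.single_mul_single_of_ne _ _ _ _ hij.symm,
    Matrix.single_mul_single_of_ne _ _ _ _ hkj.symm,
    Matrix.single_mul_single_of_ne _ _ _ _ hik, Matrix.zero_mul, mul_one,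
    add_zero]
  ext a b
  simp only [Matrix.add_apply, Matrix.single_apply]
  split_ifs <;> ring

theorem not_both [Finite F] {i j k : Fin n} (hij : i ≠ j) (hik : i ≠ k) (hjk : j ≠ k)
    (hv : Par (P.v i j) (P.v i k)) (hf : Par (P.f i j) (P.f i k)) : False := by
  obtain ⟨d, hd, e⟩ := P.img i j hij 1
  have hd0 := P.coeff_ne_zero e one_ne_zero
  obtain ⟨cv, hcv⟩ := hv
  obtain ⟨cf, hcf⟩ := hf
  obtain ⟨d', hd', e'⟩ := P.img i k hik 1
  have hd0' := P.coeff_ne_zero e' one_ne_zero
  have hcv0 : cv ≠ 0 := fun h => P.vne i k hik (by rw [hcv, h, zero_smul])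
  have hcf0 : cf ≠ 0 := fun h => P.fne i k hik (by rw [hcf, h, zero_smul])
  -- the map from coefficients is onto
  choose h hh' hh using fun c => P.img i j hij c
  have : Function.Injective h := by
    intro x y hxy
    apply mk_xx_injective hij
    apply φ.injective
    rw [hh x, hh y]
    congr 1
    exact tv_congr _ _ (by rw [hxy]) rfl
  by_cases hfin : Function.Surjective h
  · obtain ⟨c, hc⟩ := hfin (d' * cv * cf)
    have e2 : φ (mk (xx i j hij c)) = φ (mk (xx i k hik 1)) := by
      rw [hh c, e']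
      congr 1
      refine coe_inj_of_congr _ _ ?_
      rw [hcv, hcf, hc]
      simp only [smul_vecMulVec, vecMulVec_smul, smul_smul]
      congr 1; ring
    have e3 := φ.injective e2
    rw [xx_eq_tv, xx_eq_tv] at e3
    have e4 := congrFun (congrFun (mk_tv_injective e3) i) k
    simp [vecMulVec_apply, hjk, hjk.symm] at e4
  · exact hfin (Finite.injective_iff_surjective.mp this)

end Frame

namespace Frame

variable {φ : MulAut (Matrix.ProjectiveSpecialLinearGroup (Fin n) F)}
variable (P : Frame φ)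

/-- The row and the column pair at a root group share different things. -/
theorem row_col {i j k : Fin n} (hij : i ≠ j) (hik : i ≠ k) (hjk : j ≠ k) :
    ¬ (Par (P.v i j) (P.v i k) ∧ Par (P.v i j) (P.v k j)) ∧
      ¬ (Par (P.f i j) (P.f i k) ∧ Par (P.f i j) (P.f k j)) := by
  constructor
  · rintro ⟨h1, h2⟩
    exact P.noncomm hik hjk.symm hij
      ⟨Par.dot_left ((h1.symm (P.vne i k hik)).trans h2) (P.inc i k hik),
       Par.dot_left (((h1.symm (P.vne i k hik)).trans h2).symm (P.vne k j hjk.symm))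
        (P.inc k j hjk.symm)⟩
  · rintro ⟨h1, h2⟩
    have h3 := (h1.symm (P.fne i k hik)).trans h2
    exact P.noncomm hik hjk.symm hij
      ⟨Par.dot_right (h3.symm (P.fne k j hjk.symm)) (P.inc k j hjk.symm),
       Par.dot_right h3 (P.inc i k hik)⟩

variable [Finite F]

theorem next_row {i j k : Fin n} (hij : i ≠ j) (hik : i ≠ k) (hjk : j ≠ k)
    (h : Par (P.v i j) (P.v i k)) :
    Par (P.f i j) (P.f k j) ∧ Par (P.v k i) (P.v k j) := by
  have hc : Par (P.f i j) (P.f k j) :=
    (P.share_col hij hjk.symm hik).resolve_left fun h' => (P.row_col hij hik hjk).1 ⟨h, h'⟩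
  refine ⟨hc, ?_⟩
  rcases P.share_row hjk.symm hik.symm hij.symm with h' | h'
  · exact h'.symm (P.vne k i hik.symm)
  · exact absurd ⟨h', hc.symm (P.fne k j hjk.symm)⟩ (P.row_col hjk.symm hik.symm hij.symm).2

theorem row_all {i j k : Fin n} (hij : i ≠ j) (hik : i ≠ k) (hjk : j ≠ k)
    (h : Par (P.v i j) (P.v i k)) {l : Fin n} (hil : i ≠ l) : Par (P.v i j) (P.v i l) := by
  rcases eq_or_ne l j with rfl | hlj
  · exact ⟨1, (one_smul _ _).symm⟩
  rcases eq_or_ne l k with rfl | hlk
  · exact h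
  rcases P.share_row hij hil hlj.symm with h' | h'
  · exact h'
  rcases P.share_row hik hil hlk.symm with h'' | h''
  · exact h.trans h''
  · exact (P.not_both hij hik hjk h (h'.trans (h''.symm (P.fne i l hil)))).elim

/-- All rows share points. -/
theorem all_rows {a b c : Fin n} (hab : a ≠ b) (hac : a ≠ c) (hbc : b ≠ c)
    (h : Par (P.v a b) (P.v a c)) :
    ∀ i j k : Fin n, i ≠ j → i ≠ k → Par (P.v i j) (P.v i k) := by
  have row : ∀ i j k : Fin n, i ≠ j → i ≠ k → j ≠ k → Par (P.v i j) (P.v i k) →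
      ∀ j' k', i ≠ j' → i ≠ k' → Par (P.v i j') (P.v i k') := fun i j k hij hik hjk h' j' k' hj hk =>
    ((P.row_all hij hik hjk h' hj).symm (P.vne i j' hj)).trans (P.row_all hij hik hjk h' hk)
  intro i
  rcases eq_or_ne i a with rfl | hia
  · exact row i b c hab hac hbc h
  obtain ⟨j, hja, hji⟩ : ∃ j, j ≠ a ∧ j ≠ i := by
    by_cases hb : b = i
    · exact ⟨c, hac.symm, fun e => hbc (hb.trans e.symm)⟩
    · exact ⟨b, hab.symm, hb⟩
  have h' := row a b c hab hac hbc h j i hja.symm hia.symm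
  exact row i a j hia hji.symm hja.symm (P.next_row hja.symm hia.symm hji h').2

theorem all_cols {a b c : Fin n} (hab : a ≠ b) (hac : a ≠ c) (hbc : b ≠ c)
    (h : Par (P.v a b) (P.v a c)) {i j k : Fin n} (hij : i ≠ j) (hkj : k ≠ j) :
    Par (P.f i j) (P.f k j) := by
  rcases eq_or_ne i k with rfl | hik
  · exact ⟨1, (one_smul _ _).symm⟩
  exact (P.next_row hij hik hkj.symm (P.all_rows hab hac hbc h i j k hij hik)).1

end Frame

theorem xx_comm_rel {i j k : Fin n} (hij : i ≠ j) (hjk : j ≠ k) (hik : i ≠ k) (a b : F) :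
    xx i j hij a * xx j k hjk b * (xx i j hij a)⁻¹ = xx j k hjk b * xx i k hik (a * b) := by
  apply Subtype.ext
  rw [xx_inv]
  simp only [SpecialLinearGroup.coe_mul, coe_xx, Matrix.mul_add, Matrix.add_mul, Matrix.mul_one,
    Matrix.one_mul, Matrix.single_mul_single_same, Matrix.single_mul_single_of_ne _ _ _ _ hij.symm,
    Matrix.single_mul_single_of_ne _ _ _ _ hik.symm, Matrix.zero_mul, add_zero]
  ext u w
  simp only [Matrix.add_apply, Matrix.single_apply]
  split_ifs <;> ring

/-- An automorphism with the standard orientation is inner-diagonal times field. -/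
theorem exists_of_row [Fintype F] {φ : MulAut PSL} (P : Frame φ) (hn : 3 ≤ n)
    {a b c : Fin n} (hab : a ≠ b) (hac : a ≠ c) (hbc : b ≠ c)
    (h : Par (P.v a b) (P.v a c)) :
    ∃ (g : GL (Fin n) F) (e : RingAut F), φ = diagAut g * fieldAut e := by
  classical
  have hrow := P.all_rows hab hac hbc h
  have third : ∀ i j : Fin n, ∃ k, k ≠ i ∧ k ≠ j := fun i j => by
    obtain ⟨k, -, hk⟩ := Finset.exists_mem_notMem_of_card_lt_card
      (show ({i, j} : Finset (Fin n)).card < (Finset.univ : Finset (Fin n)).card by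
        rw [Finset.card_univ, Fintype.card_fin]
        exact lt_of_le_of_lt Finset.card_le_two (by omega))
    simp only [Finset.mem_insert, Finset.mem_singleton, not_or] at hk
    exact ⟨k, hk⟩
  choose other hother using fun i : Fin n => third i i
  let v : Fin n → V := fun i => P.v i (other i)
  let f₀ : Fin n → V := fun j => P.f (other j) j
  have hv : ∀ i j, i ≠ j → Par (P.v i j) (v i) := fun i j hij =>
    hrow i j (other i) hij (hother i).1.symm
  have hf : ∀ i j, i ≠ j → Par (P.f i j) (f₀ j) := fun i j hij =>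
    P.all_cols hab hac hbc h hij (hother j).1
  have horth : ∀ i j, i ≠ j → f₀ j ⬝ᵥ v i = 0 := fun i j hij =>
    Par.dot_left (hv i j hij) (Par.dot_right (hf i j hij) (P.inc i j hij))
  have hdiag : ∀ i, f₀ i ⬝ᵥ v i ≠ 0 := by
    intro i hi
    obtain ⟨j, hji, -⟩ := third i i
    obtain ⟨k, hki, hkj⟩ := third i j
    refine P.noncomm hki hji.symm hkj ⟨?_, ?_⟩
    · exact Par.dot_left ((hv i j hji.symm).symm (P.vne i (other i) (hother i).1.symm))
        (Par.dot_right ((hf k i hki).symm (P.fne (other i) i (hother i).1)) hi)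
    · exact Par.dot_left ((hv k i hki).symm (P.vne k (other k) (hother k).1.symm))
        (Par.dot_right ((hf i j hji.symm).symm (P.fne (other j) j (hother j).1)) (horth k j hkj))
  let B : Matrix (Fin n) (Fin n) F := Matrix.of fun j i => (f₀ j ⬝ᵥ v j)⁻¹ * f₀ j i
  have hBv : ∀ i, B *ᵥ v i = Pi.single i 1 := by
    intro i; funext j
    have : (B *ᵥ v i) j = (f₀ j ⬝ᵥ v j)⁻¹ * (f₀ j ⬝ᵥ v i) := by
      simp only [B, Matrix.mulVec, dotProduct, Matrix.of_apply, Finset.mul_sum, mul_assoc]
    rw [this]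
    rcases eq_or_ne j i with rfl | hji
    · rw [inv_mul_cancel₀ (hdiag j), Pi.single_eq_same]
    · rw [horth i j hji.symm, mul_zero, Pi.single_eq_of_ne hji]
  let C : Matrix (Fin n) (Fin n) F := Matrix.of fun i j => v j i
  have hBC : B * C = 1 := by
    ext j i
    rw [Matrix.mul_apply, Matrix.one_apply, ← Pi.single_apply]
    exact congrFun (hBv i) j
  let G : GL (Fin n) F := ⟨B, C, hBC, mul_eq_one_comm.mp hBC⟩
  have hfG : ∀ j, f₀ j ᵥ* (G⁻¹).1 = (f₀ j ⬝ᵥ v j) • Pi.single j 1 := by
    intro j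
    have hrowB : f₀ j = (f₀ j ⬝ᵥ v j) • ((Pi.single j 1 : V) ᵥ* B) := by
      funext i
      simp [B, ← mul_assoc, mul_inv_cancel₀ (hdiag j)]
    conv_lhs => rw [hrowB]
    rw [Matrix.smul_vecMul, Matrix.vecMul_vecMul, show B * (G⁻¹).1 = 1 from hBC, Matrix.vecMul_one]
  set ψ : MulAut PSL := diagAut G * φ with hψ
  have himg : ∀ i j (hij : i ≠ j) (x : F), ∃ y, ψ (mk (xx i j hij x)) = mk (xx i j hij y) := by
    intro i j hij x
    obtain ⟨d, hd, e⟩ := P.img i j hij x
    obtain ⟨h', e'⟩ := conjSL_tv G _ _ hd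
    obtain ⟨cv, hcv⟩ := (hv i j hij).symm (P.vne i (other i) (hother i).1.symm)
    obtain ⟨cf, hcf⟩ := (hf i j hij).symm (P.fne (other j) j (hother j).1)
    refine ⟨d * cv * cf * (f₀ j ⬝ᵥ v j), ?_⟩
    rw [hψ, MulAut.mul_apply, e, diagAut_mk, e', xx_eq_tv]
    congr 1
    refine coe_inj_of_congr _ _ ?_
    rw [hcv, hcf, Matrix.mulVec_smul, Matrix.mulVec_smul, Matrix.smul_vecMul, hfG,
      show G.1 *ᵥ v i = Pi.single i 1 from hBv i]
    simp only [smul_vecMulVec, vecMulVec_smul, smul_smul]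
    congr 1; ring
  choose g hg using himg
  have ginj : ∀ i j (hij : i ≠ j), Function.Injective (g i j hij) := fun i j hij x y hxy =>
    mk_xx_injective hij (ψ.injective (by rw [hg, hg, hxy]))
  have gadd : ∀ i j hij x y, g i j hij (x + y) = g i j hij x + g i j hij y := fun i j hij x y => by
    refine mk_xx_injective hij ?_
    change mk (xx i j hij (g i j hij (x + y))) = mk (xx i j hij (g i j hij x + g i j hij y))
    rw [← hg, xx_add, xx_add, map_mul, map_mul, map_mul, hg, hg]
  have gmul : ∀ i j k (hij : i ≠ j) (hjk : j ≠ k) (hik : i ≠ k) x y,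
      g i k hik (x * y) = g i j hij x * g j k hjk y := by
    intro i j k hij hjk hik x y
    have h1 := congrArg (fun A => ψ (mk A)) (xx_comm_rel hij hjk hik x y)
    simp only [map_mul, map_inv, hg] at h1
    have h2 : mk (xx i j hij (g i j hij x)) * mk (xx j k hjk (g j k hjk y)) *
        (mk (xx i j hij (g i j hij x)))⁻¹ = mk (xx j k hjk (g j k hjk y)) *
          mk (xx i k hik (g i j hij x * g j k hjk y)) := by
      rw [← map_inv, ← map_mul, ← map_mul, ← map_mul, xx_comm_rel hij hjk hik]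
    exact (mk_xx_injective hik (mul_left_cancel (h2.symm.trans h1))).symm
  let u : ∀ i j : Fin n, i ≠ j → F := fun i j hij => g i j hij 1
  have g0 : ∀ i j hij, g i j hij 0 = 0 := fun i j hij => by
    have := gadd i j hij 0 0; rw [add_zero] at this; exact left_eq_add.mp this
  have u0 : ∀ i j hij, u i j hij ≠ 0 := fun i j hij h0 =>
    one_ne_zero (ginj i j hij (h0.trans (g0 i j hij).symm))
  have umul : ∀ i j k (hij : i ≠ j) (hjk : j ≠ k) (hik : i ≠ k),
      u i k hik = u i j hij * u j k hjk := fun i j k hij hjk hik => by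
    have := gmul i j k hij hjk hik 1 1; rwa [one_mul] at this
  let σ : ∀ i j : Fin n, i ≠ j → F → F := fun i j hij x => (u i j hij)⁻¹ * g i j hij x
  have sR : ∀ i j k (hij : i ≠ j) (hjk : j ≠ k) (hik : i ≠ k) x,
      σ i k hik x = σ i j hij x ∧ σ i k hik x = σ j k hjk x := by
    intro i j k hij hjk hik x
    constructor
    · have := gmul i j k hij hjk hik x 1
      rw [mul_one] at this
      show (u i k hik)⁻¹ * g i k hik x = (u i j hij)⁻¹ * g i j hij x
      rw [this, umul i j k hij hjk hik]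
      change (u i j hij * u j k hjk)⁻¹ * (g i j hij x * u j k hjk) = _
      field_simp [u0 i j hij, u0 j k hjk]
    · have := gmul i j k hij hjk hik 1 x
      rw [one_mul] at this
      show (u i k hik)⁻¹ * g i k hik x = (u j k hjk)⁻¹ * g j k hjk x
      rw [this, umul i j k hij hjk hik]
      change (u i j hij * u j k hjk)⁻¹ * (u i j hij * g j k hjk x) = _
      field_simp [u0 i j hij, u0 j k hjk]
  let i₀ : Fin n := ⟨0, by omega⟩
  let i₁ : Fin n := ⟨1, by omega⟩
  have h01 : i₀ ≠ i₁ := by simp [i₀, i₁]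
  have srow : ∀ i j k (hij : i ≠ j) (hik : i ≠ k) x, σ i j hij x = σ i k hik x := by
    intro i j k hij hik x
    rcases eq_or_ne j k with rfl | hjk
    · rfl
    exact ((sR i j k hij hjk hik x).1).symm
  have scol : ∀ i j k (hij : i ≠ j) (hkj : k ≠ j) x, σ i j hij x = σ k j hkj x := by
    intro i j k hij hkj x
    rcases eq_or_ne i k with rfl | hik
    · rfl
    exact (sR i k j hik hkj hij x).2
  have sall : ∀ i j (hij : i ≠ j) x, σ i j hij x = σ i₀ i₁ h01 x := by
    intro i j hij x
    rcases eq_or_ne i i₀ with rfl | hi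
    · exact srow _ _ _ hij h01 x
    obtain ⟨k, hki, hk0⟩ := third i i₀
    rw [srow i j k hij hki.symm x, scol i k i₀ hki.symm hk0.symm x]
    exact srow _ _ _ hk0.symm h01 x
  set s : F → F := σ i₀ i₁ h01 with hs
  have gform : ∀ i j (hij : i ≠ j) x, g i j hij x = u i j hij * s x := by
    intro i j hij x
    rw [← sall i j hij x]
    show g i j hij x = u i j hij * ((u i j hij)⁻¹ * g i j hij x)
    rw [mul_inv_cancel_left₀ (u0 i j hij)]
  have smul' : ∀ x y, s (x * y) = s x * s y := by
    intro x y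
    obtain ⟨k, hk0, hk1⟩ := third i₀ i₁
    have := gmul i₀ k i₁ hk0.symm hk1 h01 x y
    rw [gform, gform, gform, umul i₀ k i₁ hk0.symm hk1 h01] at this
    exact mul_left_cancel₀ (mul_ne_zero (u0 i₀ k hk0.symm) (u0 k i₁ hk1))
      (this.trans (by ring))
  have sadd : ∀ x y, s (x + y) = s x + s y := fun x y => by
    simp only [hs, σ, gadd, mul_add]
  have s1 : s 1 = 1 := inv_mul_cancel₀ (u0 i₀ i₁ h01)
  have s0 : s 0 = 0 := by simp only [hs, σ, g0, mul_zero]
  let e : RingAut F := RingEquiv.ofBijective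
    ({ toFun := s, map_one' := s1, map_mul' := smul', map_zero' := s0, map_add' := sadd } : F →+* F)
    (Finite.injective_iff_bijective.mp (RingHom.injective _))
  let d : Fin n → F := fun i => if h : i = i₀ then 1 else u i i₀ h
  have d0 : ∀ i, d i ≠ 0 := fun i => by
    simp only [d]; split_ifs with h
    · exact one_ne_zero
    · exact u0 i i₀ h
  have hu : ∀ i j (hij : i ≠ j), u i j hij = d i * (d j)⁻¹ := by
    intro i j hij
    rw [eq_mul_inv_iff_mul_eq₀ (d0 j)]
    rcases eq_or_ne i i₀ with rfl | hi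
    · obtain ⟨k, hkj, hk0⟩ := third j i₀
      obtain hj : j ≠ i₀ := hij.symm
      simp only [d, dif_pos, dif_neg hj]
      have e1 := umul i₀ j k hij hkj.symm hk0.symm
      have e2 := umul j i₀ k hj hk0.symm hkj.symm
      rw [e2] at e1
      exact mul_right_cancel₀ (u0 i₀ k hk0.symm) ((mul_assoc _ _ _).trans e1.symm |>.trans (one_mul _).symm)
    rcases eq_or_ne j i₀ with rfl | hj
    · simp [d, hi]
    · simp only [d, dif_neg hi, dif_neg hj]
      exact (umul i j i₀ hij hj hi).symm
  let D : GL (Fin n) F := GeneralLinearGroup.mkOfDetNeZero (Matrix.diagonal d)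
    (by rw [Matrix.det_diagonal]; exact Finset.prod_ne_zero_iff.mpr fun i _ => d0 i)
  have hψe : ψ = diagAut D * fieldAut e := by
    refine ext_of_xx (by omega) fun i j hij x => ?_
    rw [hg, MulAut.mul_apply, fieldAut_mk, diagAut_mk]
    congr 1
    apply Subtype.ext
    have hinv : (D⁻¹).1 = Matrix.diagonal fun i => (d i)⁻¹ := by
      refine Units.inv_eq_of_mul_eq_one_right ?_
      change Matrix.diagonal d * _ = 1
      rw [Matrix.diagonal_mul_diagonal]
      simp [mul_inv_cancel₀ (d0 _)]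
    rw [coe_conjSL, coe_fieldSL, hinv, coe_xx, coe_xx, gform]
    ext a' b'
    have hD : D.1 = Matrix.diagonal d := rfl
    rw [hD, Matrix.mul_diagonal, Matrix.diagonal_mul, Matrix.map_apply, Matrix.add_apply,
      Matrix.add_apply, map_add, Matrix.single_apply, Matrix.single_apply]
    change _ = d a' * (e _ + e _) * _
    rcases eq_or_ne a' b' with rfl | hab'
    · rw [one_apply_eq, if_neg (fun h => hij (h.1.trans h.2.symm)),
        if_neg (fun h => hij (h.1.trans h.2.symm)), map_one, map_zero, add_zero, mul_one,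
        mul_inv_cancel₀ (d0 a')]
    · rw [one_apply_ne hab', map_zero, zero_add, zero_add]
      split_ifs with h'
      · obtain ⟨rfl, rfl⟩ := h'
        rw [hu i j hij]; change _ = d i * s x * _; ring
      · rw [map_zero]; ring
  refine ⟨G⁻¹ * D, e, ?_⟩
  rw [map_mul, map_inv, mul_assoc, ← hψe, hψ, inv_mul_cancel_left]

/-- Every automorphism is inner-diagonal times field times an optional graph automorphism. -/
theorem exists_decomposition [Fintype F] (p : ℕ) [Fact p.Prime] [CharP F p] (hn : 3 ≤ n)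
    (φ : MulAut PSL) :
    ∃ (g : GL (Fin n) F) (e : RingAut F),
      φ = diagAut g * fieldAut e ∨ φ = diagAut g * fieldAut e * graphAut := by
  obtain ⟨P⟩ := exists_frame p φ
  let a : Fin n := ⟨0, by omega⟩
  let b : Fin n := ⟨1, by omega⟩
  let c : Fin n := ⟨2, by omega⟩
  have hab : a ≠ b := by simp [a, b]
  have hac : a ≠ c := by simp [a, c]
  have hbc : b ≠ c := by simp [b, c]
  rcases P.share_row hab hac hbc with h | h
  · obtain ⟨g, e, hge⟩ := exists_of_row P hn hab hac hbc h
    exact ⟨g, e, Or.inl hge⟩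
  · obtain ⟨g, e, hge⟩ := exists_of_row P.flip hn hab hac hbc h
    refine ⟨dualGL g, e, Or.inr ?_⟩
    have h1 : φ = graphAut * (diagAut g * fieldAut e) := by
      rw [← hge, ← mul_assoc, graphAut_mul_self, one_mul]
    rw [h1, ← mul_assoc, graphAut_diag, mul_assoc, graphAut_field, ← mul_assoc]

end CfsgLib.PSLn
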