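import Cfsg.Agent.Lib.PSL2.Aut
import Mathlib.LinearAlgebra.Matrix.Transvection
import Mathlib.LinearAlgebra.Matrix.SchurComplement
import Mathlib.LinearAlgebra.Matrix.GeneralLinearGroup.Card

/-!
`PSL_n`: transvections `1 + v ⊗ f`, the diagonal, field and graph automorphisms.
-/

set_option autoImplicit false

namespace CfsgLib.PSLn

open Matrix
open scoped MatrixGroups

variable {F : Type*} [Field F] {n : ℕ}

local notation "SL" => Matrix.SpecialLinearGroup (Fin n) F
local notation "PSL" => Matrix.ProjectiveSpecialLinearGroup (Fin n) F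
local notation "V" => (Fin n → F)

/-- The projection. -/
abbrev mk : SL →* PSL := QuotientGroup.mk' _

theorem mk_surjective : Function.Surjective (mk : SL → PSL) := QuotientGroup.mk'_surjective _

/-- The transvection `1 + v ⊗ f`. -/
def tv (v f : V) (h : f ⬝ᵥ v = 0) : SL :=
  ⟨1 + vecMulVec v f, by
    rw [vecMulVec_eq Unit, det_one_add_replicateCol_mul_replicateRow, h, add_zero]⟩

theorem coe_tv (v f : V) (h : f ⬝ᵥ v = 0) : (tv v f h).1 = 1 + vecMulVec v f := rfl

theorem vecMulVec_sq {v f : V} (h : f ⬝ᵥ v = 0) : vecMulVec v f * vecMulVec v f = 0 := by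
  rw [vecMulVec_mul_vecMulVec, h, zero_smul, vecMulVec_zero]

theorem coe_inj_of_congr {v v' f f' : V} (h : f ⬝ᵥ v = 0) (h' : f' ⬝ᵥ v' = 0)
    (e : vecMulVec v f = vecMulVec v' f') : tv v f h = tv v' f' h' :=
  Subtype.ext (by rw [coe_tv, coe_tv, e])

theorem tv_congr {v v' f f' : V} (h : f ⬝ᵥ v = 0) (h' : f' ⬝ᵥ v' = 0) (hv : v = v') (hf : f = f') :
    tv v f h = tv v' f' h' := by subst hv; subst hf; rfl

/-- Root elements `1 + a E_ij`. -/
def xx (i j : Fin n) (hij : i ≠ j) (a : F) : SL := SpecialLinearGroup.transvection hij a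

theorem coe_xx (i j : Fin n) (hij : i ≠ j) (a : F) : (xx i j hij a).1 = 1 + single i j a := rfl

theorem single_eq_vec (i j : Fin n) (a : F) :
    single i j a = vecMulVec (a • (Pi.single i 1 : V)) (Pi.single j 1) := by
  rw [smul_vecMulVec, ← single_eq_single_vecMulVec_single, Matrix.smul_single, smul_eq_mul, mul_one]

theorem dot_single_ne {i j : Fin n} (hij : i ≠ j) (a : F) :
    (Pi.single j 1 : V) ⬝ᵥ (a • (Pi.single i 1 : V)) = 0 := by
  simp [single_dotProduct, hij.symm]

theorem xx_eq_tv (i j : Fin n) (hij : i ≠ j) (a : F) :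
    xx i j hij a = tv (a • (Pi.single i 1 : V)) (Pi.single j 1) (dot_single_ne hij a) :=
  Subtype.ext (by rw [coe_xx, coe_tv, single_eq_vec])

theorem xx_zero (i j : Fin n) (hij : i ≠ j) : xx i j hij (0 : F) = 1 :=
  SpecialLinearGroup.transvection_coeff_zero hij

theorem xx_add (i j : Fin n) (hij : i ≠ j) (a b : F) :
    xx i j hij (a + b) = xx i j hij a * xx i j hij b :=
  SpecialLinearGroup.transvection_add hij a b

theorem xx_inv (i j : Fin n) (hij : i ≠ j) (a : F) : (xx i j hij a)⁻¹ = xx i j hij (-a) :=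
  SpecialLinearGroup.transvection_inv hij a

/-- Conjugation of `SL_n` by `GL_n`. -/
def conjSL : GL (Fin n) F →* MulAut SL where
  toFun g :=
    { toFun := fun A => ⟨g.1 * A.1 * (g⁻¹).1, by rw [Matrix.det_units_conj, A.2]⟩
      invFun := fun A => ⟨(g⁻¹).1 * A.1 * g.1, by rw [Matrix.det_units_conj', A.2]⟩
      left_inv := fun A => Subtype.ext (by simp [Matrix.mul_assoc])
      right_inv := fun A => Subtype.ext (by simp [Matrix.mul_assoc])
      map_mul' := fun A B => Subtype.ext (by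
        change g.1 * (A * B).1 * (g⁻¹).1 = (g.1 * A.1 * (g⁻¹).1) * (g.1 * B.1 * (g⁻¹).1)
        rw [SpecialLinearGroup.coe_mul]; simp [Matrix.mul_assoc]) }
  map_one' := MulEquiv.ext fun A => Subtype.ext (by
    change (1 : GL (Fin n) F).1 * A.1 * ((1 : GL (Fin n) F)⁻¹).1 = A.1
    simp)
  map_mul' g h := MulEquiv.ext fun A => Subtype.ext (by
    change (g * h).1 * A.1 * ((g * h)⁻¹).1 = g.1 * (h.1 * A.1 * (h⁻¹).1) * (g⁻¹).1
    simp [Matrix.mul_assoc])

theorem coe_conjSL (g : GL (Fin n) F) (A : SL) : (conjSL g A).1 = g.1 * A.1 * (g⁻¹).1 := rfl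

theorem conjSL_toGL (A : SL) : conjSL (SpecialLinearGroup.toGL A) = MulAut.conj A := by
  ext B : 1
  apply Subtype.ext
  rw [MulAut.conj_apply, coe_conjSL, ← map_inv, SpecialLinearGroup.coe_mul,
    SpecialLinearGroup.coe_mul]
  rfl

theorem conjSL_tv (g : GL (Fin n) F) (v f : V) (h : f ⬝ᵥ v = 0) :
    ∃ h' : (f ᵥ* (g⁻¹).1) ⬝ᵥ (g.1 *ᵥ v) = 0,
      conjSL g (tv v f h) = tv (g.1 *ᵥ v) (f ᵥ* (g⁻¹).1) h' := by
  have h' : (f ᵥ* (g⁻¹).1) ⬝ᵥ (g.1 *ᵥ v) = 0 := by
    rw [← dotProduct_mulVec, mulVec_mulVec, ← Units.val_mul, inv_mul_cancel, Units.val_one,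
      one_mulVec, h]
  refine ⟨h', Subtype.ext ?_⟩
  rw [coe_conjSL, coe_tv, coe_tv, Matrix.mul_add, Matrix.add_mul, Matrix.mul_one, mul_vecMulVec,
    vecMulVec_mul, ← Units.val_mul, mul_inv_cancel, Units.val_one]

/-- Field automorphisms on `SL_n`. -/
def fieldSL : RingAut F →* MulAut SL where
  toFun e :=
    { toFun := SpecialLinearGroup.map e.toRingHom
      invFun := SpecialLinearGroup.map e.symm.toRingHom
      left_inv := fun A => Subtype.ext (by ext i j; simp)
      right_inv := fun A => Subtype.ext (by ext i j; simp)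
      map_mul' := map_mul _ }
  map_one' := MulEquiv.ext fun A => Subtype.ext rfl
  map_mul' e e' := MulEquiv.ext fun A => Subtype.ext rfl

theorem coe_fieldSL (e : RingAut F) (A : SL) : (fieldSL e A).1 = A.1.map e := rfl

/-- `A ↦ A⁻ᵀ`. -/
def transInv (A : SL) : SL := ⟨(A⁻¹).1ᵀ, by rw [Matrix.det_transpose]; exact (A⁻¹).2⟩

theorem transInv_transInv (A : SL) : transInv (transInv A) = A := by
  have h : (transInv A)⁻¹ = ⟨A.1ᵀ, by rw [Matrix.det_transpose]; exact A.2⟩ := by
    refine inv_eq_of_mul_eq_one_right (Subtype.ext ?_)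
    change (A⁻¹).1ᵀ * A.1ᵀ = 1
    rw [← Matrix.transpose_mul, ← SpecialLinearGroup.coe_mul, mul_inv_cancel,
      SpecialLinearGroup.coe_one, Matrix.transpose_one]
  apply Subtype.ext
  change ((transInv A)⁻¹).1ᵀ = A.1
  rw [h]
  exact Matrix.transpose_transpose A.1

/-- Inverse transpose on `SL_n`. -/
def graphSL : MulAut SL where
  toFun := transInv
  invFun := transInv
  left_inv := transInv_transInv
  right_inv := transInv_transInv
  map_mul' A B := Subtype.ext (by
    change ((A * B)⁻¹).1ᵀ = (A⁻¹).1ᵀ * (B⁻¹).1ᵀ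
    rw [_root_.mul_inv_rev, SpecialLinearGroup.coe_mul, Matrix.transpose_mul])

theorem coe_graphSL (A : SL) : (graphSL A).1 = (A⁻¹).1ᵀ := rfl

theorem tv_inv (v f : V) (h : f ⬝ᵥ v = 0) :
    (tv v f h)⁻¹ = tv (-v) f (by rw [dotProduct_neg, h, neg_zero]) := by
  refine inv_eq_of_mul_eq_one_right (Subtype.ext ?_)
  rw [SpecialLinearGroup.coe_mul, SpecialLinearGroup.coe_one, coe_tv, coe_tv, neg_vecMulVec,
    Matrix.add_mul, Matrix.one_mul, Matrix.mul_add, Matrix.mul_one, Matrix.mul_neg, vecMulVec_sq h]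
  abel

theorem graphSL_tv (v f : V) (h : f ⬝ᵥ v = 0) :
    graphSL (tv v f h) = tv f (-v) (by rw [neg_dotProduct, dotProduct_comm, h, neg_zero]) := by
  apply Subtype.ext
  rw [coe_graphSL, tv_inv, coe_tv, coe_tv, Matrix.transpose_add, Matrix.transpose_one,
    transpose_vecMulVec]

/-- Conjugation of `PSL_n` by `GL_n`: the inner-diagonal automorphisms. -/
def diagAut : GL (Fin n) F →* MulAut PSL := (PSL2.centreQuotAut SL).comp conjSL

/-- Field automorphisms of `PSL_n`. -/
def fieldAut : RingAut F →* MulAut PSL := (PSL2.centreQuotAut SL).comp fieldSL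

/-- The inverse-transpose automorphism of `PSL_n`. -/
def graphAut : MulAut PSL := PSL2.centreQuotAut SL graphSL

theorem diagAut_mk (g : GL (Fin n) F) (A : SL) : diagAut g (mk A) = mk (conjSL g A) := rfl

theorem fieldAut_mk (e : RingAut F) (A : SL) : fieldAut e (mk A) = mk (fieldSL e A) := rfl

theorem graphAut_mk (A : SL) : graphAut (mk A) = mk (graphSL A) := rfl

theorem diagAut_toGL (A : SL) : diagAut (SpecialLinearGroup.toGL A) = MulAut.conj (mk A) := by
  ext x
  obtain ⟨B, rfl⟩ := mk_surjective x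
  rw [diagAut_mk, conjSL_toGL, MulAut.conj_apply, MulAut.conj_apply, map_mul, map_mul, map_inv]

theorem graphAut_mul_self : (graphAut : MulAut PSL) * graphAut = 1 := by
  ext x
  obtain ⟨A, rfl⟩ := mk_surjective x
  rw [MulAut.mul_apply, graphAut_mk, graphAut_mk, MulAut.one_apply]
  congr 1
  exact graphSL.left_inv A

theorem graphAut_inv : (graphAut : MulAut PSL)⁻¹ = graphAut :=
  inv_eq_of_mul_eq_one_right graphAut_mul_self

theorem graphAut_field (e : RingAut F) :
    (graphAut : MulAut PSL) * fieldAut e = fieldAut e * graphAut := by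
  ext x
  obtain ⟨A, rfl⟩ := mk_surjective x
  rw [MulAut.mul_apply, MulAut.mul_apply, fieldAut_mk, graphAut_mk, graphAut_mk, fieldAut_mk]
  congr 1
  apply Subtype.ext
  rw [coe_graphSL, coe_fieldSL, coe_graphSL, show (fieldSL e A)⁻¹ = fieldSL e A⁻¹ from
    (map_inv (fieldSL e) A).symm, coe_fieldSL, Matrix.transpose_map]

theorem fieldAut_diag (e : RingAut F) (g : GL (Fin n) F) :
    fieldAut e * diagAut g =
      diagAut (GeneralLinearGroup.map (e : F ≃+* F).toRingHom g) * fieldAut e := by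
  ext x
  obtain ⟨A, rfl⟩ := mk_surjective x
  rw [MulAut.mul_apply, MulAut.mul_apply, diagAut_mk, fieldAut_mk, fieldAut_mk, diagAut_mk]
  congr 1
  apply Subtype.ext
  rw [coe_conjSL, ← map_inv, coe_fieldSL, coe_fieldSL, coe_conjSL]
  change (g.1 * A.1 * (g⁻¹).1).map (e : F ≃+* F).toRingHom =
    g.1.map (e : F ≃+* F).toRingHom * A.1.map (e : F ≃+* F).toRingHom *
      (g⁻¹).1.map (e : F ≃+* F).toRingHom
  rw [Matrix.map_mul, Matrix.map_mul]

/-- `g ↦ g⁻ᵀ` on `GL_n`. -/
def dualGL : GL (Fin n) F →* GL (Fin n) F where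
  toFun g := ⟨(g⁻¹).1ᵀ, g.1ᵀ, by rw [← Matrix.transpose_mul, ← Units.val_mul, mul_inv_cancel,
      Units.val_one, Matrix.transpose_one], by
    rw [← Matrix.transpose_mul, ← Units.val_mul, inv_mul_cancel, Units.val_one,
      Matrix.transpose_one]⟩
  map_one' := Units.ext (by simp)
  map_mul' g h := Units.ext (by
    change (((g * h)⁻¹ : GL (Fin n) F) : Matrix (Fin n) (Fin n) F)ᵀ = (g⁻¹).1ᵀ * (h⁻¹).1ᵀ
    rw [_root_.mul_inv_rev, Units.val_mul, Matrix.transpose_mul])

theorem coe_dualGL (g : GL (Fin n) F) : (dualGL g).1 = (g⁻¹).1ᵀ := rfl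

theorem graphAut_diag (g : GL (Fin n) F) :
    (graphAut : MulAut PSL) * diagAut g = diagAut (dualGL g) * graphAut := by
  ext x
  obtain ⟨A, rfl⟩ := mk_surjective x
  rw [MulAut.mul_apply, MulAut.mul_apply, diagAut_mk, graphAut_mk, graphAut_mk, diagAut_mk]
  congr 1
  apply Subtype.ext
  rw [coe_graphSL, coe_conjSL, coe_graphSL, show (conjSL g A)⁻¹ = conjSL g A⁻¹ from
    (map_inv (conjSL g) A).symm, coe_conjSL, Matrix.transpose_mul, Matrix.transpose_mul,
    ← Matrix.mul_assoc, ← map_inv]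
  congr 1

/-- Unipotent square-zero lifts are unique. -/
theorem sqzero_unique {A B : SL} (hA : (A.1 - 1) * (A.1 - 1) = 0) (hB : (B.1 - 1) * (B.1 - 1) = 0)
    (h : mk A = mk B) : A = B := by
  rcases Nat.eq_zero_or_pos n with hn | hn
  · subst hn
    exact Subtype.ext (Subsingleton.elim _ _)
  rw [QuotientGroup.mk'_apply, QuotientGroup.mk'_apply, QuotientGroup.eq,
    SpecialLinearGroup.mem_center_iff] at h
  obtain ⟨r, hr, hrB⟩ := h
  have hr0 : r ≠ 0 := fun h0 => by
    rw [h0, Fintype.card_fin, zero_pow hn.ne'] at hr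
    exact zero_ne_one hr
  have hB' : B.1 = r • A.1 := by
    have e : B.1 = A.1 * Matrix.scalar (Fin n) r := by
      rw [hrB, ← SpecialLinearGroup.coe_mul, mul_inv_cancel_left]
    rw [e, Matrix.scalar_apply, ← Matrix.smul_one_eq_diagonal, mul_smul_comm, Matrix.mul_one]
  set M := A.1 - 1 with hM
  set N := B.1 - 1 with hN
  set c : F := 1 - r with hc
  have e1 : N = r • M - c • (1 : Matrix (Fin n) (Fin n) F) := by
    rw [hN, hB', hM, hc, smul_sub, sub_smul, one_smul]; abel
  have e2 : (r • M) * (r • M) = 0 := by rw [smul_mul_smul_comm, hA, smul_zero]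
  have e3 : r • M = N + c • (1 : Matrix (Fin n) (Fin n) F) := by rw [e1]; abel
  rw [e3, add_mul, mul_add, mul_add, hB, zero_add, mul_smul_comm, Matrix.mul_one, smul_mul_assoc,
    Matrix.one_mul, smul_mul_assoc, Matrix.one_mul, smul_smul] at e2
  have hc0 : c = 0 := by
    by_contra hne
    have e4 := congrArg (fun X => X * N) e2
    simp only [add_mul, smul_mul_assoc, hB, smul_zero, zero_add, zero_mul, Matrix.one_mul] at e4
    have hN0 : N = 0 := (smul_eq_zero.mp e4).resolve_left (mul_ne_zero hne hne)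
    rw [hN0, smul_zero, zero_add, zero_add] at e2
    have h1 : (1 : Matrix (Fin n) (Fin n) F) = 0 :=
      (smul_eq_zero.mp e2).resolve_left (mul_ne_zero hne hne)
    have := congrFun (congrFun h1 ⟨0, hn⟩) ⟨0, hn⟩
    simp at this
  have hr1 : r = 1 := (sub_eq_zero.mp hc0).symm
  exact Subtype.ext (by rw [hB', hr1, one_smul])

theorem tv_sq (v f : V) (h : f ⬝ᵥ v = 0) : ((tv v f h).1 - 1) * ((tv v f h).1 - 1) = 0 := by
  rw [coe_tv, add_sub_cancel_left, vecMulVec_sq h]

theorem mk_tv_injective {v v' f f' : V} {h : f ⬝ᵥ v = 0} {h' : f' ⬝ᵥ v' = 0}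
    (e : mk (tv v f h) = mk (tv v' f' h')) : vecMulVec v f = vecMulVec v' f' := by
  have := congrArg Subtype.val (sqzero_unique (tv_sq v f h) (tv_sq v' f' h') e)
  rw [coe_tv, coe_tv] at this
  exact add_left_cancel this

theorem mk_xx_injective {i j : Fin n} (hij : i ≠ j) :
    Function.Injective (fun a : F => mk (xx i j hij a)) := by
  intro a b h
  simp only [xx_eq_tv] at h
  have := mk_tv_injective h
  rw [← single_eq_vec, ← single_eq_vec] at this
  simpa using congrFun (congrFun this i) j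

/-- Two automorphisms agreeing on the root elements are equal. -/
theorem ext_of_xx (hn : 2 ≤ n) {φ ψ : MulAut PSL}
    (h : ∀ i j hij a, φ (mk (xx i j hij a)) = ψ (mk (xx i j hij a))) : φ = ψ := by
  have : Nontrivial (Fin n) := Fin.nontrivial_iff_two_le.mpr hn
  suffices key : ∀ A : SL, φ (mk A) = ψ (mk A) by
    ext x
    obtain ⟨A, rfl⟩ := mk_surjective x
    exact key A
  intro A
  refine SpecialLinearGroup.diagonal_transvection_induction'
    (P := fun A => φ (mk A) = ψ (mk A)) A (fun i j hij c hc => ?_) (fun i j hij a => h i j hij a)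
    (fun A B hA hB => by simp only [map_mul, hA, hB])
  have e : SpecialLinearGroup.diag2n hij c hc =
      xx i j hij c * xx j i hij.symm (-c⁻¹) * xx i j hij c * xx i j hij (-1) * xx j i hij.symm 1 *
        xx i j hij (-1) := by
    apply Subtype.ext
    simp only [SpecialLinearGroup.coe_mul, coe_xx, SpecialLinearGroup.diag2n_coe, Matrix.mul_add,
      Matrix.add_mul, Matrix.mul_one, Matrix.one_mul, Matrix.single_mul_single_same,
      Matrix.single_mul_single_of_ne _ _ _ _ hij, Matrix.single_mul_single_of_ne _ _ _ _ hij.symm,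
      Matrix.zero_mul, zero_add, add_zero]
    ext k l
    by_cases hki : k = i <;> by_cases hkj : k = j <;> by_cases hli : l = i <;> by_cases hlj : l = j <;>
      simp_all [Matrix.single_apply, Matrix.one_apply, Matrix.diagonal_apply, eq_comm] <;> (try field_simp) <;> (try ring)
  simp only [e, map_mul, h]

end CfsgLib.PSLn
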