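import Cfsg.Agent.Lib.PSLn.FieldClass
import Mathlib.FieldTheory.Finite.GaloisField
import Mathlib.LinearAlgebra.Matrix.GeneralLinearGroup.Projective

/-!
The centralizer of a standard field automorphism in `Inndiag(PSL_n(q))`.
-/

set_option autoImplicit false

namespace CfsgLib.PSLn

open Matrix
open scoped MatrixGroups

variable {F : Type*} [Field F] {n : ℕ}

local notation "PSL" => Matrix.ProjectiveSpecialLinearGroup (Fin n) F

theorem charP_of_card [Fintype F] {p f : ℕ} [Fact p.Prime] (hF : Fintype.card F = p ^ f) :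
    CharP F p :=
  charP_of_card_eq_prime_pow hF

/-- For a field automorphism of prime order `r` of a field of order `p ^ f`: `r ∣ f` and the fixed
field has order `p ^ (f / r)`. -/
theorem dvd_and_card_fixedField [Fintype F] {p f : ℕ} [Fact p.Prime] (hF : Fintype.card F = p ^ f)
    (σ : RingAut F) {r : ℕ} (hr : orderOf σ = r) :
    r ∣ f ∧ Nat.card (fixedField σ) = p ^ (f / r) := by
  haveI := charP_of_card hF
  obtain ⟨-, hc⟩ := ringAut_cyclic (F := F) (p := p) hF
  have := finite_ringAut (F := F)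
  have hd : r ∣ f := hr ▸ hc ▸ orderOf_dvd_natCard σ
  refine ⟨hd, ?_⟩
  have h := card_eq_fixedField_pow σ
  rw [hF, hr, ← Nat.div_mul_cancel hd, pow_mul] at h
  have hr0 : r ≠ 0 := by
    intro h0
    have := orderOf_pos σ
    omega
  exact (Nat.pow_left_injective hr0 h).symm

theorem commute_diag_field_iff (hn : 2 ≤ n) (σ : RingAut F) (g : GL (Fin n) F) :
    Commute (diagAut g : MulAut PSL) (fieldAut σ) ↔
      ∃ u : Fˣ, GeneralLinearGroup.map (σ : F ≃+* F).toRingHom g =
        GeneralLinearGroup.scalar (Fin n) u * g := by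
  rw [← diagAut_eq_iff hn, commute_iff_eq, fieldAut_diag, mul_left_inj]
  exact eq_comm

theorem exists_scalar_fixed [Finite F] (hn : 2 ≤ n) {σ : RingAut F} {g : GL (Fin n) F}
    (h : Commute (diagAut g : MulAut PSL) (fieldAut σ)) :
    ∃ v : Fˣ, ∀ i j, σ ((GeneralLinearGroup.scalar (Fin n) v * g).1 i j) =
      (GeneralLinearGroup.scalar (Fin n) v * g).1 i j := by
  obtain ⟨u, hu⟩ := (commute_diag_field_iff hn σ g).mp h
  obtain ⟨v, hv⟩ := exists_fixed_of_proj σ (by omega) g (u : F) (by
    have e := congrArg (fun x : GL (Fin n) F => x.1) hu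
    simp only [Units.val_mul, scalar_coe] at e
    rw [Matrix.scalar_apply, ← Matrix.smul_one_eq_diagonal, smul_mul_assoc, Matrix.one_mul] at e
    exact e)
  exact ⟨v, fun i j => congrFun (congrFun hv i) j⟩

/-- The hom from `GL_n` of the fixed field to `Aut PSL_n`. -/
def fixedHom {F₀ : Type*} [Field F₀] (ι : F₀ →+* F) : GL (Fin n) F₀ →* MulAut PSL :=
  (diagAut : GL (Fin n) F →* MulAut PSL).comp (GeneralLinearGroup.map ι)

theorem ker_fixedHom (hn : 2 ≤ n) {F₀ : Type*} [Field F₀] (ι : F₀ →+* F) :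
    (fixedHom ι : GL (Fin n) F₀ →* MulAut PSL).ker = Subgroup.center (GL (Fin n) F₀) := by
  ext A
  rw [MonoidHom.mem_ker, fixedHom, MonoidHom.comp_apply, ← MonoidHom.mem_ker, ker_diagAut hn]
  constructor
  · intro h
    rw [Subgroup.mem_center_iff] at h ⊢
    intro B
    have := h (GeneralLinearGroup.map ι B)
    rw [← map_mul, ← map_mul] at this
    refine Units.ext (Matrix.ext fun i j => ι.injective ?_)
    exact congrFun (congrFun (congrArg (fun x : GL (Fin n) F => x.1) this) i) j
  · intro h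
    rw [GeneralLinearGroup.center_eq_range_scalar] at h ⊢
    obtain ⟨u, rfl⟩ := h
    refine ⟨Units.map ι.toMonoidHom u, ?_⟩
    apply Units.ext
    rw [scalar_coe]
    show _ = (Matrix.scalar (Fin n) (u : F₀)).map ι
    rw [Matrix.scalar_apply, Matrix.scalar_apply, Matrix.diagonal_map (map_zero ι)]
    rfl

theorem range_fixedHom [Fintype F] (hn : 2 ≤ n) (σ : RingAut F) {F₀ : Type*} [Field F₀]
    (ι : F₀ →+* F) (hι : ∀ y, σ y = y ↔ y ∈ ι.range) :
    (fixedHom ι : GL (Fin n) F₀ →* MulAut PSL).range =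
      Cfsg.inndiagPSL n F ⊓ Subgroup.centralizer {fieldAut σ} := by
  apply le_antisymm
  · rintro _ ⟨A, rfl⟩
    refine Subgroup.mem_inf.mpr ⟨by rw [inndiag_eq]; exact ⟨_, rfl⟩, ?_⟩
    rw [Subgroup.mem_centralizer_singleton_iff]
    refine ((commute_diag_field_iff hn σ _).mpr ⟨1, ?_⟩).eq
    rw [map_one, one_mul]
    exact Units.ext (Matrix.ext fun i j => (hι _).mpr ⟨A.1 i j, rfl⟩)
  · intro a ha
    obtain ⟨ha, hc⟩ := Subgroup.mem_inf.mp ha
    rw [inndiag_eq] at ha
    obtain ⟨g, rfl⟩ := ha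
    obtain ⟨v, hv⟩ := exists_scalar_fixed hn (Subgroup.mem_centralizer_singleton_iff.mp hc)
    choose A hA using fun i j => (hι _).mp (hv i j)
    have hdet : (Matrix.of A).det ≠ 0 := by
      intro h0
      have e : ι (Matrix.of A).det = (GeneralLinearGroup.scalar (Fin n) v * g).1.det := by
        rw [RingHom.map_det]
        congr 1
        exact Matrix.ext hA
      rw [h0, map_zero] at e
      exact ((Matrix.isUnit_iff_isUnit_det _).mp
        (GeneralLinearGroup.scalar (Fin n) v * g).isUnit).ne_zero e.symm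
    refine ⟨GeneralLinearGroup.mkOfDetNeZero (Matrix.of A) hdet, ?_⟩
    rw [fixedHom, MonoidHom.comp_apply, diagAut_eq_iff hn]
    exact ⟨v, Units.ext (Matrix.ext hA)⟩

theorem centralizer_fieldAut_equiv [Fintype F] (hn : 2 ≤ n) (σ : RingAut F) (F₀ : Type*)
    [Field F₀] [Fintype F₀] (h : Fintype.card F₀ = Nat.card (fixedField σ)) :
    Nonempty (↥(Cfsg.inndiagPSL n F ⊓ Subgroup.centralizer {fieldAut σ}) ≃*
      Matrix.ProjGenLinGroup (Fin n) F₀) := by
  classical
  have : Fintype (fixedField σ) := Fintype.ofFinite _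
  let e : F₀ ≃+* fixedField σ := FiniteField.ringEquivOfCardEq (h.trans Nat.card_eq_fintype_card)
  let ι : F₀ →+* F := (fixedField σ).subtype.comp e.toRingHom
  have hι : ∀ y, σ y = y ↔ y ∈ ι.range := fun y =>
    ⟨fun hy => ⟨e.symm ⟨y, hy⟩, by simp [ι]⟩, by rintro ⟨a, rfl⟩; exact (e a).2⟩
  exact ⟨((MulEquiv.subgroupCongr (range_fixedHom hn σ ι hι)).symm.trans
    (QuotientGroup.quotientKerEquivRange _).symm).trans
    (QuotientGroup.quotientMulEquivOfEq (ker_fixedHom hn ι))⟩

theorem index_fixedUnits [Fintype F] (σ : RingAut F) :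
    (fixedUnits σ).index = (Fintype.card F - 1) / (Nat.card (fixedField σ) - 1) := by
  have h := (fixedUnits σ).card_mul_index
  have h0 : 0 < Nat.card (fixedUnits σ) := Nat.card_pos
  rw [Nat.card_units, Nat.card_eq_fintype_card (α := F)] at h
  rw [card_fixedUnits] at h h0
  rw [← h, Nat.mul_div_cancel_left _ h0]

theorem splitCount_fieldAut [Fintype F] (hn : 2 ≤ n) (σ : RingAut F) :
    Cfsg.splitClassCount (Cfsg.inndiagPSL n F) (Cfsg.Inn PSL) (fieldAut σ) =
      Nat.gcd n ((Fintype.card F - 1) / (Nat.card (fixedField σ) - 1)) := by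
  rw [← index_fixedUnits, splitCount_eq_gcd hn (fieldAut σ) (fixedUnits σ)]
  · intro g hg
    obtain ⟨v, hv⟩ := exists_scalar_fixed hn hg
    set g₀ := GeneralLinearGroup.scalar (Fin n) v * g
    have h0 : GeneralLinearGroup.det g₀ ∈ fixedUnits σ := by
      rw [mem_fixedUnits, GeneralLinearGroup.val_det_apply]
      exact (RingHom.map_det (σ : F ≃+* F).toRingHom g₀.1).trans
        (congrArg Matrix.det (Matrix.ext hv))
    have e : GeneralLinearGroup.det g = (v ^ n)⁻¹ * GeneralLinearGroup.det g₀ := by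
      rw [map_mul, show GeneralLinearGroup.det (GeneralLinearGroup.scalar (Fin n) v) = v ^ n from
        Units.ext (by simp [Matrix.det_diagonal]), inv_mul_cancel_left]
    rw [e]
    exact mul_mem (Subgroup.mem_sup_left (inv_mem (show v ^ n ∈ (powMonoidHom n : Fˣ →* Fˣ).range
      from ⟨v, rfl⟩))) (Subgroup.mem_sup_right h0)
  · intro u hu
    refine ⟨dil hn u, (commute_diag_field_iff hn σ _).mpr ⟨1, ?_⟩, det_dil hn u⟩
    rw [map_one, one_mul]
    refine Units.ext ?_
    show (Matrix.diagonal (Function.update (1 : Fin n → F) _ (u : F))).map σ = _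
    rw [Matrix.diagonal_map (map_zero σ)]
    congr 1
    funext i
    rcases eq_or_ne i ⟨0, by omega⟩ with rfl | hi
    · simp [mem_fixedUnits.mp hu]
    · simp [Function.update_of_ne hi]

theorem splitClassCount_conj {X : Type*} [Group X] (H K : Subgroup X) {k s : X} (hk : k ∈ H) :
    Cfsg.splitClassCount H K (k * s * k⁻¹) = Cfsg.splitClassCount H K s :=
  Nat.card_congr (Quot.congr (Equiv.subtypeEquivRight fun _ => isConjUnder_conj_iff H hk)
    fun _ _ => Iff.rfl)

end CfsgLib.PSLn
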