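import Cfsg.Agent.Lib.PSLn.Sylow
import Cfsg.Agent.Lib.Fusion.GroupSimple
import Cfsg.Agent.Lib.Elementary

/-! The `p`-fusion system of `PSL_n(q)`, `n ≥ 3`, in the defining characteristic. -/

set_option autoImplicit false
set_option linter.unusedSectionVars false

namespace CfsgLib.PSLn

open Matrix
open scoped MatrixGroups
open CfsgLib.GroupSimple (FusionClosed Gen)

variable {F : Type*} [Field F] [Fintype F] {n : ℕ}

local notation "SL" => Matrix.SpecialLinearGroup (Fin n) F
local notation "PSL" => Matrix.ProjectiveSpecialLinearGroup (Fin n) F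

omit [Fintype F] in
theorem xx_mul_apply (i j : Fin n) (hij : i ≠ j) (c : F) (A : SL) (k l : Fin n) :
    (xx i j hij c * A).1 k l = A.1 k l + (if k = i then c * A.1 j l else 0) := by
  rw [Matrix.SpecialLinearGroup.coe_mul, coe_xx, Matrix.add_mul, Matrix.one_mul, Matrix.add_apply]
  congr 1
  split_ifs with h
  · subst h; rw [Matrix.single_mul_apply_same]
  · rw [Matrix.single_mul_apply_of_ne (h := h)]

omit [Fintype F] in
theorem mul_xx_apply (i j : Fin n) (hij : i ≠ j) (c : F) (A : SL) (k l : Fin n) :
    (A * xx i j hij c).1 k l = A.1 k l + (if l = j then A.1 k i * c else 0) := by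
  rw [Matrix.SpecialLinearGroup.coe_mul, coe_xx, Matrix.mul_add, Matrix.mul_one, Matrix.add_apply]
  congr 1
  split_ifs with h
  · subst h; rw [Matrix.mul_single_apply_same]
  · rw [Matrix.mul_single_apply_of_ne (hbj := h)]

theorem upper_diag {A : SL} (hA : A ∈ upper F n) (i : Fin n) : A.1 i i = 1 := by
  simpa using hA i i le_rfl

theorem upper_below {A : SL} (hA : A ∈ upper F n) {i j : Fin n} (h : j < i) : A.1 i j = 0 := by
  simpa [Matrix.one_apply_ne h.ne'] using hA i j h.le

/-- The unitriangular group is generated by its root elements. -/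
theorem upper_le_closure :
    upper F n ≤ Subgroup.closure {x : SL | ∃ (i j : Fin n) (h : i < j) (t : F), x = xx i j h.ne t} := by
  classical
  set K := Subgroup.closure {x : SL | ∃ (i j : Fin n) (h : i < j) (t : F), x = xx i j h.ne t}
  suffices key : ∀ (m : ℕ) (A : SL), A ∈ upper F n →
      (Finset.univ.filter fun q : Fin n × Fin n => q.1 < q.2 ∧ A.1 q.1 q.2 ≠ 0).card = m → A ∈ K from
    fun A hA => key _ A hA rfl
  intro m
  induction m using Nat.strong_induction_on with
  | _ m ih =>
    intro A hA hm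
    set s := Finset.univ.filter fun q : Fin n × Fin n => q.1 < q.2 ∧ A.1 q.1 q.2 ≠ 0 with hs
    by_cases hempty : s = ∅
    · have h1 : A = 1 := by
        apply Subtype.ext
        ext k l
        rcases le_or_gt l k with h | h
        · exact hA k l h
        · by_contra hne
          have : (k, l) ∈ s := by
            rw [hs, Finset.mem_filter]
            exact ⟨Finset.mem_univ _, h, fun h0 => hne (by rw [h0]; simp [Matrix.one_apply_ne h.ne])⟩
          rw [hempty] at this
          exact Finset.notMem_empty _ this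
      rw [h1]; exact one_mem K
    · obtain ⟨⟨i, j⟩, hmem, hmax⟩ :=
        Finset.exists_max_image s (fun q => (q.1 : ℕ)) (Finset.nonempty_of_ne_empty hempty)
      obtain ⟨hij, hne⟩ : i < j ∧ A.1 i j ≠ 0 := by simpa [hs] using hmem
      have hrow : ∀ l, l ≠ j → A.1 j l = 0 := by
        intro l hl
        rcases lt_or_gt_of_ne hl with h | h
        · exact upper_below hA h
        · by_contra h0
          have h1 := hmax (j, l) (by rw [hs, Finset.mem_filter]; exact ⟨Finset.mem_univ _, h, h0⟩)
          simp only at h1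
          exact absurd hij (not_lt.mpr (Fin.le_def.mpr h1))
      have hB : xx i j hij.ne (-A.1 i j) * A ∈ upper F n := mul_mem (xx_mem_upper hij _) hA
      have hentry : ∀ k l, (xx i j hij.ne (-A.1 i j) * A).1 k l
          = if k = i ∧ l = j then 0 else A.1 k l := by
        intro k l
        rw [xx_mul_apply]
        split_ifs with h1 h2 h2
        · obtain ⟨rfl, rfl⟩ := h2
          rw [upper_diag hA, mul_one, add_neg_cancel]
        · subst h1
          rw [hrow l fun h => h2 ⟨rfl, h⟩, mul_zero, add_zero]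
        · exact absurd h2.1 h1
        · rw [add_zero]
      have hlt : (Finset.univ.filter fun q : Fin n × Fin n =>
          q.1 < q.2 ∧ (xx i j hij.ne (-A.1 i j) * A).1 q.1 q.2 ≠ 0).card < m := by
        rw [← hm]
        refine lt_of_le_of_lt (Finset.card_le_card ?_) (Finset.card_erase_lt_of_mem hmem)
        intro q hq
        rw [Finset.mem_filter] at hq
        obtain ⟨-, hq1, hq2⟩ := hq
        rw [hentry] at hq2
        split_ifs at hq2 with h
        · exact absurd rfl hq2
        · refine Finset.mem_erase.mpr ⟨fun e => h ⟨congrArg Prod.fst e, congrArg Prod.snd e⟩, ?_⟩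
          rw [hs, Finset.mem_filter]
          exact ⟨Finset.mem_univ _, hq1, hq2⟩
      have hBK := ih _ hlt _ hB rfl
      have hxK : xx i j hij.ne (-A.1 i j) ∈ K := Subgroup.subset_closure ⟨i, j, hij, _, rfl⟩
      simpa using mul_mem (inv_mem hxK) hBK

variable (p : ℕ) [Fact p.Prime] [CharP F p]

omit [Fintype F] in
theorem xx_pow (i j : Fin n) (hij : i ≠ j) (c : F) (k : ℕ) : xx i j hij c ^ k = xx i j hij (k * c) := by
  induction k with
  | zero => rw [pow_zero, Nat.cast_zero, zero_mul, xx_zero]
  | succ k ih => rw [pow_succ, ih, ← xx_add, Nat.cast_succ, add_mul, one_mul]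

theorem orderOf_mk_xx (i j : Fin n) (hij : i ≠ j) (c : F) :
    ∃ k : ℕ, orderOf (mk (xx i j hij c) : PSL) = p ^ k := by
  have h : (mk (xx i j hij c) : PSL) ^ p = 1 := by
    rw [← map_pow, xx_pow, CharP.cast_eq_zero F p, zero_mul, xx_zero, map_one]
  obtain ⟨k, -, hk⟩ := (Nat.dvd_prime_pow Fact.out).mp
    (show orderOf (mk (xx i j hij c) : PSL) ∣ p ^ 1 by rw [pow_one]; exact orderOf_dvd_of_pow_eq_one h)
  exact ⟨k, hk⟩

theorem mem_upperSylow {x : PSL} :
    x ∈ ((upperSylow (F := F) (n := n) p : Sylow p PSL) : Subgroup PSL) ↔ ∃ A ∈ upper F n, mk A = x := by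
  rw [coe_upperSylow]
  exact ⟨fun ⟨A, h⟩ => ⟨A.1, A.2, h⟩, fun ⟨A, hA, h⟩ => ⟨⟨A, hA⟩, h⟩⟩

theorem mk_mem_upperSylow {A : SL} (hA : A ∈ upper F n) :
    (mk A : PSL) ∈ ((upperSylow (F := F) (n := n) p : Sylow p PSL) : Subgroup PSL) :=
  (mem_upperSylow p).mpr ⟨A, hA, rfl⟩

/-- Nontrivial fusion closed subgroups of the unitriangular group are everything. -/
theorem closed_eq_top (hn : 3 ≤ n) (T : Subgroup PSL)
    (hT : FusionClosed ((upperSylow (F := F) (n := n) p : Sylow p PSL) : Subgroup PSL) T) (hT1 : T ≠ ⊥) :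
    ((upperSylow (F := F) (n := n) p : Sylow p PSL) : Subgroup PSL) ≤ T := by
  classical
  set U := ((upperSylow (F := F) (n := n) p : Sylow p PSL) : Subgroup PSL) with hU
  obtain ⟨hTU, hcl⟩ := hT
  haveI : Finite PSL := Quotient.finite _
  haveI : Group.IsNilpotent U := (upperSylow (F := F) (n := n) p).2.isNilpotent
  haveI : (T.subgroupOf U).Normal := ⟨fun x hx g => by
    have hx' : (x : PSL) ∈ T := hx
    exact hcl _ hx' (g : PSL) (mul_mem (mul_mem g.2 x.2) (inv_mem g.2))⟩
  have hne : T.subgroupOf U ⊓ Subgroup.center U ≠ ⊥ :=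
    CfsgLib.inf_center_ne_bot_of_nilpotent (fun h => hT1 (by
      rw [← inf_eq_left.mpr hTU, ← Subgroup.subgroupOf_map_subtype, h, Subgroup.map_bot]))
  obtain ⟨⟨z, hz⟩, hz1'⟩ := Subgroup.ne_bot_iff_exists_ne_one.mp hne
  have hz1 : z ≠ 1 := fun e => hz1' (Subtype.ext e)
  obtain ⟨A, hA, hAz⟩ := (mem_upperSylow p).mp z.2
  have hAT : (mk A : PSL) ∈ T := hAz ▸ hz.1
  set a : Fin n := ⟨0, by omega⟩
  set b : Fin n := ⟨n - 1, by omega⟩
  have hab : a < b := by simp [a, b, Fin.lt_def]; omega
  have hcomm : ∀ i j (hij : i < j), Commute (mk A : PSL) (mk (xx i j hij.ne 1)) := by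
    intro i j hij
    have h := congrArg Subtype.val
      (Subgroup.mem_center_iff.mp hz.2 ⟨_, mk_mem_upperSylow p (xx_mem_upper hij (1 : F))⟩)
    simp only [Subgroup.coe_mul] at h
    rw [← hAz] at h
    exact h.symm
  have hAeq := eq_long_root_of_commute hab (fun i => by simp [a, Fin.le_def])
    (fun i => by simp [b, Fin.le_def]; omega) hA hcomm
  set c := A.1 a b with hc
  have hc0 : c ≠ 0 := fun h => hz1 (Subtype.ext (by rw [← hAz, hAeq, h, xx_zero, map_one]; rfl))
  rw [hAeq] at hAT
  have hscale : ∀ lam : F, lam ≠ 0 → (mk (xx a b hab.ne (lam * c)) : PSL) ∈ T := by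
    intro lam hlam
    set k : Fin n := ⟨1, by omega⟩
    have hka : k ≠ a := by simp [k, a, Fin.ext_iff]
    have hkb : k ≠ b := by simp [k, b, Fin.ext_iff]; omega
    let v : Fin n → F := Function.update (Function.update 1 a lam) k lam⁻¹
    have hdet : (Matrix.diagonal v).det = 1 := by
      rw [Matrix.det_diagonal, Finset.prod_update_of_mem (Finset.mem_univ k),
        Finset.prod_update_of_mem (by simp [hka.symm])]
      simp [hlam]
    let D : SL := ⟨Matrix.diagonal v, hdet⟩
    have e : D * xx a b hab.ne c = xx a b hab.ne (lam * c) * D := by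
      apply Subtype.ext
      ext i l
      rw [xx_mul_apply, mul_xx_apply]
      simp only [D, Matrix.diagonal_apply]
      rcases eq_or_ne i a with rfl | hia
      · rcases eq_or_ne l b with rfl | hlb
        · simp [v, hab.ne, hab.ne', hka.symm, hkb.symm]
        · simp [hlb, Ne.symm hlb]
      · rcases eq_or_ne l b with rfl | hlb
        · simp [hia]
        · simp [hia, hlb]
    have h2 : (mk (xx a b hab.ne (lam * c)) : PSL) = mk D * mk (xx a b hab.ne c) * (mk D)⁻¹ := by
      rw [← map_mul, e, map_mul, mul_inv_cancel_right]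
    rw [h2]
    exact hcl _ hAT _ (h2 ▸ mk_mem_upperSylow p (xx_mem_upper hab _))
  rintro x hx
  obtain ⟨B, hB, rfl⟩ := (mem_upperSylow p).mp hx
  refine (Subgroup.closure_le (K := T.comap mk)).mpr ?_ (upper_le_closure hB)
  rintro _ ⟨i, j, hij, t, rfl⟩
  show (mk (xx i j hij.ne t) : PSL) ∈ T
  rcases eq_or_ne t 0 with rfl | ht
  · rw [xx_zero, map_one]; exact one_mem T
  obtain ⟨s, ε, hs⟩ := exists_conj_root (F := F) hab.ne hij.ne
  have hε : ε * t ≠ 0 := fun h => by
    have h1 := hs t
    rw [h, xx_zero, mul_one, mul_inv_cancel] at h1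
    have h2 := congrArg (fun M : SL => M.1 i j) h1
    simp [coe_xx, hij.ne] at h2
    exact ht h2
  have hm : (mk (xx a b hab.ne (ε * t)) : PSL) ∈ T := by
    have h1 := hscale (ε * t / c) (div_ne_zero hε hc0)
    rwa [div_mul_cancel₀ _ hc0] at h1
  have h2 : (mk (xx i j hij.ne t) : PSL) = mk s * mk (xx a b hab.ne (ε * t)) * (mk s)⁻¹ := by
    rw [← map_inv, ← map_mul, ← map_mul, ← hs]
  rw [h2]
  exact hcl _ hm _ (h2 ▸ mk_mem_upperSylow p (xx_mem_upper hij _))

/-- The unipotent radical of a minimal parabolic. -/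
def rad (i j : Fin n) (hij : (j : ℕ) = i + 1) : Subgroup SL where
  carrier := {A | A ∈ upper F n ∧ A.1 i j = 0}
  one_mem' := ⟨one_mem _, by
    have : i ≠ j := fun h => by rw [h] at hij; omega
    simp [this]⟩
  mul_mem' := by
    rintro A B ⟨hA, hA0⟩ ⟨hB, hB0⟩
    refine ⟨mul_mem hA hB, ?_⟩
    rw [Matrix.SpecialLinearGroup.coe_mul, Matrix.mul_apply]
    refine Finset.sum_eq_zero fun k _ => ?_
    rcases lt_trichotomy k i with h | h | h
    · rw [upper_below hA h, zero_mul]
    · rw [h, hB0, mul_zero]
    · rcases eq_or_ne k j with rfl | hkj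
      · rw [hA0, zero_mul]
      · have : j < k := by
          rw [Fin.lt_def] at h ⊢
          have : (k : ℕ) ≠ j := fun e => hkj (Fin.ext e)
          omega
        rw [upper_below hB this, mul_zero]
  inv_mem' := by
    rintro A ⟨hA, hA0⟩
    refine ⟨inv_mem hA, ?_⟩
    have h := congrArg (fun M : SL => M.1 i j) (mul_inv_cancel A)
    simp only [Matrix.SpecialLinearGroup.coe_mul, Matrix.SpecialLinearGroup.coe_one, Matrix.mul_apply] at h
    have hne : i ≠ j := fun h => by rw [h] at hij; omega
    rw [Matrix.one_apply_ne hne, Finset.sum_eq_single i] at h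
    · rwa [upper_diag hA, one_mul] at h
    · intro k _ hk
      rcases lt_or_gt_of_ne hk with h | h
      · rw [upper_below hA h, zero_mul]
      · rcases eq_or_ne k j with rfl | hkj
        · rw [hA0, zero_mul]
        · have : j < k := by
            rw [Fin.lt_def] at h ⊢
            have : (k : ℕ) ≠ j := fun e => hkj (Fin.ext e)
            omega
          rw [upper_below (inv_mem hA) this, mul_zero]
    · simp

theorem upper_entry_mul {A B : SL} (hA : A ∈ upper F n) (hB : B ∈ upper F n) {i j : Fin n}
    (hij : (j : ℕ) = i + 1) : (A * B).1 i j = A.1 i j + B.1 i j := by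
  have hne : i ≠ j := fun h => by rw [h] at hij; omega
  rw [Matrix.SpecialLinearGroup.coe_mul, Matrix.mul_apply,
    Finset.sum_eq_add_of_mem i j (Finset.mem_univ _) (Finset.mem_univ _) hne ?_,
    upper_diag hA, upper_diag hB, one_mul, mul_one, add_comm]
  intro k _ hk
  rcases lt_or_gt_of_ne hk.1 with h | h
  · rw [upper_below hA h, zero_mul]
  · have : j < k := by
      rw [Fin.lt_def] at h ⊢
      have : (k : ℕ) ≠ j := fun e => hk.2 (Fin.ext e)
      omega
    rw [upper_below hB this, mul_zero]

theorem upper_conj_rad {u A : SL} (hu : u ∈ upper F n) {i j : Fin n} (hij : (j : ℕ) = i + 1)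
    (hA : A ∈ rad i j hij) : u * A * u⁻¹ ∈ rad i j hij := by
  refine ⟨mul_mem (mul_mem hu hA.1) (inv_mem hu), ?_⟩
  rw [upper_entry_mul (mul_mem hu hA.1) (inv_mem hu) hij, upper_entry_mul hu hA.1 hij, hA.2, add_zero,
    ← upper_entry_mul hu (inv_mem hu) hij, mul_inv_cancel]
  have hne : i ≠ j := fun h => by rw [h] at hij; omega
  simp [hne]

theorem lower_conj_rad {i j : Fin n} (hij : (j : ℕ) = i + 1) (t : F) {A : SL}
    (hA : A ∈ rad i j hij) :
    xx j i (fun h => by rw [h] at hij; omega) t * A * (xx j i (fun h => by rw [h] at hij; omega) t)⁻¹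
      ∈ rad i j hij := by
  have hlt : i < j := by rw [Fin.lt_def]; omega
  obtain ⟨hA1, hA0⟩ := hA
  rw [xx_inv]
  refine ⟨fun k l hkl => ?_, ?_⟩
  · rw [mul_xx_apply, xx_mul_apply, xx_mul_apply]
    rcases eq_or_lt_of_le hkl with rfl | hlk
    · rw [upper_diag hA1, Matrix.one_apply_eq]
      rcases eq_or_ne l j with rfl | hlj
      · simp [hA0, hlt.ne']
      · simp only [hlj, if_false, add_zero]
        rcases eq_or_ne l i with rfl | hli
        · simp [hA0]
        · simp [hli]
    · rw [upper_below hA1 hlk, Matrix.one_apply_ne hlk.ne', zero_add]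
      rcases eq_or_ne k j with rfl | hkj
      · simp only [if_true]
        rcases eq_or_ne l i with rfl | hli
        · simp [hA0, upper_diag hA1]
        · have hl : l < i := by
            rw [Fin.lt_def] at hlk ⊢
            have : (l : ℕ) ≠ i := fun e => hli (Fin.ext e)
            omega
          simp [upper_below hA1 hl, hli]
      · simp only [hkj, if_false, add_zero, zero_add]
        rcases eq_or_ne l i with rfl | hli
        · have hjk : j < k := by
            rw [Fin.lt_def] at hlk ⊢
            have : (k : ℕ) ≠ j := fun e => hkj (Fin.ext e)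
            omega
          simp [upper_below hA1 hjk]
        · simp [hli]
  · rw [mul_xx_apply, xx_mul_apply]
    simp [hA0, hlt.ne, hlt.ne']

theorem exists_rad_noncomm (hn : 3 ≤ n) {i j : Fin n} (hij : (j : ℕ) = i + 1) {u : SL}
    (hu : u ∈ upper F n) (hc : ∀ A ∈ rad i j hij, A * u = u * A) : u.1 i j = 0 := by
  have hlt : i < j := by rw [Fin.lt_def]; omega
  by_cases hj : (j : ℕ) + 1 < n
  · set k : Fin n := ⟨j + 1, hj⟩
    have hjk : j < k := by simp [k, Fin.lt_def]
    have hA : xx j k hjk.ne (1 : F) ∈ rad i j hij :=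
      ⟨xx_mem_upper hjk _, by simp [coe_xx, hlt.ne, hlt.ne']⟩
    have h := congrArg (fun M : SL => M.1 i k) (hc _ hA)
    simp only [xx_mul_apply, mul_xx_apply, hlt.ne, if_false, if_true, mul_one, add_zero] at h
    exact add_eq_left.mp h.symm
  · have hi : 1 ≤ (i : ℕ) := by have := j.2; omega
    set k : Fin n := ⟨0, by omega⟩
    have hki : k < i := by simp [k, Fin.lt_def]; omega
    have hA : xx k i hki.ne (1 : F) ∈ rad i j hij :=
      ⟨xx_mem_upper hki _, by simp [coe_xx, hlt.ne, hki.ne, hki.ne']⟩
    have h := congrArg (fun M : SL => M.1 k j) (hc _ hA)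
    simp only [xx_mul_apply, mul_xx_apply, hlt.ne', if_false, if_true, one_mul, add_zero] at h
    exact add_eq_left.mp h

/-- Elements normalizing the unitriangular group are upper triangular. -/
theorem triangular_of_normalizes {g : SL} (hg : ∀ u ∈ upper F n, g * u * g⁻¹ ∈ upper F n) :
    ∀ i a : Fin n, a < i → g.1 i a = 0 := by
  classical
  intro i a hai
  by_contra hne
  have hrow : ∀ b : Fin n, a < b → ∀ l : Fin n, l ≤ i → (g⁻¹).1 b l = 0 := by
    intro b hab l hli
    have h := hg _ (xx_mem_upper hab (1 : F)) i l hli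
    have e : (g * xx a b hab.ne 1 * g⁻¹).1 i l = (1 : Matrix (Fin n) (Fin n) F) i l + g.1 i a * (g⁻¹).1 b l := by
      rw [Matrix.SpecialLinearGroup.coe_mul, Matrix.SpecialLinearGroup.coe_mul, coe_xx, Matrix.mul_add, Matrix.mul_one,
        Matrix.add_mul, Matrix.add_apply, ← Matrix.SpecialLinearGroup.coe_mul, mul_inv_cancel,
        Matrix.SpecialLinearGroup.coe_one]
      congr 1
      rw [Matrix.mul_apply, Finset.sum_eq_single b]
      · rw [Matrix.mul_single_apply_same, mul_one]
      · intro k _ hk
        rw [Matrix.mul_single_apply_of_ne (hbj := hk), zero_mul]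
      · simp
    rw [e] at h
    rcases mul_eq_zero.mp (add_eq_left.mp h) with h' | h'
    · exact absurd h' hne
    · exact h'
  -- too many rows in too few columns
  have hli : LinearIndependent F (fun b : {b : Fin n // a < b} => fun l : {l : Fin n // i < l} => (g⁻¹).1 b.1 l.1) := by
    rw [Fintype.linearIndependent_iff]
    intro w hw b
    set v : Fin n → F := fun k => if h : a < k then w ⟨k, h⟩ else 0 with hv
    have hsum : ∀ l : Fin n, ∑ k, v k * (g⁻¹).1 k l = ∑ b : {b : Fin n // a < b}, w b * (g⁻¹).1 b.1 l := by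
      intro l
      rw [← Finset.sum_filter_add_sum_filter_not Finset.univ (fun k => a < k),
        Finset.sum_subtype (p := fun k => a < k) _ (by simp),
        Finset.sum_eq_zero (s := Finset.univ.filter fun k => ¬a < k) (fun k hk => by
          simp only [Finset.mem_filter] at hk; simp [hv, hk.2]), add_zero]
      exact Finset.sum_congr rfl fun k _ => by simp [hv, k.2]
    have hvg : Matrix.vecMul v (g⁻¹).1 = 0 := by
      funext l
      show ∑ k, v k * (g⁻¹).1 k l = 0
      rw [hsum]
      rcases le_or_gt l i with h | h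
      · exact Finset.sum_eq_zero fun k _ => by rw [hrow k.1 k.2 l h, mul_zero]
      · have := congrFun hw ⟨l, h⟩
        simpa [Finset.sum_apply] using this
    have hv0 : v = 0 := by
      have h' : Matrix.vecMul (Matrix.vecMul v (g⁻¹).1) g.1 = Matrix.vecMul 0 g.1 := by rw [hvg]
      rw [Matrix.vecMul_vecMul, ← Matrix.SpecialLinearGroup.coe_mul, inv_mul_cancel,
        Matrix.SpecialLinearGroup.coe_one, Matrix.vecMul_one, Matrix.zero_vecMul] at h'
      exact h'
    have := congrFun hv0 b.1
    simpa [hv, b.2] using this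
  have hcard := hli.fintype_card_le_finrank
  rw [Module.finrank_fintype_fun_eq_card] at hcard
  have e1 : Fintype.card {b : Fin n // a < b} = n - 1 - a := by
    rw [Fintype.card_subtype, ← Fin.card_Ioi a]
    congr 1
    ext k
    simp
  have e2 : Fintype.card {l : Fin n // i < l} = n - 1 - i := by
    rw [Fintype.card_subtype, ← Fin.card_Ioi i]
    congr 1
    ext k
    simp
  rw [Fin.lt_def] at hai
  have := i.2
  omega

/-- The diagonal matrix `diag(t, t⁻¹)` at two places, through root elements. -/
theorem hdiag_eq {i j : Fin n} (hij : i ≠ j) {t : F} (ht : t ≠ 0) :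
    (xx i j hij t * xx j i hij.symm (-t⁻¹) * xx i j hij (t - 1) * xx j i hij.symm 1 * xx i j hij (-1)).1
      = Matrix.diagonal (Function.update (Function.update 1 i t) j t⁻¹) := by
  ext k l
  simp only [xx_mul_apply, mul_xx_apply, coe_xx, Matrix.add_apply]
  rcases eq_or_ne k i with rfl | hki <;> rcases eq_or_ne l j with rfl | hlj
  all_goals simp [Matrix.one_apply, Matrix.single_apply, Matrix.diagonal_apply, Function.update_apply, *,
    Ne.symm, eq_comm]
  all_goals split_ifs <;> simp_all
  all_goals field_simp <;> ring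

/-- The normalizer of the unitriangular Sylow subgroup is generated by the minimal parabolics. -/
theorem normalizer_le_gen (hn : 3 ≤ n) :
    Subgroup.normalizer (((upperSylow (F := F) (n := n) p : Sylow p PSL) : Subgroup PSL) : Set PSL) ≤
      Subgroup.closure {g | Gen (upperSylow (F := F) (n := n) p) g} := by
  classical
  haveI : Finite PSL := Quotient.finite _
  set U := ((upperSylow (F := F) (n := n) p : Sylow p PSL) : Subgroup PSL) with hU
  set K := Subgroup.closure {g | Gen (upperSylow (F := F) (n := n) p) g}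
  have hUK : U ≤ K := by
    intro u hu
    obtain ⟨k, hk⟩ := (upperSylow (F := F) (n := n) p).2 ⟨u, hu⟩
    obtain ⟨k', -, hk'⟩ := (Nat.dvd_prime_pow Fact.out).mp
      (orderOf_dvd_of_pow_eq_one (congrArg Subtype.val hk : u ^ p ^ k = 1))
    exact Subgroup.subset_closure ⟨Subgroup.le_normalizer hu, U, le_rfl, Subgroup.le_normalizer, inf_le_left,
      Subgroup.subset_closure ⟨Subgroup.le_normalizer hu, k', hk'⟩⟩
  -- the root tori
  have htorus : ∀ (i j : Fin n) (hij : (j : ℕ) = i + 1) (t : F), t ≠ 0 → ∀ D : SL,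
      D.1 = Matrix.diagonal (Function.update (Function.update 1 i t) j t⁻¹) →
      (mk D : PSL) ∈ Subgroup.normalizer (U : Set PSL) → (mk D : PSL) ∈ K := by
    intro i j hij t ht D hD hDN
    have hlt : i < j := by rw [Fin.lt_def]; omega
    refine Subgroup.subset_closure ⟨hDN, (rad i j hij).map mk, ?_, ?_, ?_, ?_⟩
    · rintro _ ⟨A, hA, rfl⟩
      exact mk_mem_upperSylow p hA.1
    · intro x hx
      obtain ⟨u, hu, rfl⟩ := (mem_upperSylow p).mp hx
      refine (Subgroup.le_normalizer_map (mk : SL →* PSL)) ⟨u, ?_, rfl⟩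
      refine Subgroup.mem_normalizer_iff.mpr fun A => ⟨fun hA => upper_conj_rad hu hij hA, fun hA => ?_⟩
      have := upper_conj_rad (inv_mem hu) hij hA
      simpa [mul_assoc] using this
    · rintro x ⟨hxU, hxC⟩
      obtain ⟨u, hu, rfl⟩ := (mem_upperSylow p).mp hxU
      refine ⟨u, ⟨hu, exists_rad_noncomm hn hij hu fun A hA => ?_⟩, rfl⟩
      have h := Subgroup.mem_centralizer_iff.mp hxC _ ⟨A, hA, rfl⟩
      rw [← map_mul, ← map_mul] at h
      exact congrArg Subtype.val (upperHom_injective (F := F) (n := n)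
        (a₁ := ⟨A * u, mul_mem hA.1 hu⟩) (a₂ := ⟨u * A, mul_mem hu hA.1⟩) h)
    · have e : D = xx i j hlt.ne t * xx j i hlt.ne' (-t⁻¹) * xx i j hlt.ne (t - 1) * xx j i hlt.ne' 1 *
          xx i j hlt.ne (-1) := Subtype.ext (hD.trans (hdiag_eq hlt.ne ht).symm)
      have hup : ∀ c : F, (mk (xx i j hlt.ne c) : PSL) ∈ Subgroup.closure {x : PSL |
          x ∈ Subgroup.normalizer (((rad i j hij).map mk : Subgroup PSL) : Set PSL) ∧
            ∃ k : ℕ, orderOf x = p ^ k} := fun c => by
        refine Subgroup.subset_closure ⟨(Subgroup.le_normalizer_map (mk : SL →* PSL)) ⟨_, ?_, rfl⟩,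
          orderOf_mk_xx p i j hlt.ne c⟩
        refine Subgroup.mem_normalizer_iff.mpr fun A =>
          ⟨fun hA => upper_conj_rad (xx_mem_upper hlt c) hij hA, fun hA => ?_⟩
        have := upper_conj_rad (inv_mem (xx_mem_upper hlt c)) hij hA
        simpa [mul_assoc] using this
      have hlo : ∀ c : F, (mk (xx j i hlt.ne' c) : PSL) ∈ Subgroup.closure {x : PSL |
          x ∈ Subgroup.normalizer (((rad i j hij).map mk : Subgroup PSL) : Set PSL) ∧
            ∃ k : ℕ, orderOf x = p ^ k} := fun c => by
        refine Subgroup.subset_closure ⟨(Subgroup.le_normalizer_map (mk : SL →* PSL)) ⟨_, ?_, rfl⟩,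
          orderOf_mk_xx p j i hlt.ne' c⟩
        refine Subgroup.mem_normalizer_iff.mpr fun A => ⟨fun hA => lower_conj_rad hij c hA, fun hA => ?_⟩
        have := lower_conj_rad hij (-c) hA
        rw [← xx_inv] at this
        simpa [mul_assoc] using this
      rw [e, map_mul, map_mul, map_mul, map_mul]
      exact mul_mem (mul_mem (mul_mem (mul_mem (hup _) (hlo _)) (hup _)) (hlo _)) (hup _)
  -- diagonal matrices normalize
  have hdiagN : ∀ D : SL, (∃ v : Fin n → F, D.1 = Matrix.diagonal v) →
      (mk D : PSL) ∈ Subgroup.normalizer (U : Set PSL) := by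
    rintro D ⟨v, hv⟩
    have key : ∀ u ∈ upper F n, D * u * D⁻¹ ∈ upper F n := by
      intro u hu k l hkl
      have e : ∀ k, v k * (D⁻¹).1 k k = 1 := fun k => by
        have h := congrArg (fun M : SL => M.1 k k) (mul_inv_cancel D)
        rw [Matrix.SpecialLinearGroup.coe_mul, hv] at h
        simpa [Matrix.diagonal_mul] using h
      have e' : ∀ k l, k ≠ l → (D⁻¹).1 k l = 0 := fun k l hkl => by
        have h := congrArg (fun M : SL => M.1 k l) (mul_inv_cancel D)
        rw [Matrix.SpecialLinearGroup.coe_mul, hv] at h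
        simp [Matrix.diagonal_mul, Matrix.one_apply_ne hkl] at h
        rcases h with h | h
        · have := e k; simp [h] at this
        · exact h
      rw [Matrix.SpecialLinearGroup.coe_mul, Matrix.SpecialLinearGroup.coe_mul, hv, Matrix.mul_apply, Finset.sum_eq_single l]
      · rw [Matrix.diagonal_mul, hu k l hkl]
        rcases eq_or_ne k l with rfl | hne
        · rw [Matrix.one_apply_eq, mul_one, e]
        · rw [Matrix.one_apply_ne hne, mul_zero, zero_mul]
      · intro m _ hm
        rw [e' m l hm, mul_zero]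
      · simp
    have hle : ∀ x ∈ U, mk D * x * (mk D)⁻¹ ∈ U := by
      intro x hx
      obtain ⟨u, hu, rfl⟩ := (mem_upperSylow p).mp hx
      rw [← map_inv, ← map_mul, ← map_mul]
      exact mk_mem_upperSylow p (key u hu)
    refine Subgroup.mem_normalizer_iff.mpr fun x => ⟨hle x, fun hx => ?_⟩
    have heq : U.map (MulAut.conj (mk D)).toMonoidHom = U :=
      Subgroup.eq_of_le_of_card_ge (fun _ ⟨y, hy, e⟩ => e ▸ hle y hy)
        (Nat.card_congr (U.equivMapOfInjective _ (MulAut.conj (mk D)).injective).toEquiv).le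
    obtain ⟨y, hy, e⟩ := heq.ge hx
    exact (MulAut.conj (mk D)).injective e ▸ hy
  -- all diagonal matrices
  have hdiag : ∀ (m : ℕ) (D : SL) (v : Fin n → F), D.1 = Matrix.diagonal v →
      (∀ k : Fin n, (k : ℕ) + m + 1 ≤ n - 1 + 1 → (k : ℕ) < n - 1 - m → v k = 1) →
      (mk D : PSL) ∈ K := by
    intro m
    induction m with
    | zero =>
      intro D v hv h0
      have hl : ∀ k : Fin n, v k = 1 := by
        have hprod : ∏ k, v k = 1 := by rw [← Matrix.det_diagonal, ← hv, D.2]
        set last : Fin n := ⟨n - 1, by omega⟩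
        have hsmall : ∀ k : Fin n, k ≠ last → v k = 1 := fun k hk => by
          have : (k : ℕ) ≠ n - 1 := fun e => hk (Fin.ext e)
          have := k.2
          exact h0 k (by omega) (by omega)
        intro k
        rcases eq_or_ne k last with rfl | hk
        · rwa [Finset.prod_eq_single last (fun b _ hb => hsmall b hb) (by simp)] at hprod
        · exact hsmall k hk
      have : D = 1 := Subtype.ext (by
        rw [hv, Matrix.SpecialLinearGroup.coe_one, ← Matrix.diagonal_one]
        congr 1
        funext k; exact hl k)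
      rw [this, map_one]
      exact one_mem K
    | succ m ih =>
      intro D v hv h0
      by_cases hm : n - 1 - m = 0
      · refine ih D v hv fun k hk1 hk2 => ?_
        omega
      set i : Fin n := ⟨n - 1 - m - 1, by omega⟩ with hi
      set j : Fin n := ⟨n - 1 - m, by omega⟩ with hj
      have hij : (j : ℕ) = i + 1 := by simp [hi, hj]; omega
      have hne : i ≠ j := fun h => by rw [h] at hij; omega
      have hvi : v i ≠ 0 := by
        intro h
        have hd := D.2
        rw [hv, Matrix.det_diagonal, Finset.prod_eq_zero (Finset.mem_univ i) h] at hd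
        exact zero_ne_one hd
      let w : Fin n → F := Function.update (Function.update 1 i (v i)) j (v i)⁻¹
      have hwdet : (Matrix.diagonal w).det = 1 := by
        rw [Matrix.det_diagonal, Finset.prod_update_of_mem (Finset.mem_univ j),
          Finset.prod_update_of_mem (by simp [hne])]
        simp [hvi]
      let H : SL := ⟨Matrix.diagonal w, hwdet⟩
      have hHK : (mk H : PSL) ∈ K := htorus i j hij (v i) hvi H rfl (hdiagN H ⟨w, rfl⟩)
      have hHinv : (H⁻¹).1 = Matrix.diagonal (fun k => (w k)⁻¹) := by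
        have hw : ∀ k, w k ≠ 0 := fun k h => by
          rw [Matrix.det_diagonal, Finset.prod_eq_zero (Finset.mem_univ k) h] at hwdet
          exact zero_ne_one hwdet
        have h1 : H * ⟨Matrix.diagonal (fun k => (w k)⁻¹), by
            rw [Matrix.det_diagonal, Finset.prod_inv_distrib, ← Matrix.det_diagonal, hwdet, inv_one]⟩ = 1 :=
          Subtype.ext (by
            show Matrix.diagonal w * Matrix.diagonal (fun k => (w k)⁻¹) = 1
            rw [Matrix.diagonal_mul_diagonal, ← Matrix.diagonal_one]
            congr 1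
            funext k
            exact mul_inv_cancel₀ (hw k))
        rw [inv_eq_of_mul_eq_one_right h1]
      have hD' : (D * H⁻¹).1 = Matrix.diagonal (fun k => v k * (w k)⁻¹) := by
        rw [Matrix.SpecialLinearGroup.coe_mul, hv, hHinv, Matrix.diagonal_mul_diagonal]
      have hrec := ih (D * H⁻¹) _ hD' (fun k hk1 hk2 => by
        have hkj : k ≠ j := fun e => by rw [e] at hk2; simp [hj] at hk2
        rcases eq_or_ne k i with rfl | hki
        · simp [w, hne, hvi]
        · have : (k : ℕ) ≠ n - 1 - m - 1 := fun e => hki (Fin.ext e)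
          rw [h0 k (by omega) (by omega)]
          simp [w, hki, hkj])
      rw [map_mul, map_inv] at hrec
      have := mul_mem hrec hHK
      rwa [inv_mul_cancel_right] at this
  intro x hx
  obtain ⟨g, rfl⟩ := mk_surjective x
  have hgu : ∀ u ∈ upper F n, g * u * g⁻¹ ∈ upper F n := by
    intro u hu
    have h := (Subgroup.mem_normalizer_iff.mp hx _).mp (mk_mem_upperSylow p hu)
    rw [← map_inv, ← map_mul, ← map_mul] at h
    obtain ⟨u', hu', he⟩ := (mem_upperSylow p).mp h
    have hz : u'⁻¹ * (g * u * g⁻¹) ∈ Subgroup.center SL := QuotientGroup.eq.mp he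
    set z := u'⁻¹ * (g * u * g⁻¹)
    obtain ⟨r, -, hr⟩ := Matrix.SpecialLinearGroup.mem_center_iff.mp hz
    obtain ⟨f, hfp, hf⟩ := FiniteField.card F p
    set N := Nat.card (upper F n)
    have hN : ∃ e : ℕ, N = p ^ e := ⟨∑ j : Fin n, (f : ℕ) * (j : ℕ), by
      rw [show N = _ from card_upper, ← Finset.prod_pow_eq_pow_sum]
      exact Finset.prod_congr rfl fun j _ => by rw [hf, pow_mul]⟩
    obtain ⟨e, he'⟩ := hN
    have hpow : ∀ w ∈ upper F n, w ^ p ^ e = 1 := fun w hw => by
      rw [← he']
      exact congrArg Subtype.val (pow_card_eq_one' (x := (⟨w, hw⟩ : upper F n)))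
    have h1 : (u' * z) ^ p ^ e = 1 := by
      rw [show u' * z = g * u * g⁻¹ by simp [z], conj_pow, hpow u hu, mul_one, mul_inv_cancel]
    rw [(show Commute u' z from Subgroup.mem_center_iff.mp hz u').mul_pow, hpow u' hu', one_mul] at h1
    have hr1 : r ^ p ^ e = 1 := by
      have h2 := congrArg (fun M : SL => M.1 ⟨0, by omega⟩ ⟨0, by omega⟩) h1
      simp only [Matrix.SpecialLinearGroup.coe_pow, ← hr, Matrix.SpecialLinearGroup.coe_one] at h2
      rw [← map_pow] at h2
      simpa using h2
    have hr' : r = 1 := by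
      haveI : ExpChar F p := ExpChar.prime Fact.out
      have h3 : (r - 1) ^ p ^ e = 0 := by rw [sub_pow_char_pow, hr1, one_pow, sub_self]
      exact sub_eq_zero.mp (eq_zero_of_pow_eq_zero h3)
    have hz1 : z = 1 := Subtype.ext (by rw [← hr, hr', map_one]; rfl)
    rw [show g * u * g⁻¹ = u' * z by simp [z], hz1, mul_one]
    exact hu'
  have htri := triangular_of_normalizes hgu
  have hdetg : g.1.det = ∏ k, g.1 k k := Matrix.det_of_upperTriangular fun i a h => htri i a h
  have hdd : (Matrix.diagonal fun k => g.1 k k).det = 1 := by rw [Matrix.det_diagonal, ← hdetg, g.2]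
  have hne0 : ∀ k, g.1 k k ≠ 0 := fun k h => by
    rw [Matrix.det_diagonal, Finset.prod_eq_zero (f := fun k => g.1 k k) (Finset.mem_univ k) h] at hdd
    exact zero_ne_one hdd
  set D : SL := ⟨Matrix.diagonal fun k => g.1 k k, hdd⟩
  have hDi : ∀ k l, (D⁻¹ * g).1 k l = (g.1 k k)⁻¹ * g.1 k l := fun k l => by
    have h2 : (D * (D⁻¹ * g)).1 k l = g.1 k l := by rw [mul_inv_cancel_left]
    rw [Matrix.SpecialLinearGroup.coe_mul, Matrix.diagonal_mul] at h2
    rw [← h2, inv_mul_cancel_left₀ (hne0 k)]
  have hu : D⁻¹ * g ∈ upper F n := by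
    intro k l hkl
    rw [hDi]
    rcases eq_or_lt_of_le hkl with rfl | hlk
    · rw [Matrix.one_apply_eq, inv_mul_cancel₀ (hne0 _)]
    · rw [htri k l hlk, mul_zero, Matrix.one_apply_ne hlk.ne']
  have h1 : (mk D : PSL) ∈ K := hdiag (n - 1) D _ rfl fun k hk1 hk2 => by omega
  have := mul_mem h1 (hUK (mk_mem_upperSylow p hu))
  rwa [← map_mul, mul_inv_cancel_left] at this

theorem upperSylow_ne_bot (hn : 3 ≤ n) :
    ((upperSylow (F := F) (n := n) p : Sylow p PSL) : Subgroup PSL) ≠ ⊥ := by
  intro h
  have hab : (⟨0, by omega⟩ : Fin n) < ⟨1, by omega⟩ := by simp [Fin.lt_def]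
  have h1 := mk_mem_upperSylow p (xx_mem_upper hab (1 : F))
  rw [h, Subgroup.mem_bot] at h1
  exact one_ne_zero (mk_xx_injective hab.ne (h1.trans (by simp [xx_zero])) : (1 : F) = 0)

end CfsgLib.PSLn
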