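import Cfsg.Agent.Lib.PSLn.Descent
import Mathlib.LinearAlgebra.Matrix.GeneralLinearGroup.Projective
import Mathlib.GroupTheory.SpecificGroups.Cyclic

/-!
Matrices fixed up to scalars by a field automorphism, and indices in cyclic groups.
-/

set_option autoImplicit false

namespace CfsgLib.PSLn

open Matrix
open scoped MatrixGroups

variable {F : Type*} [Field F] {n : ℕ}

theorem scalar_coe (u : Fˣ) :
    ((GeneralLinearGroup.scalar (Fin n) u : GL (Fin n) F) : Matrix (Fin n) (Fin n) F) =
      Matrix.scalar (Fin n) (u : F) := rfl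

theorem scalar_map (σ : RingAut F) (c : F) :
    (Matrix.scalar (Fin n) c).map ⇑σ = Matrix.scalar (Fin n) (σ c) := by
  rw [Matrix.scalar_apply, Matrix.scalar_apply, Matrix.diagonal_map (map_zero σ)]

/-- A matrix fixed up to a scalar is a scalar multiple of a fixed matrix. -/
theorem exists_fixed_of_proj [Finite F] (σ : RingAut F) (hn : 0 < n) (g : GL (Fin n) F) (c : F)
    (hg : g.1.map σ = c • g.1) :
    ∃ u : Fˣ, ((GeneralLinearGroup.scalar (Fin n) u * g : GL (Fin n) F).1).map σ =
      (GeneralLinearGroup.scalar (Fin n) u * g : GL (Fin n) F).1 := by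
  have hiter : ∀ k, g.1.map ⇑(σ ^ k) = (∏ i ∈ Finset.range k, (σ ^ i) c) • g.1 := by
    intro k
    induction k with
    | zero => simp
    | succ k ih =>
      have e : g.1.map ⇑(σ ^ (k + 1)) = (g.1.map ⇑(σ ^ k)).map σ := by
        rw [Matrix.map_map, pow_succ']; rfl
      rw [e, ih, Finset.prod_range_succ', pow_zero, RingAut.one_apply]
      ext i j
      simp only [Matrix.map_apply, Matrix.smul_apply, smul_eq_mul, map_mul, map_prod]
      rw [show σ (g.1 i j) = c * g.1 i j from congrFun (congrFun hg i) j, mul_assoc]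
      congr 1
      exact Finset.prod_congr rfl fun i _ => by rw [pow_succ']; rfl
  have hg0 : ∃ i j, g.1 i j ≠ 0 := by
    by_contra h
    push Not at h
    have h0 : g.1 = 0 := Matrix.ext h
    have : Nonempty (Fin n) := ⟨⟨0, hn⟩⟩
    exact g.ne_zero h0
  obtain ⟨i, j, hij⟩ := hg0
  have hN : ∏ k ∈ Finset.range (orderOf σ), (σ ^ k) c = 1 := by
    have := congrFun (congrFun (hiter (orderOf σ)) i) j
    rw [pow_orderOf_eq_one] at this
    simp only [Matrix.map_apply, RingAut.one_apply, Matrix.smul_apply, smul_eq_mul] at this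
    exact (mul_eq_right₀ hij).mp this.symm
  have hc0 : c ≠ 0 := by
    intro h0
    have := congrFun (congrFun hg i) j
    rw [h0, zero_smul, Matrix.zero_apply, Matrix.map_apply, map_eq_zero] at this
    exact hij this
  obtain ⟨u, hu⟩ : Units.mk0 c hc0 ∈ (twistUnits σ).range := by
    rw [← ker_normUnits, MonoidHom.mem_ker, Units.ext_iff, coe_normUnits]
    exact hN
  have hu' : (u : F) / σ u = c := by rw [← coe_twistUnits, hu, Units.val_mk0]
  refine ⟨u, ?_⟩
  rw [Units.val_mul, scalar_coe, Matrix.map_mul, scalar_map σ, hg, mul_smul_comm]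
  ext a b
  simp only [Matrix.scalar_apply, Matrix.smul_apply, Matrix.diagonal_mul, smul_eq_mul]
  rw [← hu']
  have : σ (u : F) ≠ 0 := by simp
  show (u : F) / σ u * (σ (u : F) * _) = _
  field_simp

/-- Units of a finite cyclic group: subgroups are determined by their index. -/
theorem eq_powRange {Q : Type*} [CommGroup Q] [IsCyclic Q] [Finite Q] (S : Subgroup Q) :
    S = (powMonoidHom S.index : Q →* Q).range := by
  refine (Subgroup.eq_of_le_of_card_ge (H := (powMonoidHom S.index : Q →* Q).range) (by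
    rintro _ ⟨x, rfl⟩
    exact Subgroup.pow_index_mem S x) ?_).symm
  have h1 := S.card_mul_index
  have h2 := ((powMonoidHom S.index : Q →* Q).range).card_mul_index
  rw [IsCyclic.index_powMonoidHom_range,
    Nat.gcd_eq_right (Subgroup.index_dvd_card S), ← h1] at h2
  exact (Nat.eq_of_mul_eq_mul_right (Nat.pos_of_ne_zero Subgroup.index_ne_zero_of_finite) h2).ge

theorem index_powRange_sup {Q : Type*} [CommGroup Q] [IsCyclic Q] [Finite Q] (a : ℕ)
    (S : Subgroup Q) :
    ((powMonoidHom a : Q →* Q).range ⊔ S).index = Nat.gcd a S.index := by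
  have hS := eq_powRange S
  have hsup : (powMonoidHom a : Q →* Q).range ⊔ S =
      (powMonoidHom (Nat.gcd a S.index) : Q →* Q).range := by
    apply le_antisymm
    · refine sup_le ?_ ?_
      · rintro _ ⟨x, rfl⟩
        obtain ⟨d, hd⟩ := Nat.gcd_dvd_left a S.index
        exact ⟨x ^ d, by
          show (x ^ d) ^ Nat.gcd a S.index = x ^ a
          rw [← pow_mul, mul_comm, ← hd]⟩
      · intro y hy
        rw [hS] at hy
        obtain ⟨x, rfl⟩ := hy
        obtain ⟨d, hd⟩ := Nat.gcd_dvd_right a S.index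
        exact ⟨x ^ d, by
          show (x ^ d) ^ Nat.gcd a S.index = x ^ S.index
          rw [← pow_mul, mul_comm, ← hd]⟩
    · rintro _ ⟨x, rfl⟩
      show x ^ Nat.gcd a S.index ∈ _
      rw [← zpow_natCast, Nat.gcd_eq_gcd_ab, zpow_add, zpow_mul, zpow_mul, zpow_natCast, zpow_natCast]
      refine mul_mem (zpow_mem (Subgroup.mem_sup_left (show x ^ a ∈ (powMonoidHom a : Q →* Q).range from ⟨x, rfl⟩)) _) (zpow_mem (Subgroup.mem_sup_right ?_) _)
      exact Subgroup.pow_index_mem S x
  rw [hsup, IsCyclic.index_powMonoidHom_range]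
  exact Nat.gcd_eq_right ((Nat.gcd_dvd_right a S.index).trans (Subgroup.index_dvd_card S))

end CfsgLib.PSLn
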