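import Cfsg.Agent.Lib.PSLn.Group
import Cfsg.Agent.Lib.PSLn.Proj
import Cfsg.Prelude.Def_LieTypeDatum

/-!
Field and graph-field automorphisms of `PSL_n(q)`: reduction to standard ones, conjugacy in
`Inndiag`, and the splitting of classes.
-/

set_option autoImplicit false

namespace CfsgLib.PSLn

open Matrix
open scoped MatrixGroups

variable {F : Type*} [Field F] {n : ℕ}

local notation "PSL" => Matrix.ProjectiveSpecialLinearGroup (Fin n) F

theorem eq_diagAut_of_isInnerDiagonal {β : MulAut PSL} (h : Cfsg.IsInnerDiagonalAutPSL β) :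
    ∃ g : GL (Fin n) F, β = diagAut g := by
  obtain ⟨g, hg⟩ := h
  refine ⟨g, ?_⟩
  ext x
  obtain ⟨A, rfl⟩ := mk_surjective x
  rw [diagAut_mk]
  exact hg A _ rfl

theorem eq_fieldAut_of_isStd {σ : F ≃+* F} {β : MulAut PSL} (h : Cfsg.IsStdFieldAutPSL σ β) :
    β = fieldAut σ := by
  ext x
  obtain ⟨A, rfl⟩ := mk_surjective x
  rw [fieldAut_mk]
  exact h A _ rfl

theorem eq_graphAut_of_isInvTranspose {β : MulAut PSL} (h : Cfsg.IsInverseTransposeAutPSL β) :
    β = graphAut := by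
  ext x
  obtain ⟨A, rfl⟩ := mk_surjective x
  rw [graphAut_mk]
  exact h A _ rfl

theorem inndiag_eq :
    Cfsg.inndiagPSL n F = (diagAut : GL (Fin n) F →* MulAut PSL).range := by
  apply le_antisymm
  · refine (Subgroup.closure_le _).mpr fun β hβ => ?_
    obtain ⟨g, rfl⟩ := eq_diagAut_of_isInnerDiagonal hβ
    exact ⟨g, rfl⟩
  · rintro _ ⟨g, rfl⟩
    refine Subgroup.subset_closure ⟨g, fun s s' h => ?_⟩
    show diagAut g (mk s) = mk s'
    rw [diagAut_mk]
    congr 1
    exact Subtype.ext h.symm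

theorem fieldAut_injective (hn : 2 ≤ n) :
    Function.Injective (fieldAut : RingAut F →* MulAut PSL) := by
  rw [← MonoidHom.ker_eq_bot_iff, Subgroup.eq_bot_iff_forall]
  intro e he
  rw [MonoidHom.mem_ker] at he
  exact (eq_one_imp hn (g := 1) (by rw [map_one, one_mul, he])).1

theorem orderOf_fieldAut (hn : 2 ≤ n) (σ : RingAut F) :
    orderOf (fieldAut σ : MulAut PSL) = orderOf σ :=
  orderOf_injective _ (fieldAut_injective hn) σ

theorem diagAut_eq_iff (hn : 2 ≤ n) {g h : GL (Fin n) F} :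
    (diagAut g : MulAut PSL) = diagAut h ↔
      ∃ u : Fˣ, g = GeneralLinearGroup.scalar (Fin n) u * h := by
  constructor
  · intro e
    have hk : g * h⁻¹ ∈ (diagAut : GL (Fin n) F →* MulAut PSL).ker := by
      rw [MonoidHom.mem_ker, map_mul, map_inv, e, mul_inv_cancel]
    rw [ker_diagAut hn, GeneralLinearGroup.center_eq_range_scalar] at hk
    obtain ⟨u, hu⟩ := hk
    exact ⟨u, by rw [hu, inv_mul_cancel_right]⟩
  · rintro ⟨u, rfl⟩
    rw [map_mul, diagAut_scalar (GeneralLinearGroup.scalar (Fin n) u) (u : F) rfl, one_mul]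

variable [Fintype F] (p : ℕ) [Fact p.Prime] [CharP F p]

include p in
theorem ringAut_comm (a b : RingAut F) : a * b = b * a := by
  obtain ⟨f, _, hf⟩ := FiniteField.card F p
  obtain ⟨hcyc, -⟩ := ringAut_cyclic (F := F) (p := p) hf
  obtain ⟨c, hc⟩ := hcyc.exists_generator
  obtain ⟨i, rfl⟩ := hc a
  obtain ⟨j, rfl⟩ := hc b
  exact ((Commute.refl c).zpow_zpow i j).eq

include p in
/-- A field automorphism is `Inndiag`-conjugate to a standard one. -/
theorem exists_std_field (hn : 2 ≤ n) {x : MulAut PSL}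
    (hx : Cfsg.IsFieldAutClassPSL x) :
    ∃ (σ : RingAut F) (g : GL (Fin n) F), σ ≠ 1 ∧
      x = diagAut g * fieldAut σ * (diagAut g)⁻¹ := by
  obtain ⟨α, σ, hσ, hstd⟩ := hx
  have e : x = α⁻¹ * fieldAut σ * α := by rw [← eq_fieldAut_of_isStd hstd]; group
  have hc : ∀ e' : RingAut F, fieldAut e' * fieldAut σ = (fieldAut σ * fieldAut e' : MulAut PSL) := by
    intro e'
    rw [← map_mul, ← map_mul, ringAut_comm p e' σ]
  obtain ⟨g, e', h | ⟨-, h⟩⟩ := exists_decomposition_any p hn α⁻¹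
  · refine ⟨σ, g, hσ, ?_⟩
    have hα : α = (fieldAut e')⁻¹ * (diagAut g)⁻¹ := by rw [← inv_inv α, h, _root_.mul_inv_rev]
    rw [e, h, hα, mul_assoc (diagAut g), hc e']
    group
  · refine ⟨σ, g, hσ, ?_⟩
    have hα : α = (graphAut : MulAut PSL)⁻¹ * (fieldAut e')⁻¹ * (diagAut g)⁻¹ := by
      rw [← inv_inv α, h, _root_.mul_inv_rev, _root_.mul_inv_rev, mul_assoc]
    have hcomm : diagAut g * fieldAut e' * graphAut * fieldAut σ =
        (diagAut g * fieldAut σ * (fieldAut e' * graphAut) : MulAut PSL) := by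
      rw [mul_assoc _ graphAut, graphAut_field, ← mul_assoc, mul_assoc (diagAut g), hc e']
      group
    rw [e, h, hα, hcomm]
    group

include p in
/-- A graph-field automorphism is `Inndiag`-conjugate to a standard one. -/
theorem exists_std_graphField {x : MulAut PSL}
    (hx : Cfsg.IsGraphFieldAutClassPSL x) :
    3 ≤ n ∧ ∃ (σ : RingAut F) (g : GL (Fin n) F), σ ≠ 1 ∧
      x = diagAut g * (fieldAut σ * graphAut) * (diagAut g)⁻¹ := by
  obtain ⟨hn, α, φ, γ, σ, hσ, hφ, hγ, hα'⟩ := hx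
  refine ⟨hn, ?_⟩
  rw [eq_fieldAut_of_isStd hφ, eq_graphAut_of_isInvTranspose hγ] at hα'
  have e : x = α⁻¹ * (fieldAut σ * graphAut) * α := by rw [← hα']; group
  have hcomm' := ringAut_comm (F := F) p
  have hc : ∀ q q' : RingAut F × Multiplicative (ZMod 2),
      Commute (fieldGraph q : MulAut PSL) (fieldGraph q') := fun q q' =>
    (show Commute q q' from Prod.ext (hcomm' _ _) (mul_comm _ _)).map fieldGraph
  have hs : (fieldAut σ * graphAut : MulAut PSL) = fieldGraph (σ, Multiplicative.ofAdd 1) := by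
    rw [fieldGraph_apply, ZMod.val_one, pow_one]
  obtain ⟨g, e', h | h⟩ := exists_decomposition p hn α⁻¹
  · refine ⟨σ, g, hσ, ?_⟩
    have hq : (fieldAut e' : MulAut PSL) = fieldGraph (e', Multiplicative.ofAdd 0) := by
      rw [fieldGraph_apply, ZMod.val_zero, pow_zero, mul_one]
    rw [e, ← inv_inv α, inv_inv α⁻¹, h, hs, hq, mul_assoc (diagAut g), (hc _ _).eq,
      _root_.mul_inv_rev]
    group
  · refine ⟨σ, g, hσ, ?_⟩
    have hq : (fieldAut e' * graphAut : MulAut PSL) = fieldGraph (e', Multiplicative.ofAdd 1) := by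
      rw [fieldGraph_apply, ZMod.val_one, pow_one]
    rw [e, ← inv_inv α, inv_inv α⁻¹, h, mul_assoc (diagAut g), hq, hs, mul_assoc (diagAut g),
      (hc _ _).eq, _root_.mul_inv_rev]
    group

include p in
theorem graphField_order (hn : 3 ≤ n) {σ : RingAut F} (hσ : σ ≠ 1) {r : ℕ}
    (hr : r.Prime) (h : orderOf (fieldAut σ * graphAut : MulAut PSL) = r) :
    r = 2 ∧ orderOf σ = 2 := by
  have hinj : Function.Injective (fieldGraph : RingAut F × Multiplicative (ZMod 2) →* MulAut PSL) := by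
    have := diagAut_range_normal (F := F) (n := n) p (by omega)
    intro a b hab
    exact (fieldGraph_bijective p hn _ rfl).1 (by
      show QuotientGroup.mk' _ (fieldGraph a) = QuotientGroup.mk' _ (fieldGraph b)
      rw [hab])
  have hs : (fieldAut σ * graphAut : MulAut PSL) = fieldGraph (σ, Multiplicative.ofAdd 1) := by
    rw [fieldGraph_apply, ZMod.val_one, pow_one]
  rw [hs, orderOf_injective _ hinj, Prod.orderOf_mk] at h
  have h2 : orderOf (Multiplicative.ofAdd (1 : ZMod 2)) = 2 := by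
    rw [orderOf_ofAdd_eq_addOrderOf, ZMod.addOrderOf_one]
  rw [h2] at h
  have hr2 : r = 2 :=
    ((Nat.prime_dvd_prime_iff_eq Nat.prime_two hr).mp (h ▸ Nat.dvd_lcm_right _ _)).symm
  refine ⟨hr2, ?_⟩
  have hd : orderOf σ ∣ 2 := hr2 ▸ h ▸ Nat.dvd_lcm_left _ _
  rcases (Nat.dvd_prime Nat.prime_two).mp hd with h1 | h1
  · exact absurd (orderOf_eq_one_iff.mp h1) hσ
  · exact h1

omit [Fintype F] [Fact p.Prime] [CharP F p] in
theorem fieldAut_conj (σ : RingAut F) (h : GL (Fin n) F) :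
    (diagAut h * fieldAut σ * (diagAut h)⁻¹ : MulAut PSL) =
      diagAut (h * (GeneralLinearGroup.map (σ : F ≃+* F).toRingHom h)⁻¹) * fieldAut σ := by
  rw [mul_assoc, ← map_inv diagAut, fieldAut_diag, ← mul_assoc, map_mul diagAut, map_inv]

omit [Fintype F] [Fact p.Prime] [CharP F p] in
/-- The twisted products as group elements. -/
theorem diag_field_pow (σ : RingAut F) (g : GL (Fin n) F) (k : ℕ) :
    ∃ T : GL (Fin n) F, T.1 = tw σ g.1 k ∧
      (diagAut g * fieldAut σ : MulAut PSL) ^ k = diagAut T * fieldAut (σ ^ k) := by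
  induction k with
  | zero => exact ⟨1, rfl, by simp⟩
  | succ k ih =>
    obtain ⟨T, hT, hk⟩ := ih
    refine ⟨g * GeneralLinearGroup.map (σ : F ≃+* F).toRingHom T, ?_, ?_⟩
    · rw [Units.val_mul]
      show g.1 * T.1.map (σ : F ≃+* F).toRingHom = _
      rw [hT]; rfl
    · rw [pow_succ', hk, pow_succ', map_mul fieldAut, mul_assoc (diagAut g),
        ← mul_assoc (fieldAut σ), fieldAut_diag, map_mul diagAut]
      group

omit [Fact p.Prime] [CharP F p] in
/-- Lang's theorem for field automorphisms. -/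
theorem field_conj_of_pow_eq_one (hn : 2 ≤ n) (σ : RingAut F) (g : GL (Fin n) F)
    (h : (diagAut g * fieldAut σ : MulAut PSL) ^ orderOf σ = 1) :
    ∃ k : GL (Fin n) F,
      (diagAut g * fieldAut σ : MulAut PSL) = diagAut k * fieldAut σ * (diagAut k)⁻¹ := by
  obtain ⟨T, hT, hk⟩ := diag_field_pow σ g (orderOf σ)
  rw [h, pow_orderOf_eq_one, map_one, mul_one] at hk
  have hker : T ∈ (diagAut : GL (Fin n) F →* MulAut PSL).ker := hk.symm
  rw [ker_diagAut hn, GeneralLinearGroup.center_eq_range_scalar] at hker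
  obtain ⟨u, hu⟩ := hker
  obtain ⟨k, d, hd, hkd⟩ := exists_descent_scalar σ (by omega) g (u : F)
    (by rw [← hT, ← hu]; exact scalar_coe u)
  refine ⟨k, ?_⟩
  rw [fieldAut_conj]
  congr 1
  rw [diagAut_eq_iff hn]
  refine ⟨(Units.mk0 d hd)⁻¹, ?_⟩
  rw [map_inv, eq_inv_mul_iff_mul_eq, eq_mul_inv_iff_mul_eq]
  apply Units.ext
  rw [Units.val_mul, Units.val_mul, scalar_coe]
  show Matrix.scalar (Fin n) d * g.1 * k.1.map (σ : F ≃+* F).toRingHom = k.1
  conv_rhs => rw [← hkd]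
  rw [Matrix.mul_assoc, Matrix.scalar_apply, ← Matrix.smul_one_eq_diagonal, smul_mul_assoc,
    Matrix.one_mul]
  rfl

omit [Fintype F] [Fact p.Prime] [CharP F p] in
theorem graphField_diag (σ : RingAut F) (g : GL (Fin n) F) :
    (fieldAut σ * graphAut * diagAut g : MulAut PSL) =
      diagAut (GeneralLinearGroup.map (σ : F ≃+* F).toRingHom (dualGL g)) *
        (fieldAut σ * graphAut) := by
  rw [mul_assoc (fieldAut σ), graphAut_diag, ← mul_assoc, fieldAut_diag, mul_assoc]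

omit [Fintype F] [Fact p.Prime] [CharP F p] in
theorem graphField_sq (σ : RingAut F) (h2 : σ * σ = 1) :
    (fieldAut σ * graphAut : MulAut PSL) * (fieldAut σ * graphAut) = 1 := by
  rw [← mul_assoc, mul_assoc (fieldAut σ) graphAut, graphAut_field, ← mul_assoc, ← map_mul, h2,
    map_one, one_mul, graphAut_mul_self]

omit [Fact p.Prime] [CharP F p] in
/-- Lang's theorem for graph-field automorphisms. -/
theorem graphField_conj_of_sq_eq_one (hn : 2 ≤ n) (σ : RingAut F) (hσ : orderOf σ = 2)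
    (g : GL (Fin n) F) (h : (diagAut g * (fieldAut σ * graphAut) : MulAut PSL) ^ 2 = 1) :
    ∃ k : GL (Fin n) F, (diagAut g * (fieldAut σ * graphAut) : MulAut PSL) =
      diagAut k * (fieldAut σ * graphAut) * (diagAut k)⁻¹ := by
  have h2 : σ * σ = 1 := by rw [← pow_two, ← hσ, pow_orderOf_eq_one]
  have hss : ∀ x, σ (σ x) = x := fun x => RingEquiv.congr_fun h2 x
  set g' := GeneralLinearGroup.map (σ : F ≃+* F).toRingHom (dualGL g) with hg'
  have hk : g * g' ∈ (diagAut : GL (Fin n) F →* MulAut PSL).ker := by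
    rw [MonoidHom.mem_ker, map_mul]
    rw [pow_two, mul_assoc (diagAut g), ← mul_assoc (fieldAut σ * graphAut), graphField_diag,
      mul_assoc, graphField_sq σ h2, mul_one] at h
    exact h
  rw [ker_diagAut hn, GeneralLinearGroup.center_eq_range_scalar] at hk
  obtain ⟨u, hu⟩ := hk
  have hgT : g.1 = (u : F) • g.1ᵀ.map σ := by
    have e1 : g'.1 * g.1ᵀ.map σ = 1 := by
      show ((g⁻¹).1ᵀ).map σ * g.1ᵀ.map σ = 1
      rw [← Matrix.map_mul, ← Matrix.transpose_mul, ← Units.val_mul, mul_inv_cancel, Units.val_one,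
        Matrix.transpose_one, Matrix.map_one _ (map_zero σ) (map_one σ)]
    have e2 : g.1 * g'.1 = Matrix.scalar (Fin n) (u : F) := by
      rw [← Units.val_mul, ← hu]; exact scalar_coe u
    calc g.1 = g.1 * (g'.1 * g.1ᵀ.map σ) := by rw [e1, Matrix.mul_one]
      _ = Matrix.scalar (Fin n) (u : F) * g.1ᵀ.map σ := by rw [← Matrix.mul_assoc, e2]
      _ = (u : F) • g.1ᵀ.map σ := by
        rw [Matrix.scalar_apply, ← Matrix.smul_one_eq_diagonal, smul_mul_assoc, Matrix.one_mul]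
  have hN : normUnits σ u = 1 := by
    rw [Units.ext_iff, coe_normUnits, hσ, Finset.prod_range_succ, Finset.prod_range_one, pow_zero,
      pow_one, RingAut.one_apply, Units.val_one]
    obtain ⟨i, j, hij⟩ : ∃ i j, g.1 i j ≠ 0 := by
      by_contra hh
      push Not at hh
      have : Nonempty (Fin n) := ⟨⟨0, by omega⟩⟩
      exact g.ne_zero (Matrix.ext hh)
    have e1 := congrFun (congrFun hgT i) j
    have e2 := congrFun (congrFun hgT j) i
    simp only [Matrix.smul_apply, Matrix.map_apply, Matrix.transpose_apply, smul_eq_mul] at e1 e2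
    rw [e2, map_mul, hss, ← mul_assoc] at e1
    exact (mul_eq_right₀ hij).mp e1.symm
  obtain ⟨μ, hμ⟩ : u ∈ (twistUnits σ).range := by rw [← ker_normUnits]; exact hN
  let g₀ : GL (Fin n) F := GeneralLinearGroup.scalar (Fin n) μ⁻¹ * g
  have hμ' : (μ : F) / σ μ = u := by rw [← coe_twistUnits, hμ]
  obtain ⟨k, hk⟩ := exists_hermitian_factor σ hσ g₀ (by
    ext i j
    have e := congrFun (congrFun hgT i) j
    simp only [Matrix.smul_apply, Matrix.map_apply, Matrix.transpose_apply, smul_eq_mul] at e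
    simp only [g₀, Units.val_mul, scalar_coe, Matrix.scalar_apply, Matrix.map_apply,
      Matrix.transpose_apply, Matrix.diagonal_mul, map_mul, Units.val_inv_eq_inv_val, map_inv₀]
    have h1 : (μ : F) ≠ 0 := μ.ne_zero
    have h2 : σ (μ : F) ≠ 0 := by simp
    rw [e, ← hμ']
    field_simp)
  refine ⟨k, ?_⟩
  rw [mul_assoc (diagAut k), ← map_inv diagAut, graphField_diag, ← mul_assoc (diagAut k),
    ← map_mul]
  congr 1
  rw [diagAut_eq_iff hn]
  refine ⟨μ, ?_⟩
  apply Units.ext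
  rw [Units.val_mul, scalar_coe, Units.val_mul]
  have e3 : (GeneralLinearGroup.map (σ : F ≃+* F).toRingHom (dualGL k⁻¹)).1 = (k.1.map σ)ᵀ := by
    show ((k⁻¹⁻¹).1ᵀ).map σ = _
    rw [inv_inv, Matrix.transpose_map]
  rw [e3, ← hk]
  simp only [g₀, Units.val_mul, scalar_coe, ← Matrix.mul_assoc, ← map_mul]
  rw [← Units.val_mul, mul_inv_cancel, Units.val_one, map_one, Matrix.one_mul]

omit [Fintype F] [Fact p.Prime] [CharP F p] in
theorem isConjUnder_conj_iff {X : Type*} [Group X] (H : Subgroup X) {k s y : X} (hk : k ∈ H) :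
    Cfsg.IsConjUnder H (k * s * k⁻¹) y ↔ Cfsg.IsConjUnder H s y := by
  constructor
  · rintro ⟨h, hh, rfl⟩; exact ⟨h * k, mul_mem hh hk, by group⟩
  · rintro ⟨h, hh, rfl⟩; exact ⟨h * k⁻¹, mul_mem hh (inv_mem hk), by group⟩

omit [Fintype F] [Fact p.Prime] [CharP F p] in
theorem centralizer_conj_equiv {X : Type*} [Group X] (H : Subgroup X) {k s : X} (hk : k ∈ H) :
    Nonempty (↥(H ⊓ Subgroup.centralizer {k * s * k⁻¹}) ≃* ↥(H ⊓ Subgroup.centralizer {s})) := by
  have key : ∀ a : X, a ∈ H ⊓ Subgroup.centralizer {k * s * k⁻¹} ↔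
      k⁻¹ * a * k ∈ H ⊓ Subgroup.centralizer {s} := by
    intro a
    simp only [Subgroup.mem_inf, Subgroup.mem_centralizer_singleton_iff]
    rw [Subgroup.mul_mem_cancel_right _ hk, Subgroup.mul_mem_cancel_left _ (inv_mem hk)]
    refine and_congr_right fun _ => ?_
    constructor <;> intro h
    · calc (k⁻¹ * a * k) * s = k⁻¹ * (a * (k * s * k⁻¹)) * k := by group
        _ = k⁻¹ * ((k * s * k⁻¹) * a) * k := by rw [h]
        _ = s * (k⁻¹ * a * k) := by group
    · calc a * (k * s * k⁻¹) = k * ((k⁻¹ * a * k) * s) * k⁻¹ := by group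
        _ = k * (s * (k⁻¹ * a * k)) * k⁻¹ := by rw [h]
        _ = k * s * k⁻¹ * a := by group
  exact ⟨{ toFun := fun a => ⟨k⁻¹ * a.1 * k, (key a.1).mp a.2⟩
           invFun := fun b => ⟨k * b.1 * k⁻¹, (key _).mpr (by simpa [mul_assoc] using b.2)⟩
           left_inv := fun a => Subtype.ext (by simp [mul_assoc])
           right_inv := fun b => Subtype.ext (by simp [mul_assoc])
           map_mul' := fun a b => Subtype.ext (by simp [mul_assoc]) }⟩

omit [Fintype F] [Fact p.Prime] [CharP F p] in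
theorem splitClassCount_eq {X : Type*} [Group X] (H I : Subgroup X) [I.Normal] (hI : I ≤ H) (s : X) :
    Cfsg.splitClassCount H I s = (I ⊔ H ⊓ Subgroup.centralizer {s}).relIndex H := by
  set C := H ⊓ Subgroup.centralizer {s}
  let f : ↥H → {y : X // Cfsg.IsConjUnder H s y} := fun h => ⟨h.1 * s * h.1⁻¹, h.1, h.2, rfl⟩
  have hrel : ∀ a b : ↥H, Cfsg.IsConjUnder I (f a).1 (f b).1 ↔ a⁻¹ * b ∈ (I ⊔ C).subgroupOf H := by
    intro a b
    rw [Subgroup.mem_subgroupOf, Subgroup.coe_mul, Subgroup.coe_inv]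
    constructor
    · rintro ⟨k, hk, e⟩
      have hc : a.1⁻¹ * k⁻¹ * b.1 ∈ C := by
        refine Subgroup.mem_inf.mpr ⟨mul_mem (mul_mem (inv_mem a.2) (inv_mem (hI hk))) b.2, ?_⟩
        rw [Subgroup.mem_centralizer_singleton_iff]
        calc a.1⁻¹ * k⁻¹ * b.1 * s = a.1⁻¹ * k⁻¹ * (b.1 * s * b.1⁻¹) * b.1 := by group
          _ = a.1⁻¹ * k⁻¹ * (k * (a.1 * s * a.1⁻¹) * k⁻¹) * b.1 := by rw [show b.1 * s * b.1⁻¹ = _ from e]
          _ = s * (a.1⁻¹ * k⁻¹ * b.1) := by group
      have hi : a.1⁻¹ * k * a.1 ∈ I := by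
        simpa using ‹I.Normal›.conj_mem k hk a.1⁻¹
      rw [show a.1⁻¹ * b.1 = (a.1⁻¹ * k * a.1) * (a.1⁻¹ * k⁻¹ * b.1) by group]
      exact mul_mem (Subgroup.mem_sup_left hi) (Subgroup.mem_sup_right hc)
    · intro h
      obtain ⟨i, hi, c, hc, e⟩ := Subgroup.mem_sup_of_normal_left.mp h
      refine ⟨a.1 * i * a.1⁻¹, ‹I.Normal›.conj_mem i hi a.1, ?_⟩
      have hb : b.1 = a.1 * i * c := by rw [mul_assoc, e]; group
      have hc' := Subgroup.mem_centralizer_singleton_iff.mp (Subgroup.mem_inf.mp hc).2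
      show b.1 * s * b.1⁻¹ = _
      rw [hb]
      calc a.1 * i * c * s * (a.1 * i * c)⁻¹ = a.1 * i * (c * s) * c⁻¹ * i⁻¹ * a.1⁻¹ := by group
        _ = a.1 * i * (s * c) * c⁻¹ * i⁻¹ * a.1⁻¹ := by rw [hc']
        _ = _ := by simp [f, mul_assoc]
  unfold Cfsg.splitClassCount Subgroup.relIndex Subgroup.index
  refine (Nat.card_congr (Equiv.ofBijective
    (Quotient.lift (fun h => Quot.mk _ (f h)) fun a b hab => Quot.sound ((hrel a b).mpr
      (QuotientGroup.leftRel_apply.mp hab))) ⟨?_, ?_⟩)).symm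
  · rintro ⟨a⟩ ⟨b⟩ hab
    apply Quotient.sound
    show QuotientGroup.leftRel _ a b
    rw [QuotientGroup.leftRel_apply, ← hrel]
    have hequiv : Equivalence fun y z : {y : X // Cfsg.IsConjUnder H s y} =>
        Cfsg.IsConjUnder I y.1 z.1 :=
      ⟨fun y => ⟨1, one_mem _, by group⟩,
        fun {y z} ⟨k, hk, e⟩ => ⟨k⁻¹, inv_mem hk, by rw [e]; group⟩,
        fun {x y z} ⟨k, hk, e⟩ ⟨k', hk', e'⟩ => ⟨k' * k, mul_mem hk' hk, by rw [e', e]; group⟩⟩
    exact (hequiv.eqvGen_iff).mp (Quot.eqvGen_exact hab)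
  · rintro ⟨⟨y, h, hh, rfl⟩⟩
    exact ⟨Quotient.mk _ ⟨h, hh⟩, rfl⟩

omit [Fact p.Prime] [CharP F p] in
/-- The number of `PSL`-classes in an `Inndiag`-class, from determinants of the centralizer. -/
theorem splitCount_eq_gcd (hn : 2 ≤ n) (s : MulAut PSL) (S : Subgroup Fˣ)
    (h1 : ∀ g : GL (Fin n) F, Commute (diagAut g) s →
      GeneralLinearGroup.det g ∈ (powMonoidHom n : Fˣ →* Fˣ).range ⊔ S)
    (h2 : ∀ u ∈ S, ∃ g : GL (Fin n) F, Commute (diagAut g) s ∧ GeneralLinearGroup.det g = u) :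
    Cfsg.splitClassCount (Cfsg.inndiagPSL n F) (Cfsg.Inn PSL) s = Nat.gcd n S.index := by
  have hI : Cfsg.Inn PSL ≤ Cfsg.inndiagPSL n F := by
    rintro _ ⟨x, rfl⟩
    obtain ⟨A, rfl⟩ := mk_surjective x
    rw [inndiag_eq]
    exact ⟨_, diagAut_toGL A⟩
  rw [splitClassCount_eq _ _ hI, inndiag_eq, ← Subgroup.index_comap]
  set L := (Cfsg.Inn PSL ⊔ (diagAut : GL (Fin n) F →* MulAut PSL).range ⊓
    Subgroup.centralizer {s}).comap diagAut with hL
  have hdet : Function.Surjective (GeneralLinearGroup.det : GL (Fin n) F → Fˣ) :=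
    fun c => ⟨dil hn c, det_dil hn c⟩
  have hker : (GeneralLinearGroup.det : GL (Fin n) F →* Fˣ).ker ≤ L := by
    intro g hg
    obtain ⟨A, rfl⟩ := exists_toGL_of_det_one g hg
    exact Subgroup.mem_sup_left ⟨mk A, (diagAut_toGL A).symm⟩
  rw [← Subgroup.index_map_eq L hdet hker]
  have hmap : L.map GeneralLinearGroup.det = (powMonoidHom n : Fˣ →* Fˣ).range ⊔ S := by
    have hscal : ∀ u : Fˣ, GeneralLinearGroup.det (GeneralLinearGroup.scalar (Fin n) u) = u ^ n :=
      fun u => Units.ext (by simp [Matrix.det_diagonal])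
    apply le_antisymm
    · rintro _ ⟨g, hg, rfl⟩
      obtain ⟨i, ⟨x, rfl⟩, c, hc, e⟩ := Subgroup.mem_sup_of_normal_left.mp hg
      obtain ⟨⟨h, rfl⟩, hcs⟩ := Subgroup.mem_inf.mp hc
      obtain ⟨A, rfl⟩ := mk_surjective x
      rw [← diagAut_toGL, ← map_mul] at e
      obtain ⟨u, hu⟩ := (diagAut_eq_iff hn).mp e.symm
      rw [hu, map_mul, map_mul, hscal,
        show GeneralLinearGroup.det (SpecialLinearGroup.toGL A) = 1 from Units.ext A.2, one_mul]
      exact mul_mem (Subgroup.mem_sup_left ⟨u, rfl⟩)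
        (h1 h (Subgroup.mem_centralizer_singleton_iff.mp hcs))
    · refine sup_le ?_ ?_
      · rintro _ ⟨u, rfl⟩
        refine ⟨GeneralLinearGroup.scalar (Fin n) u, ?_, hscal u⟩
        rw [SetLike.mem_coe, hL, Subgroup.mem_comap,
          diagAut_scalar (GeneralLinearGroup.scalar (Fin n) u) (u : F) rfl]
        exact one_mem _
      · intro u hu
        obtain ⟨g, hg, rfl⟩ := h2 u hu
        exact ⟨g, Subgroup.mem_sup_right (Subgroup.mem_inf.mpr
          ⟨⟨g, rfl⟩, Subgroup.mem_centralizer_singleton_iff.mpr hg⟩), rfl⟩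
  rw [hmap, index_powRange_sup]

end CfsgLib.PSLn
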