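import Cfsg.Agent.Lib.PSLn.FieldCentral
import Cfsg.Prelude.Def_LieClassical
import Mathlib.FieldTheory.Perfect

/-!
The centralizer of an involutory graph-field automorphism in `Inndiag(PSL_n(q))`.
-/

set_option autoImplicit false

namespace CfsgLib.PSLn

open Matrix
open scoped MatrixGroups

variable {F : Type*} [Field F] {n : ℕ}

local notation "PSL" => Matrix.ProjectiveSpecialLinearGroup (Fin n) F

theorem involutory_ringAut [Fintype F] {p f : ℕ} [Fact p.Prime] (hF : Fintype.card F = p ^ f)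
    (σ : RingAut F) (hσ : orderOf σ = 2) : Even f ∧ ∀ x : F, σ x = x ^ p ^ (f / 2) := by
  classical
  haveI := charP_of_card hF
  obtain ⟨hcyc, -⟩ := ringAut_cyclic (F := F) (p := p) hF
  obtain ⟨hd, -⟩ := dvd_and_card_fixedField hF σ hσ
  obtain ⟨m, rfl⟩ := hd
  refine ⟨⟨m, two_mul m⟩, ?_⟩
  rw [Nat.mul_div_cancel_left _ (by norm_num : 0 < 2)]
  let τ : RingAut F := iterateFrobeniusEquiv F p m
  have hτ : ∀ x, τ x = x ^ p ^ m := fun x => iterateFrobeniusEquiv_def F p m x
  have hτ2 : τ * τ = 1 := RingEquiv.ext fun x => by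
    rw [RingAut.mul_apply, hτ, hτ, ← pow_mul, ← pow_add, ← two_mul, RingAut.one_apply, ← hF,
      FiniteField.pow_card]
  have hτ1 : τ ≠ 1 := by
    intro h
    have hm : 0 < m := by
      rcases m with _ | m
      · have := Fintype.one_lt_card (α := F)
        simp [hF] at this
      · omega
    have hq : 1 < p ^ m := Nat.one_lt_pow hm.ne' (Fact.out : p.Prime).one_lt
    have hP := FiniteField.X_pow_card_sub_X_natDegree_eq F hq
    have hne := FiniteField.X_pow_card_sub_X_ne_zero F hq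
    have hsub : (Finset.univ : Finset F).val ≤
        (Polynomial.X ^ (p ^ m) - Polynomial.X : Polynomial F).roots := by
      rw [Multiset.le_iff_subset Finset.univ.nodup]
      intro x _
      rw [Polynomial.mem_roots hne, Polynomial.IsRoot, Polynomial.eval_sub, Polynomial.eval_pow,
        Polynomial.eval_X, ← hτ, h, RingAut.one_apply, sub_self]
    have h1 := (Multiset.card_le_card hsub).trans (Polynomial.card_roots' _)
    rw [hP, ← Finset.card_def, Finset.card_univ, hF] at h1
    have : p ^ m < p ^ (2 * m) := Nat.pow_lt_pow_right (Fact.out : p.Prime).one_lt (by omega)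
    omega
  have := finite_ringAut (F := F)
  have : Fintype (RingAut F) := Fintype.ofFinite _
  have h2 := IsCyclic.card_pow_eq_one_le (α := RingAut F) (n := 2) (by norm_num)
  have hστ : σ = τ := by
    by_contra hne
    have hσ1 : σ ≠ 1 := fun e => by rw [e, orderOf_one] at hσ; omega
    have hsub : ({1, σ, τ} : Finset (RingAut F)) ⊆
        Finset.univ.filter fun a : RingAut F => a ^ 2 = 1 := by
      intro a ha
      simp only [Finset.mem_insert, Finset.mem_singleton] at ha
      rw [Finset.mem_filter]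
      refine ⟨Finset.mem_univ _, ?_⟩
      rcases ha with rfl | rfl | rfl
      · exact one_pow 2
      · rw [← hσ, pow_orderOf_eq_one]
      · rw [pow_two, hτ2]
    have := (Finset.card_le_card hsub).trans h2
    rw [Finset.card_insert_of_notMem (by simp [Ne.symm hσ1, Ne.symm hτ1]),
      Finset.card_insert_of_notMem (by simp [hne]), Finset.card_singleton] at this
    omega
  intro x
  rw [hστ, hτ]

theorem exists_unitary_scalar [Finite F] (hn : 2 ≤ n) {σ : RingAut F} (hσ : orderOf σ = 2)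
    {g : GL (Fin n) F}
    (h : Commute (diagAut g : MulAut PSL) (fieldAut σ * graphAut)) :
    ∃ μ : Fˣ, (GeneralLinearGroup.scalar (Fin n) μ * g).1 *
      ((GeneralLinearGroup.scalar (Fin n) μ * g).1.map σ)ᵀ = 1 := by
  have h2 : σ * σ = 1 := by rw [← pow_two, ← hσ, pow_orderOf_eq_one]
  have hss : ∀ x, σ (σ x) = x := fun x => RingEquiv.congr_fun h2 x
  rw [commute_iff_eq, graphField_diag, mul_left_inj, diagAut_eq_iff hn] at h
  obtain ⟨u, hu⟩ := h
  set g' := GeneralLinearGroup.map (σ : F ≃+* F).toRingHom (dualGL g) with hg'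
  have e1 : g'.1 * g.1ᵀ.map σ = 1 := by
    show ((g⁻¹).1ᵀ).map σ * g.1ᵀ.map σ = 1
    rw [← Matrix.map_mul, ← Matrix.transpose_mul, ← Units.val_mul, mul_inv_cancel, Units.val_one,
      Matrix.transpose_one, Matrix.map_one _ (map_zero σ) (map_one σ)]
  have e2 : g.1 * g.1ᵀ.map σ = Matrix.scalar (Fin n) (u : F) := by
    conv_lhs => arg 1; rw [hu]
    rw [Units.val_mul, scalar_coe, Matrix.mul_assoc, e1, Matrix.mul_one]
  have hfix : u ∈ fixedUnits σ := by
    rw [mem_fixedUnits]
    have e4 := congrArg (fun A : Matrix (Fin n) (Fin n) F => (A.map σ)ᵀ) e2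
    simp only [Matrix.map_mul, Matrix.map_map, Matrix.transpose_mul] at e4
    have e5 : (g.1ᵀ.map (⇑σ ∘ ⇑σ))ᵀ = g.1 := by ext i j; simp [hss]
    have e6 : (g.1.map σ)ᵀ = g.1ᵀ.map σ := rfl
    rw [e5, e6, e2, scalar_map, Matrix.scalar_apply, Matrix.scalar_apply,
      Matrix.diagonal_transpose] at e4
    exact (congrFun (congrFun e4 ⟨0, by omega⟩) ⟨0, by omega⟩).symm.trans (by simp) |>.trans rfl
  rw [← range_normUnits] at hfix
  obtain ⟨μ, hμ⟩ := hfix
  refine ⟨μ⁻¹, ?_⟩
  rw [Units.ext_iff, coe_normUnits, hσ, Finset.prod_range_succ, Finset.prod_range_one, pow_zero,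
    pow_one, RingAut.one_apply] at hμ
  have hne : (μ : F) ≠ 0 := μ.ne_zero
  have hne' : σ (μ : F) ≠ 0 := by simp
  ext i j
  have e := congrFun (congrFun e2 i) j
  simp only [Matrix.mul_apply, Matrix.scalar_apply, Matrix.map_apply, Matrix.transpose_apply]
    at e ⊢
  simp only [Units.val_mul, scalar_coe, Matrix.scalar_apply, Matrix.diagonal_mul, map_mul,
    Units.val_inv_eq_inv_val, map_inv₀]
  calc ∑ x, (μ : F)⁻¹ * g.1 i x * ((σ (μ : F))⁻¹ * σ (g.1 j x))
      = ((μ : F) * σ μ)⁻¹ * ∑ x, g.1 i x * σ (g.1 j x) := by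
        rw [Finset.mul_sum]
        exact Finset.sum_congr rfl fun x _ => by rw [mul_inv]; ring
    _ = (1 : Matrix (Fin n) (Fin n) F) i j := by
        rw [e, hμ, Matrix.one_apply, Matrix.diagonal_apply]
        split_ifs <;> simp

theorem mem_GU_iff {q : ℕ} (σ : RingAut F) (hσ : ∀ x, σ x = x ^ q) (g : GL (Fin n) F) :
    g ∈ Cfsg.GU n F q ↔ g.1ᵀ * g.1.map σ = 1 := by
  have hH : ∀ u v : Fin n → F, Cfsg.hermForm n F q u v = u ⬝ᵥ (⇑σ ∘ v) := fun u v => by
    simp [Cfsg.hermForm, dotProduct, hσ]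
  have key : ∀ u v : Fin n → F, Cfsg.hermForm n F q (g.1 *ᵥ u) (g.1 *ᵥ v) =
      u ⬝ᵥ ((g.1ᵀ * g.1.map σ) *ᵥ (⇑σ ∘ v)) := by
    intro u v
    rw [hH, show ⇑σ ∘ (g.1 *ᵥ v) = g.1.map σ *ᵥ (⇑σ ∘ v) from
      funext fun i => RingHom.map_mulVec (σ : F ≃+* F).toRingHom g.1 v i,
      dotProduct_mulVec, ← Matrix.vecMul_transpose, Matrix.vecMul_vecMul, ← dotProduct_mulVec]
  constructor
  · intro h
    ext a b
    have := h (Pi.single a 1) (Pi.single b 1)
    rw [show (Units.coeHom (Matrix (Fin n) (Fin n) F)) g = g.1 from rfl, key, hH] at this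
    have e : ⇑σ ∘ (Pi.single b 1 : Fin n → F) = Pi.single b 1 := by
      funext i
      rcases eq_or_ne i b with rfl | hi
      · simp
      · simp [Pi.single_eq_of_ne hi]
    rw [e, single_one_dotProduct, single_one_dotProduct, Matrix.mulVec_single_one] at this
    simpa [Matrix.col, Matrix.one_apply, Pi.single_apply, eq_comm] using this
  · intro h u v
    show Cfsg.hermForm n F q (g.1 *ᵥ u) (g.1 *ᵥ v) = _
    rw [key, h, Matrix.one_mulVec, hH]

theorem unitary_iff (σ : RingAut F) (hss : ∀ x, σ (σ x) = x) (g : GL (Fin n) F) :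
    g.1 * (g.1.map σ)ᵀ = 1 ↔ g.1ᵀ * g.1.map σ = 1 := by
  have e : ((g.1.map σ)ᵀ * g.1).map σ = g.1ᵀ * g.1.map σ := by
    rw [Matrix.map_mul]
    congr 1
    ext i j; simp [hss]
  rw [mul_eq_one_comm, ← e]
  constructor
  · intro h
    rw [h, Matrix.map_one _ (map_zero σ) (map_one σ)]
  · intro h
    rw [← Matrix.map_one σ (map_zero σ) (map_one σ)] at h
    exact Matrix.map_injective σ.injective h

theorem commute_of_unitary (hn : 2 ≤ n) (σ : RingAut F) (g : GL (Fin n) F)
    (h : g.1 * (g.1.map σ)ᵀ = 1) :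
    Commute (diagAut g : MulAut PSL) (fieldAut σ * graphAut) := by
  rw [commute_iff_eq, graphField_diag, mul_left_inj, diagAut_eq_iff hn]
  refine ⟨1, ?_⟩
  rw [map_one, one_mul]
  have e1 : (GeneralLinearGroup.map (σ : F ≃+* F).toRingHom (dualGL g)).1 * (g.1.map σ)ᵀ = 1 := by
    show ((g⁻¹).1ᵀ).map σ * (g.1.map σ)ᵀ = 1
    rw [Matrix.transpose_map, ← Matrix.transpose_mul, ← Matrix.map_mul,
      ← Units.val_mul, mul_inv_cancel, Units.val_one, Matrix.map_one _ (map_zero σ) (map_one σ),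
      Matrix.transpose_one]
  refine Units.ext ?_
  calc g.1 = g.1 * ((g.1.map σ)ᵀ * (GeneralLinearGroup.map (σ : F ≃+* F).toRingHom
        (dualGL g)).1) := by rw [mul_eq_one_comm.mp e1, Matrix.mul_one]
    _ = _ := by rw [← Matrix.mul_assoc, h, Matrix.one_mul]

theorem centralizer_graphField_equiv [Fintype F] (hn : 2 ≤ n) (σ : RingAut F)
    (hσ : orderOf σ = 2) {q : ℕ} (hq : ∀ x, σ x = x ^ q) :
    Nonempty (↥(Cfsg.inndiagPSL n F ⊓ Subgroup.centralizer {fieldAut σ * graphAut}) ≃*
      Cfsg.PGU n F q) := by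
  classical
  have h2 : σ * σ = 1 := by rw [← pow_two, ← hσ, pow_orderOf_eq_one]
  have hss : ∀ x, σ (σ x) = x := fun x => RingEquiv.congr_fun h2 x
  let φ : ↥(Cfsg.GU n F q) →* MulAut PSL :=
    (diagAut : GL (Fin n) F →* MulAut PSL).comp (Cfsg.GU n F q).subtype
  have hr : φ.range = Cfsg.inndiagPSL n F ⊓ Subgroup.centralizer {fieldAut σ * graphAut} := by
    apply le_antisymm
    · rintro _ ⟨⟨g, hg⟩, rfl⟩
      refine Subgroup.mem_inf.mpr ⟨by rw [inndiag_eq]; exact ⟨_, rfl⟩, ?_⟩
      rw [Subgroup.mem_centralizer_singleton_iff]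
      exact (commute_of_unitary hn σ g
        ((unitary_iff σ hss g).mpr ((mem_GU_iff σ hq g).mp hg))).eq
    · intro a ha
      obtain ⟨ha, hc⟩ := Subgroup.mem_inf.mp ha
      rw [inndiag_eq] at ha
      obtain ⟨g, rfl⟩ := ha
      obtain ⟨μ, hμ⟩ := exists_unitary_scalar hn hσ (Subgroup.mem_centralizer_singleton_iff.mp hc)
      refine ⟨⟨_, (mem_GU_iff σ hq _).mpr ((unitary_iff σ hss _).mp hμ)⟩, ?_⟩
      show diagAut (GeneralLinearGroup.scalar (Fin n) μ * g) = diagAut g
      rw [diagAut_eq_iff hn]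
      exact ⟨μ, rfl⟩
  have hk : φ.ker = (Cfsg.Geo.scalars (Fin n) F).subgroupOf (Cfsg.GU n F q) := by
    rw [← MonoidHom.comap_ker, ker_diagAut hn, GeneralLinearGroup.center_eq_range_scalar]
    rfl
  exact ⟨((MulEquiv.subgroupCongr hr).symm.trans
    (QuotientGroup.quotientKerEquivRange _).symm).trans (QuotientGroup.quotientMulEquivOfEq hk)⟩

theorem splitCount_graphField [Fintype F] (hn : 2 ≤ n) (σ : RingAut F) (hσ : orderOf σ = 2) :
    Cfsg.splitClassCount (Cfsg.inndiagPSL n F) (Cfsg.Inn PSL) (fieldAut σ * graphAut) =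
      Nat.gcd n (Nat.card (fixedField σ) - 1) := by
  have hN : ∀ c : Fˣ, (normUnits σ c : F) = c * σ c := fun c => by
    rw [coe_normUnits, hσ, Finset.prod_range_succ, Finset.prod_range_one, pow_zero, pow_one,
      RingAut.one_apply]
  rw [← card_fixedUnits, ← range_normUnits, ← Subgroup.index_ker,
    splitCount_eq_gcd hn _ (normUnits σ).ker]
  · intro g hg
    obtain ⟨μ, hμ⟩ := exists_unitary_scalar hn hσ hg
    set g₀ := GeneralLinearGroup.scalar (Fin n) μ * g
    have h0 : GeneralLinearGroup.det g₀ ∈ (normUnits σ).ker := by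
      rw [MonoidHom.mem_ker, Units.ext_iff, hN, GeneralLinearGroup.val_det_apply, Units.val_one]
      have := congrArg Matrix.det hμ
      rw [Matrix.det_mul, Matrix.det_transpose, Matrix.det_one] at this
      rw [← this]
      congr 1
      exact RingHom.map_det (σ : F ≃+* F).toRingHom g₀.1
    have e : GeneralLinearGroup.det g = (μ ^ n)⁻¹ * GeneralLinearGroup.det g₀ := by
      rw [map_mul, show GeneralLinearGroup.det (GeneralLinearGroup.scalar (Fin n) μ) = μ ^ n from
        Units.ext (by simp [Matrix.det_diagonal]), inv_mul_cancel_left]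
    rw [e]
    exact mul_mem (Subgroup.mem_sup_left (inv_mem (show μ ^ n ∈ (powMonoidHom n : Fˣ →* Fˣ).range
      from ⟨μ, rfl⟩))) (Subgroup.mem_sup_right h0)
  · intro u hu
    rw [MonoidHom.mem_ker, Units.ext_iff, hN, Units.val_one] at hu
    refine ⟨dil hn u, commute_of_unitary hn σ _ ?_, det_dil hn u⟩
    show Matrix.diagonal (Function.update (1 : Fin n → F) _ (u : F)) *
      ((Matrix.diagonal (Function.update (1 : Fin n → F) _ (u : F))).map σ)ᵀ = 1
    rw [Matrix.diagonal_map (map_zero σ), Matrix.diagonal_transpose, Matrix.diagonal_mul_diagonal,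
      ← Matrix.diagonal_one]
    congr 1
    funext i
    rcases eq_or_ne i ⟨0, by omega⟩ with rfl | hi
    · simp [hu]
    · simp [Function.update_of_ne hi]

end CfsgLib.PSLn
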