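import Cfsg.Agent.Lib.PSLn.Aut
import Cfsg.Agent.Lib.PSL2.Out
import Mathlib.GroupTheory.SpecificGroups.Cyclic
import Mathlib.LinearAlgebra.Matrix.GeneralLinearGroup.Projective
import Mathlib.FieldTheory.Galois.Basic
import Mathlib.Algebra.Algebra.ZMod
import Mathlib.FieldTheory.Finite.GaloisField

/-!
The structure of `Aut PSL_n(q)`: the inner-diagonal automorphisms form a normal subgroup
isomorphic to `PGL_n(q)`, complemented by the field and graph automorphisms.
-/

set_option autoImplicit false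

namespace CfsgLib.PSLn

open Matrix
open scoped MatrixGroups

variable {F : Type*} [Field F] {n : ℕ}

local notation "SL" => Matrix.SpecialLinearGroup (Fin n) F
local notation "PSL" => Matrix.ProjectiveSpecialLinearGroup (Fin n) F

theorem fieldSL_xx (e : RingAut F) {i j : Fin n} (hij : i ≠ j) (a : F) :
    fieldSL e (xx i j hij a) = xx i j hij (e a) := by
  apply Subtype.ext
  rw [coe_fieldSL, coe_xx, coe_xx]
  ext k l
  rw [Matrix.map_apply, Matrix.add_apply, Matrix.add_apply, map_add, Matrix.single_apply,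
    Matrix.single_apply]
  congr 1
  · rw [Matrix.one_apply]; split_ifs <;> simp
  · split_ifs <;> simp

theorem graphSL_xx {i j : Fin n} (hij : i ≠ j) (a : F) :
    graphSL (xx i j hij a) = xx j i hij.symm (-a) := by
  apply Subtype.ext
  rw [coe_graphSL, xx_inv, coe_xx, coe_xx, Matrix.transpose_add, Matrix.transpose_one,
    Matrix.transpose_single]

theorem single_comm_of_eq {g : GL (Fin n) F} {e : RingAut F} {i j k l : Fin n} {hij : i ≠ j}
    {hkl : k ≠ l} {a b : F}
    (h : (diagAut g * fieldAut e : MulAut PSL) (mk (xx i j hij a)) = mk (xx k l hkl b)) :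
    g.1 * single i j (e a) = single k l b * g.1 := by
  rw [MulAut.mul_apply, fieldAut_mk, diagAut_mk, fieldSL_xx, xx_eq_tv i j, xx_eq_tv k l] at h
  obtain ⟨h', e'⟩ := conjSL_tv g _ _ (dot_single_ne hij (e a))
  rw [e'] at h
  have h2 := mk_tv_injective h
  rw [← single_eq_vec, ← mul_vecMulVec] at h2
  have h3 : g.1 * single i j (e a) * (g⁻¹).1 = single k l b := by
    rw [single_eq_vec i j, mul_vecMulVec, vecMulVec_mul, ← mul_vecMulVec]
    exact h2
  rw [← h3, Matrix.mul_assoc (g.1 * single i j (e a)), ← Units.val_mul, inv_mul_cancel,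
    Units.val_one, Matrix.mul_one]

/-- A diagonal times field automorphism is trivial only trivially. -/
theorem eq_one_imp (hn : 2 ≤ n) {g : GL (Fin n) F} {e : RingAut F}
    (h : (diagAut g * fieldAut e : MulAut PSL) = 1) :
    e = 1 ∧ ∃ r : F, g.1 = Matrix.scalar (Fin n) r := by
  have key : ∀ i j (hij : i ≠ j) (a : F), g.1 * single i j (e a) = single i j a * g.1 := fun i j hij a =>
    single_comm_of_eq (hij := hij) (hkl := hij) (by rw [h, MulAut.one_apply])
  have off : ∀ k i, k ≠ i → g.1 k i = 0 := by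
    intro k i hki
    have := congrFun (congrFun (key i k hki.symm 1) k) k
    rw [map_one, Matrix.mul_single_apply_same, Matrix.single_mul_apply_of_ne (h := hki), mul_one] at this
    exact this
  have diag : ∀ i j (hij : i ≠ j) (a : F), g.1 i i * e a = a * g.1 j j := by
    intro i j hij a
    have := congrFun (congrFun (key i j hij a) i) j
    rwa [Matrix.mul_single_apply_same, Matrix.single_mul_apply_same] at this
  let i₀ : Fin n := ⟨0, by omega⟩
  let i₁ : Fin n := ⟨1, by omega⟩
  have h01 : i₀ ≠ i₁ := by simp [i₀, i₁]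
  have heq : ∀ i, g.1 i i = g.1 i₀ i₀ := fun i => by
    rcases eq_or_ne i i₀ with rfl | hi
    · rfl
    · have := diag i i₀ hi 1; rwa [map_one, mul_one, one_mul] at this
  have hg0 : g.1 i₀ i₀ ≠ 0 := by
    intro h0
    have hd := ((Matrix.isUnit_iff_isUnit_det _).mp g.isUnit).ne_zero
    apply hd
    refine Matrix.det_eq_zero_of_column_eq_zero i₀ fun k => ?_
    rcases eq_or_ne k i₀ with rfl | hk
    · exact h0
    · exact off k i₀ hk
  refine ⟨?_, g.1 i₀ i₀, ?_⟩
  · refine RingEquiv.ext fun a => ?_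
    have := diag i₀ i₁ h01 a
    rw [heq i₁, mul_comm a] at this
    exact mul_left_cancel₀ hg0 this
  · ext i j
    rcases eq_or_ne i j with rfl | hij
    · simp [heq i]
    · simp [off i j hij, hij]

/-- The graph automorphism is not inner-diagonal times field for `n ≥ 3`. -/
theorem ne_graphAut (hn : 3 ≤ n) (g : GL (Fin n) F) (e : RingAut F) :
    (diagAut g * fieldAut e : MulAut PSL) ≠ graphAut := by
  intro h
  let i₀ : Fin n := ⟨0, by omega⟩
  let i₁ : Fin n := ⟨1, by omega⟩
  let i₂ : Fin n := ⟨2, by omega⟩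
  have col : ∀ j (hj : i₀ ≠ j) k, k ≠ j → g.1 k i₀ = 0 := by
    intro j hj k hk
    have h1 := single_comm_of_eq (g := g) (e := e) (hij := hj) (hkl := hj.symm) (a := (1 : F))
      (b := (-1 : F)) (by rw [h, graphAut_mk, graphSL_xx])
    have := congrFun (congrFun h1 k) j
    rwa [map_one, Matrix.mul_single_apply_same, Matrix.single_mul_apply_of_ne (h := hk),
      mul_one] at this
  apply ((Matrix.isUnit_iff_isUnit_det _).mp g.isUnit).ne_zero
  refine Matrix.det_eq_zero_of_column_eq_zero i₀ fun k => ?_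
  rcases eq_or_ne k i₁ with rfl | hk
  · exact col i₂ (by simp [i₀, i₂]) _ (by simp [i₁, i₂])
  · exact col i₁ (by simp [i₀, i₁]) k hk

theorem diagAut_scalar (g : GL (Fin n) F) (r : F) (h : g.1 = Matrix.scalar (Fin n) r) :
    (diagAut g : MulAut PSL) = 1 := by
  ext x
  obtain ⟨A, rfl⟩ := mk_surjective x
  rw [diagAut_mk, MulAut.one_apply]
  congr 1
  apply Subtype.ext
  rw [coe_conjSL, h, (Matrix.scalar_commute r (fun r' => Commute.all r r') A.1).eq, Matrix.mul_assoc,
    ← h, ← Units.val_mul, mul_inv_cancel, Units.val_one, Matrix.mul_one]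

theorem ker_diagAut (hn : 2 ≤ n) :
    (diagAut : GL (Fin n) F →* MulAut PSL).ker = Subgroup.center (GL (Fin n) F) := by
  ext g
  rw [MonoidHom.mem_ker, GeneralLinearGroup.center_eq_range_scalar, MonoidHom.mem_range]
  constructor
  · intro h
    obtain ⟨-, r, hr⟩ := eq_one_imp hn (e := 1) (by rw [h, map_one, mul_one] : diagAut g * fieldAut 1 = (1 : MulAut PSL))
    have hr0 : r ≠ 0 := by
      intro h0
      apply ((Matrix.isUnit_iff_isUnit_det _).mp g.isUnit).ne_zero
      have : Nonempty (Fin n) := ⟨⟨0, by omega⟩⟩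
      rw [hr, h0]; simp
    exact ⟨Units.mk0 r hr0, Units.ext (by simp [hr])⟩
  · rintro ⟨u, rfl⟩
    exact diagAut_scalar _ (u : F) (by simp)

/-- For `n = 2` the diagonal automorphisms are those of `Lib/PSL2`. -/
theorem diagAut_two (g : GL (Fin 2) F) : (diagAut g : MulAut (ProjectiveSpecialLinearGroup (Fin 2) F)) = PSL2.diagAut g := by
  ext x
  obtain ⟨A, rfl⟩ := mk_surjective x
  rfl

theorem fieldAut_two (e : RingAut F) :
    (fieldAut e : MulAut (ProjectiveSpecialLinearGroup (Fin 2) F)) = PSL2.fieldAut e := by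
  ext x
  obtain ⟨A, rfl⟩ := mk_surjective x
  rfl

theorem exists_decomposition_any [Fintype F] (p : ℕ) [Fact p.Prime] [CharP F p] (hn : 2 ≤ n)
    (φ : MulAut PSL) : ∃ (g : GL (Fin n) F) (e : RingAut F),
      φ = diagAut g * fieldAut e ∨ (3 ≤ n ∧ φ = diagAut g * fieldAut e * graphAut) := by
  rcases Nat.lt_or_ge n 3 with h | h
  · obtain rfl : n = 2 := by omega
    obtain ⟨g, e, hge⟩ := PSL2.exists_diag_field p φ
    exact ⟨g, e, Or.inl (by rw [diagAut_two, fieldAut_two]; exact hge)⟩
  · obtain ⟨g, e, hge | hge⟩ := exists_decomposition p h φ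
    exacts [⟨g, e, Or.inl hge⟩, ⟨g, e, Or.inr ⟨h, hge⟩⟩]

/-- Inner-diagonal automorphisms are normal. -/
theorem diagAut_range_normal [Fintype F] (p : ℕ) [Fact p.Prime] [CharP F p] (hn : 2 ≤ n) :
    (diagAut : GL (Fin n) F →* MulAut PSL).range.Normal := by
  have hf : ∀ (e : RingAut F) (x : GL (Fin n) F),
      ∃ y, fieldAut e * diagAut x * (fieldAut e)⁻¹ = (diagAut y : MulAut PSL) := fun e x =>
    ⟨_, by rw [fieldAut_diag, mul_inv_cancel_right]⟩
  have hg : ∀ x : GL (Fin n) F,
      ∃ y, (graphAut : MulAut PSL) * diagAut x * graphAut⁻¹ = diagAut y := fun x =>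
    ⟨_, by rw [graphAut_diag, mul_inv_cancel_right]⟩
  constructor
  rintro _ ⟨x, rfl⟩ φ
  obtain ⟨g, e, h | ⟨-, h⟩⟩ := exists_decomposition_any p hn φ
  · obtain ⟨y, hy⟩ := hf e x
    refine ⟨g * y * g⁻¹, ?_⟩
    rw [h, map_mul, map_mul, map_inv, ← hy]; group
  · obtain ⟨y, hy⟩ := hg x
    obtain ⟨z, hz⟩ := hf e y
    refine ⟨g * z * g⁻¹, ?_⟩
    rw [h, map_mul, map_mul, map_inv, ← hz, ← hy]; group

/-- Field and graph automorphisms. -/
def fieldGraph : RingAut F × Multiplicative (ZMod 2) →* MulAut PSL where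
  toFun q := fieldAut q.1 * graphAut ^ (Multiplicative.toAdd q.2).val
  map_one' := by simp
  map_mul' a b := by
    have hc : Commute (graphAut : MulAut PSL) (fieldAut b.1) := graphAut_field _
    have hp : ∀ x y : ZMod 2, (graphAut : MulAut PSL) ^ (x + y).val =
        graphAut ^ x.val * graphAut ^ y.val := by
      intro x y
      rw [← pow_add, ZMod.val_add, ← pow_eq_pow_mod]
      rw [pow_two, graphAut_mul_self]
    rw [Prod.fst_mul, Prod.snd_mul, toAdd_mul, map_mul, hp, mul_assoc, mul_assoc]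
    congr 1
    rw [← mul_assoc, ← (hc.pow_left _).eq, mul_assoc]

theorem fieldGraph_apply (e : RingAut F) (t : ZMod 2) :
    (fieldGraph (e, Multiplicative.ofAdd t) : MulAut PSL) = fieldAut e * graphAut ^ t.val := rfl

theorem fieldGraph_bijective [Fintype F] (p : ℕ) [Fact p.Prime] [CharP F p] (hn : 3 ≤ n)
    (K : Subgroup (MulAut PSL)) [K.Normal]
    (hK : K = (diagAut : GL (Fin n) F →* MulAut PSL).range) :
    Function.Bijective ((QuotientGroup.mk' K).comp (fieldGraph (F := F) (n := n))) := by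
  constructor
  · rw [← MonoidHom.ker_eq_bot_iff, Subgroup.eq_bot_iff_forall]
    rintro ⟨e, t⟩ h
    rw [MonoidHom.mem_ker, MonoidHom.comp_apply, QuotientGroup.mk'_apply, QuotientGroup.eq_one_iff,
      hK] at h
    obtain ⟨g, hg⟩ := h
    obtain ⟨t, rfl⟩ := Multiplicative.ofAdd.surjective t
    rw [fieldGraph_apply] at hg
    obtain rfl | rfl : t = 0 ∨ t = 1 := (by decide : ∀ t : ZMod 2, t = 0 ∨ t = 1) t
    · rw [ZMod.val_zero, pow_zero, mul_one] at hg
      obtain ⟨he, -⟩ := eq_one_imp (F := F) (by omega : 2 ≤ n) (g := g⁻¹) (e := e) (by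
        rw [map_inv, hg, inv_mul_cancel])
      subst he
      rfl
    · rw [ZMod.val_one, pow_one] at hg
      exfalso
      refine ne_graphAut hn (GeneralLinearGroup.map (e⁻¹ : F ≃+* F).toRingHom g) e⁻¹ ?_
      rw [← fieldAut_diag, hg, map_inv, inv_mul_cancel_left]
  · intro x
    obtain ⟨φ, rfl⟩ := QuotientGroup.mk'_surjective K x
    obtain ⟨g, e, h | h⟩ := exists_decomposition p hn φ
    · refine ⟨(e, Multiplicative.ofAdd 0), ?_⟩
      rw [MonoidHom.comp_apply, fieldGraph_apply, ZMod.val_zero, pow_zero, mul_one, h,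
        map_mul (QuotientGroup.mk' K),
        (QuotientGroup.eq_one_iff _).mpr (hK ▸ ⟨g, rfl⟩ : diagAut g ∈ K) |> fun h' =>
          (show QuotientGroup.mk' K (diagAut g) = 1 from h'), one_mul]
    · refine ⟨(e, Multiplicative.ofAdd 1), ?_⟩
      rw [MonoidHom.comp_apply, fieldGraph_apply, ZMod.val_one, pow_one, h, mul_assoc (diagAut g),
        map_mul (QuotientGroup.mk' K) (diagAut g),
        (QuotientGroup.eq_one_iff _).mpr (hK ▸ ⟨g, rfl⟩ : diagAut g ∈ K) |> fun h' =>
          (show QuotientGroup.mk' K (diagAut g) = 1 from h'), one_mul]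

/-- The ring automorphisms of a finite field form a cyclic group of order the degree. -/
theorem ringAut_cyclic [Fintype F] {p f : ℕ} [Fact p.Prime] (hF : Fintype.card F = p ^ f)
    [CharP F p] : IsCyclic (RingAut F) ∧ Nat.card (RingAut F) = f := by
  letI : Algebra (ZMod p) F := ZMod.algebra F p
  have : Module.Finite (ZMod p) F := Module.Finite.of_finite
  let E : (F ≃ₐ[ZMod p] F) ≃* RingAut F :=
    { toFun := fun e => e.toRingEquiv
      invFun := fun e => AlgEquiv.ofRingEquiv (f := e) fun x =>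
        RingHom.congr_fun (Subsingleton.elim ((e : F ≃+* F).toRingHom.comp (algebraMap (ZMod p) F))
          (algebraMap (ZMod p) F)) x
      left_inv := fun e => AlgEquiv.ext fun _ => rfl
      right_inv := fun e => RingEquiv.ext fun _ => rfl
      map_mul' := fun _ _ => rfl }
  refine ⟨(E.isCyclic).mp inferInstance, ?_⟩
  rw [← Nat.card_congr E.toEquiv, IsGalois.card_aut_eq_finrank]
  have := Module.card_eq_pow_finrank (K := ZMod p) (V := F)
  rw [hF, ZMod.card] at this
  exact (Nat.pow_right_injective (Fact.out : p.Prime).two_le this).symm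

/-- `diag(c, 1, …, 1)`. -/
def dil (hn : 2 ≤ n) : Fˣ →* GL (Fin n) F where
  toFun c :=
    { val := Matrix.diagonal (Function.update 1 ⟨0, by omega⟩ (c : F))
      inv := Matrix.diagonal (Function.update 1 ⟨0, by omega⟩ ((c⁻¹ : Fˣ) : F))
      val_inv := by
        rw [Matrix.diagonal_mul_diagonal, ← Matrix.diagonal_one]; congr 1; funext i
        rcases eq_or_ne i ⟨0, by omega⟩ with rfl | h <;> simp [*]
      inv_val := by
        rw [Matrix.diagonal_mul_diagonal, ← Matrix.diagonal_one]; congr 1; funext i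
        rcases eq_or_ne i ⟨0, by omega⟩ with rfl | h <;> simp [*] }
  map_one' := Units.ext (by
    change Matrix.diagonal _ = (1 : Matrix (Fin n) (Fin n) F)
    rw [Units.val_one, show Function.update (1 : Fin n → F) ⟨0, by omega⟩ 1 = 1 from
      Function.update_eq_self _ _]
    exact Matrix.diagonal_one)
  map_mul' a b := Units.ext (by
    change Matrix.diagonal _ = Matrix.diagonal _ * Matrix.diagonal _
    rw [Matrix.diagonal_mul_diagonal]; congr 1; funext i
    rcases eq_or_ne i ⟨0, by omega⟩ with rfl | h <;> simp [*])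

theorem det_dil (hn : 2 ≤ n) (c : Fˣ) : GeneralLinearGroup.det (dil hn c) = c := by
  apply Units.ext
  change (Matrix.diagonal (Function.update (1 : Fin n → F) ⟨0, by omega⟩ (c : F))).det = c
  rw [Matrix.det_diagonal, Finset.prod_update_of_mem (Finset.mem_univ _)]
  simp

theorem exists_toGL_of_det_one (g : GL (Fin n) F) (h : GeneralLinearGroup.det g = 1) :
    ∃ A : SL, SpecialLinearGroup.toGL A = g :=
  ⟨⟨g.1, by simpa using congrArg Units.val h⟩, Units.ext rfl⟩

theorem dil_inner_iff (hn : 2 ≤ n) (c : Fˣ) :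
    (∃ x : PSL, diagAut (dil hn c) = MulAut.conj x) ↔
      c ∈ (powMonoidHom n : Fˣ →* Fˣ).range := by
  constructor
  · rintro ⟨x, hx⟩
    obtain ⟨A, rfl⟩ := mk_surjective x
    rw [← diagAut_toGL] at hx
    have h1 : (SpecialLinearGroup.toGL A)⁻¹ * dil hn c ∈ (diagAut : GL (Fin n) F →* MulAut PSL).ker := by
      rw [MonoidHom.mem_ker, map_mul, map_inv, hx, inv_mul_cancel]
    rw [ker_diagAut hn, GeneralLinearGroup.center_eq_range_scalar] at h1
    obtain ⟨u, hu⟩ := h1
    refine ⟨u, ?_⟩
    have := congrArg GeneralLinearGroup.det hu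
    rw [map_mul, map_inv, det_dil] at this
    have hA : GeneralLinearGroup.det (SpecialLinearGroup.toGL A) = 1 := Units.ext A.2
    rw [hA, inv_one, one_mul] at this
    rw [← this]
    apply Units.ext
    simp [Matrix.det_diagonal]
  · rintro ⟨u, rfl⟩
    obtain ⟨A, hA⟩ := exists_toGL_of_det_one (dil hn (powMonoidHom n u) * (GeneralLinearGroup.scalar (Fin n) u)⁻¹) (by
      rw [map_mul, map_inv, det_dil]
      have : GeneralLinearGroup.det (GeneralLinearGroup.scalar (Fin n) u) = u ^ n :=
        Units.ext (by simp [Matrix.det_diagonal])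
      rw [this, powMonoidHom_apply, mul_inv_cancel])
    refine ⟨mk A, ?_⟩
    rw [← diagAut_toGL, hA, map_mul, map_inv, diagAut_scalar (GeneralLinearGroup.scalar (Fin n) u)
      (u : F) (by simp), inv_one, mul_one]

end CfsgLib.PSLn
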