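import Cfsg.Agent.Lib.PSLn.Sylow
import Cfsg.Agent.Lib.GLFlags.Index
import Cfsg.Agent.Lib.SLCard
import Cfsg.Agent.Lib.Basic
import Mathlib.GroupTheory.Nilpotent

/-!
Radical `p`-subgroups of `SL_n` in characteristic `p` contain their centralizer up to scalars.
-/

set_option autoImplicit false
set_option linter.unusedSectionVars false

namespace CfsgLib.PSLn.Radical

open Matrix

variable {F : Type*} [Field F] [Fintype F] {n : ℕ}

local notation "SL" => Matrix.SpecialLinearGroup (Fin n) F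
local notation "V" => (Fin n → F)

theorem card_upper_eq (p : ℕ) [Fact p.Prime] [CharP F p] (hn : 1 ≤ n) :
    Nat.card (upper F n) = p ^ (Nat.card SL).factorization p := by
  obtain ⟨f, hp, hf⟩ := FiniteField.card F p
  have hcard : Nat.card (upper F n) = p ^ ((f : ℕ) * n.choose 2) := by
    rw [card_upper, Finset.prod_pow_eq_pow_sum, Fin.sum_univ_eq_sum_range (fun k => k) n, Finset.sum_range_id,
      ← Nat.choose_two_right, hf, ← pow_mul]
  rw [hcard]
  congr 1
  have h2 : ¬ p ∣ Fintype.card F - 1 := fun h => by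
    have h2 : p ∣ Fintype.card F := hf ▸ dvd_pow_self p f.ne_zero
    have h3 := Nat.dvd_sub h2 h
    rw [Nat.sub_sub_self (Nat.one_le_of_lt Fintype.one_lt_card)] at h3
    exact (Fact.out : p.Prime).not_dvd_one h3
  have h3 : ¬ p ∣ CfsgLib.GLFlags.qFac (Fintype.card F) n := fun h => by
    obtain ⟨k, -, hk⟩ := (Nat.prime_iff.mp Fact.out).exists_mem_finset_dvd h
    rw [CfsgLib.GLFlags.qInt, Finset.sum_range_succ', pow_zero] at hk
    have h2 : p ∣ ∑ i ∈ Finset.range k, Fintype.card F ^ (i + 1) :=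
      Finset.dvd_sum fun i _ => (hf ▸ dvd_pow_self p f.ne_zero : p ∣ Fintype.card F).trans (dvd_pow_self _ (Nat.succ_ne_zero i))
    exact (Fact.out : p.Prime).not_dvd_one ((Nat.dvd_add_right h2).1 hk)
  have hq1 : Fintype.card F - 1 ≠ 0 := by
    have := Fintype.one_lt_card (α := F); omega
  have h1 := congrArg (fun m => m.factorization p)
    ((CfsgLib.SLCard.card_units_mul_card_SL (F := F) hn).trans (CfsgLib.GLFlags.card_GL_eq (F := F) n))
  try simp only at h1
  have hq0 : Fintype.card F ^ n.choose 2 ≠ 0 := pow_ne_zero _ Fintype.card_ne_zero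
  rw [Nat.factorization_mul hq1 Nat.card_pos.ne',
    Nat.factorization_mul (Nat.mul_ne_zero hq0 (pow_ne_zero _ hq1)) (CfsgLib.GLFlags.qFac_pos _ _).ne',
    Nat.factorization_mul hq0 (pow_ne_zero _ hq1)] at h1
  simp only [Finsupp.add_apply, Nat.factorization_pow, Finsupp.smul_apply, smul_eq_mul,
    Nat.factorization_eq_zero_of_not_dvd h2, Nat.factorization_eq_zero_of_not_dvd h3, mul_zero, add_zero,
    zero_add] at h1
  rw [h1, hf, Nat.Prime.factorization_pow hp, Finsupp.single_eq_same, mul_comm]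

/-- The commutator series of a subgroup on the natural module. -/
def ser (D : Subgroup (Matrix.SpecialLinearGroup (Fin n) F)) : ℕ → Submodule F (Fin n → F)
  | 0 => ⊤
  | k + 1 => Submodule.span F {w | ∃ d ∈ D, ∃ v ∈ ser D k, w = d.1 *ᵥ v - v}

variable {D : Subgroup (Matrix.SpecialLinearGroup (Fin n) F)}

theorem ser_step {d : SL} (hd : d ∈ D) {k : ℕ} {v : V} (hv : v ∈ ser D k) :
    d.1 *ᵥ v - v ∈ ser D (k + 1) := Submodule.subset_span ⟨d, hd, v, hv, rfl⟩

theorem ser_succ_le : ∀ k, ser D (k + 1) ≤ ser D k := by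
  intro k
  induction k with
  | zero => exact le_top
  | succ k ih =>
    refine Submodule.span_mono ?_
    rintro _ ⟨d, hd, v, hv, rfl⟩
    exact ⟨d, hd, v, ih hv, rfl⟩

theorem ser_anti {i j : ℕ} (h : i ≤ j) : ser D j ≤ ser D i :=
  antitone_nat_of_succ_le (ser_succ_le (D := D)) h

theorem conj_mem_ser {x : SL} (hx : x ∈ Subgroup.normalizer (D : Set SL)) :
    ∀ (k : ℕ) (v : V), v ∈ ser D k → x.1 *ᵥ v ∈ ser D k := by
  intro k
  induction k with
  | zero => intro v _; trivial
  | succ k ih =>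
    intro v hv
    induction hv using Submodule.span_induction with
    | mem w hw =>
      obtain ⟨d, hd, u, hu, rfl⟩ := hw
      have h := ser_step ((Subgroup.mem_normalizer_iff.1 hx d).1 hd) (ih u hu)
      rw [Matrix.mulVec_mulVec, ← Matrix.SpecialLinearGroup.coe_mul, inv_mul_cancel_right,
        Matrix.SpecialLinearGroup.coe_mul, ← Matrix.mulVec_mulVec, ← Matrix.mulVec_sub] at h
      exact h
    | zero => simp
    | add a b _ _ ha hb => rw [Matrix.mulVec_add]; exact add_mem ha hb
    | smul c a _ ha => rw [Matrix.mulVec_smul]; exact Submodule.smul_mem _ c ha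

theorem ser_n_eq_bot (p : ℕ) [Fact p.Prime] [CharP F p] (hn : 1 ≤ n) (hD : IsPGroup p D) :
    ser D n = ⊥ := by
  obtain ⟨Q, hQ⟩ := hD.exists_le_sylow
  obtain ⟨g, hg⟩ := MulAction.exists_smul_eq SL (Sylow.ofCard (upper F n) (card_upper_eq p hn)) Q
  have hmem : ∀ d ∈ D, g⁻¹ * d * g ∈ upper F n := by
    intro d hd
    have h1 : d ∈ (Q : Subgroup SL) := hQ hd
    rw [← hg, Sylow.coe_subgroup_smul, Subgroup.mem_pointwise_smul_iff_inv_smul_mem] at h1
    simpa [MulAut.conj_symm_apply] using h1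
  have key : ∀ k, ∀ w ∈ ser D k, ∀ i : Fin n, n ≤ i.val + k → ((g⁻¹ : SL).1 *ᵥ w) i = 0 := by
    intro k
    induction k with
    | zero => intro w _ i hi; have := i.2; omega
    | succ k ih =>
      intro w hw
      induction hw using Submodule.span_induction with
      | mem w hw =>
        obtain ⟨d, hd, v, hv, rfl⟩ := hw
        intro i hi
        set u := (g⁻¹ : SL).1 *ᵥ v with hu
        have e : (g⁻¹ : SL).1 *ᵥ (d.1 *ᵥ v) = (g⁻¹ * d * g).1 *ᵥ u := by
          rw [hu, Matrix.mulVec_mulVec, Matrix.mulVec_mulVec, ← Matrix.SpecialLinearGroup.coe_mul,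
            ← Matrix.SpecialLinearGroup.coe_mul, mul_inv_cancel_right]
        rw [Matrix.mulVec_sub, e, Pi.sub_apply]
        set A := g⁻¹ * d * g
        have hA := hmem d hd
        show (A.1 *ᵥ u) i - u i = 0
        rw [Matrix.mulVec, dotProduct, Finset.sum_eq_single i, hA i i le_rfl, one_apply_eq, one_mul, sub_self]
        · intro c _ hc
          rcases lt_or_gt_of_ne hc with h | h
          · rw [hA i c h.le, one_apply_ne h.ne', zero_mul]
          · rw [show u c = 0 from ih v hv c (by rw [Fin.lt_def] at h; omega), mul_zero]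
        · simp
      | zero => simp
      | add a b _ _ ha hb => intro i hi; rw [Matrix.mulVec_add, Pi.add_apply, ha i hi, hb i hi, add_zero]
      | smul c a _ ha => intro i hi; rw [Matrix.mulVec_smul, Pi.smul_apply, ha i hi, smul_zero]
  rw [Submodule.eq_bot_iff]
  intro w hw
  have h0 : (g⁻¹ : SL).1 *ᵥ w = 0 := funext fun i => key n w hw i (by omega)
  have h1 := congrArg (fun x => g.1 *ᵥ x) h0
  try simp only at h1
  rwa [Matrix.mulVec_mulVec, ← Matrix.SpecialLinearGroup.coe_mul, mul_inv_cancel,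
    Matrix.SpecialLinearGroup.coe_one, Matrix.one_mulVec, Matrix.mulVec_zero] at h1

/-- The stabilizer of the series acting trivially on its factors. -/
def stab (D : Subgroup (Matrix.SpecialLinearGroup (Fin n) F)) :
    Subgroup (Matrix.SpecialLinearGroup (Fin n) F) where
  carrier := {g | ∀ k, ∀ v ∈ ser D k, g.1 *ᵥ v - v ∈ ser D (k + 1)}
  one_mem' := fun k v _ => by simp
  mul_mem' := fun {a b} ha hb k v hv => by
    have h1 := hb k v hv
    have h2 : b.1 *ᵥ v ∈ ser D k := by
      have := add_mem (ser_succ_le k h1) hv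
      simpa using this
    have h3 := add_mem (ha k _ h2) h1
    rw [sub_add_sub_cancel, Matrix.mulVec_mulVec, ← Matrix.SpecialLinearGroup.coe_mul] at h3
    exact h3
  inv_mem' := fun {a} ha => by
    intro k v hv
    have hmem : ∀ m : ℕ, ∀ v ∈ ser D k, (a ^ m).1 *ᵥ v - v ∈ ser D (k + 1) := by
      intro m
      induction m with
      | zero => intro v _; simp
      | succ m ih =>
        intro v hv
        have h1 := ha k v hv
        have h2 : a.1 *ᵥ v ∈ ser D k := by
          have := add_mem (ser_succ_le k h1) hv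
          simpa using this
        have h3 := add_mem (ih _ h2) h1
        rw [sub_add_sub_cancel, Matrix.mulVec_mulVec, ← Matrix.SpecialLinearGroup.coe_mul, ← pow_succ] at h3
        exact h3
    have h : a⁻¹ = a ^ (orderOf a - 1) := by
      refine inv_eq_of_mul_eq_one_right ?_
      rw [← pow_succ', Nat.sub_add_cancel (orderOf_pos a), pow_orderOf_eq_one]
    rw [h]
    exact hmem _ v hv

theorem mem_stab {g : SL} : g ∈ stab D ↔ ∀ k, ∀ v ∈ ser D k, g.1 *ᵥ v - v ∈ ser D (k + 1) := Iff.rfl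

theorem le_stab : D ≤ stab D := fun _ hd _ _ hv => ser_step hd hv

theorem stab_pGroup (p : ℕ) [Fact p.Prime] [CharP F p] (hn : 1 ≤ n) (hD : IsPGroup p D) :
    IsPGroup p (stab D) := by
  rintro ⟨g, hg⟩
  refine ⟨n, Subtype.ext (Subtype.ext ?_)⟩
  show (g ^ p ^ n).1 = 1
  haveI : ExpChar (Matrix (Fin n) (Fin n) F) p := by
    haveI : Nonempty (Fin n) := ⟨⟨0, hn⟩⟩
    exact ExpChar.prime (Fact.out : p.Prime)
  have hit : ∀ m (v : V), (g.1 - 1) ^ m *ᵥ v ∈ ser D m := by
    intro m
    induction m with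
    | zero => intro v; trivial
    | succ m ih =>
      intro v
      rw [pow_succ', ← Matrix.mulVec_mulVec, Matrix.sub_mulVec, Matrix.one_mulVec]
      exact hg m _ (ih v)
  have hzero : (g.1 - 1) ^ n = 0 := Matrix.ext_iff_mulVec.2 fun v => by
    have := hit n v
    rw [ser_n_eq_bot p hn hD, Submodule.mem_bot] at this
    rw [this, Matrix.zero_mulVec]
  have h2 : (g.1 - 1) ^ p ^ n = 0 :=
    pow_eq_zero_of_le (Nat.lt_pow_self (Fact.out : p.Prime).one_lt).le hzero
  rw [sub_pow_expChar_pow_of_commute p n (Commute.one_right _), one_pow, sub_eq_zero] at h2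
  rw [Matrix.SpecialLinearGroup.coe_pow]
  exact h2

theorem normalizer_stab {x : SL} (hx : x ∈ Subgroup.normalizer (D : Set SL)) {g : SL} (hg : g ∈ stab D) :
    x * g * x⁻¹ ∈ stab D := by
  intro k v hv
  have h1 := conj_mem_ser hx (k + 1) _ (hg k _ (conj_mem_ser (inv_mem hx) k v hv))
  rw [Matrix.mulVec_sub] at h1
  simp only [Matrix.mulVec_mulVec, ← Matrix.SpecialLinearGroup.coe_mul] at h1
  rw [mul_inv_cancel, Matrix.SpecialLinearGroup.coe_one, Matrix.one_mulVec, ← mul_assoc] at h1
  exact h1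

theorem stab_le (p : ℕ) [Fact p.Prime] [CharP F p] (hn : 1 ≤ n) (hD : IsPGroup p D)
    (hrad : (Cfsg.pCore p (Subgroup.normalizer (D : Set SL))).map
      (Subgroup.normalizer (D : Set SL)).subtype = D) : stab D ≤ D := by
  set N := Subgroup.normalizer (D : Set SL)
  haveI hn' : ((stab D).subgroupOf N).Normal :=
    ⟨fun g hg x => normalizer_stab x.2 hg⟩
  have hp' : IsPGroup p ((stab D).subgroupOf N) :=
    (stab_pGroup p hn hD).comap_of_injective N.subtype (Subgroup.subtype_injective _)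
  have h1 : stab D ⊓ N ≤ D := by
    intro x hx
    rw [← hrad]
    exact ⟨⟨x, hx.2⟩, CfsgLib.le_pCore hp' hx.1, rfl⟩
  by_contra hlt
  haveI : Finite SL := inferInstance
  haveI : Group.IsNilpotent (stab D) := (stab_pGroup p hn hD).isNilpotent
  have hne : D.subgroupOf (stab D) < ⊤ := by
    rw [lt_top_iff_ne_top, Ne, Subgroup.subgroupOf_eq_top]
    exact hlt
  obtain ⟨x, hxn, hxD⟩ := SetLike.exists_of_lt (Group.normalizerCondition_of_isNilpotent _ hne)
  refine hxD (Subgroup.mem_subgroupOf.2 (h1 ⟨x.2, ?_⟩))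
  rw [Subgroup.mem_normalizer_iff] at hxn
  refine Subgroup.mem_normalizer_iff.2 fun d => ?_
  constructor
  · intro hd
    have := (hxn ⟨d, le_stab hd⟩).1 (by simpa [Subgroup.mem_subgroupOf] using hd)
    simpa [Subgroup.mem_subgroupOf] using this
  · intro hd
    have hd' : d ∈ stab D := by
      have := mul_mem (mul_mem (inv_mem x.2) (le_stab hd)) x.2
      simpa [mul_assoc] using this
    have := (hxn ⟨d, hd'⟩).2 (by simpa [Subgroup.mem_subgroupOf] using hd)
    simpa [Subgroup.mem_subgroupOf] using this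

/-- A functional as a vector. -/
def fv (φ : Module.Dual F (Fin n → F)) : Fin n → F := fun i => φ (Pi.single i 1)

theorem fv_dot (φ : Module.Dual F (Fin n → F)) (x : V) : fv φ ⬝ᵥ x = φ x := by
  rw [LinearMap.pi_apply_eq_sum_univ φ x, dotProduct]
  refine Finset.sum_congr rfl fun i _ => ?_
  rw [smul_eq_mul, mul_comm]
  congr 1
  show φ _ = φ _
  congr 1
  funext j
  simp [Pi.single_apply, eq_comm]

/-- Nontrivial radical `p`-subgroups contain their centralizer up to the centre. -/
theorem centralizer_le (p : ℕ) [Fact p.Prime] [CharP F p] (hn : 1 ≤ n) (hD : IsPGroup p D) (hne : D ≠ ⊥)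
    (hrad : (Cfsg.pCore p (Subgroup.normalizer (D : Set SL))).map
      (Subgroup.normalizer (D : Set SL)).subtype = D) :
    Subgroup.centralizer (D : Set SL) ≤ D ⊔ Subgroup.center SL := by
  intro g hg
  have hK := stab_le p hn hD hrad
  have hW1 : ser D 1 ≠ ⊥ := by
    intro h
    apply hne
    rw [Subgroup.eq_bot_iff_forall]
    intro d hd
    refine Subtype.ext (Matrix.ext_iff_mulVec.2 fun v => ?_)
    have h1 := ser_step (k := 0) hd (show v ∈ ser D 0 from trivial)
    rw [h, Submodule.mem_bot, sub_eq_zero] at h1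
    rw [h1]
    simp
  have hW1' : ser D 1 ≠ ⊤ := by
    intro h
    have hk : ∀ k, ser D k = ⊤ := by
      intro k
      induction k with
      | zero => rfl
      | succ k ih =>
        rw [← h]
        show Submodule.span F _ = Submodule.span F _
        rw [ih]
        rfl
    exact hW1 (by rw [h, ← hk n, ser_n_eq_bot p hn hD])
  have htv : ∀ (v f : V) (hfv : f ⬝ᵥ v = 0), v ∈ ser D 1 → (∀ w ∈ ser D 1, f ⬝ᵥ w = 0) →
      tv v f hfv ∈ D := by
    intro v f hfv hv hf
    refine hK (mem_stab.2 fun k w hw => ?_)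
    rw [coe_tv, Matrix.add_mulVec, Matrix.one_mulVec, add_sub_cancel_left, Matrix.vecMulVec_mulVec,
      op_smul_eq_smul]
    rcases k with - | k
    · exact Submodule.smul_mem _ _ hv
    · rw [hf w (ser_anti (by omega) hw), zero_smul]; exact zero_mem _
  have hcomm : ∀ v ∈ ser D 1, ∀ f : V, (∀ w ∈ ser D 1, f ⬝ᵥ w = 0) → ∀ x : V,
      (f ⬝ᵥ x) • (g.1 *ᵥ v) = (f ⬝ᵥ (g.1 *ᵥ x)) • v := by
    intro v hv f hf x
    have h := Subgroup.mem_centralizer_iff.1 hg _ (htv v f (hf v hv) hv hf)
    have h' := congrArg (fun A : SL => A.1 *ᵥ x) h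
    simp only [Matrix.SpecialLinearGroup.coe_mul, coe_tv, ← Matrix.mulVec_mulVec, Matrix.add_mulVec,
      Matrix.one_mulVec, Matrix.mulVec_add, Matrix.vecMulVec_mulVec, op_smul_eq_smul,
      Matrix.mulVec_smul, add_right_inj] at h'
    exact h'.symm
  obtain ⟨y, -, hy⟩ := SetLike.exists_of_lt (lt_top_iff_ne_top.2 hW1')
  obtain ⟨φ, hφy, hφ⟩ := Submodule.exists_le_ker_of_notMem hy
  set f0 := fv φ
  have hf0 : ∀ w ∈ ser D 1, f0 ⬝ᵥ w = 0 := fun w hw => by rw [fv_dot]; exact hφ hw
  set lam : F := (f0 ⬝ᵥ (g.1 *ᵥ y)) / (f0 ⬝ᵥ y) with hlam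
  have hy0 : f0 ⬝ᵥ y ≠ 0 := by rw [fv_dot]; exact hφy
  have heig : ∀ v ∈ ser D 1, g.1 *ᵥ v = lam • v := by
    intro v hv
    have h := congrArg ((f0 ⬝ᵥ y)⁻¹ • ·) (hcomm v hv f0 hf0 y)
    simp only [smul_smul, inv_mul_cancel₀ hy0, one_smul] at h
    rw [h, hlam, div_eq_inv_mul]
  obtain ⟨v0, hv0, hv00⟩ := Submodule.exists_mem_ne_zero_of_ne_bot hW1
  have himg : ∀ x : V, g.1 *ᵥ x - lam • x ∈ ser D 1 := by
    intro x
    by_contra hx
    obtain ⟨ψ, hψx, hψ⟩ := Submodule.exists_le_ker_of_notMem hx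
    apply hψx
    have h := hcomm v0 hv0 (fv ψ) (fun w hw => by rw [fv_dot]; exact hψ hw) x
    rw [heig v0 hv0, smul_smul] at h
    have h2 := smul_left_injective F hv00 h
    simp only [fv_dot] at h2
    rw [map_sub, map_smul, smul_eq_mul, ← h2]
    ring
  have hlam0 : lam ≠ 0 := fun h0 => by
    have h := heig v0 hv0
    rw [h0, zero_smul] at h
    have h1 := congrArg (fun x => (g⁻¹ : SL).1 *ᵥ x) h
    simp only [Matrix.mulVec_mulVec, ← Matrix.SpecialLinearGroup.coe_mul, inv_mul_cancel,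
      Matrix.SpecialLinearGroup.coe_one, Matrix.one_mulVec, Matrix.mulVec_zero] at h1
    exact hv00 h1
  set H : Matrix (Fin n) (Fin n) F := lam⁻¹ • g.1 with hH
  have hHstep : ∀ k, ∀ v ∈ ser D k, H *ᵥ v - v ∈ ser D (k + 1) := by
    intro k v hv
    rw [hH, Matrix.smul_mulVec]
    rcases k with - | k
    · have := Submodule.smul_mem (ser D 1) lam⁻¹ (himg v)
      rwa [smul_sub, smul_smul, inv_mul_cancel₀ hlam0, one_smul] at this
    · rw [heig v (ser_anti (by omega) hv), smul_smul, inv_mul_cancel₀ hlam0, one_smul, sub_self]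
      exact zero_mem _
  have hsq : (H - 1) * (H - 1) = 0 := Matrix.ext_iff_mulVec.2 fun v => by
    rw [← Matrix.mulVec_mulVec, Matrix.zero_mulVec]
    set w := (H - 1) *ᵥ v with hw
    have hw1 : w ∈ ser D 1 := by
      rw [hw, Matrix.sub_mulVec, Matrix.one_mulVec]; exact hHstep 0 v trivial
    rw [Matrix.sub_mulVec, Matrix.one_mulVec, hH, Matrix.smul_mulVec, heig w hw1, smul_smul,
      inv_mul_cancel₀ hlam0, one_smul, sub_self]
  have hdet : H.det = 1 := by
    haveI : Nonempty (Fin n) := ⟨⟨0, hn⟩⟩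
    haveI : ExpChar (Matrix (Fin n) (Fin n) F) p := ExpChar.prime (Fact.out : p.Prime)
    haveI : ExpChar F p := ExpChar.prime (Fact.out : p.Prime)
    have h1 : (H - 1) ^ p = 0 := pow_eq_zero_of_le (Fact.out : p.Prime).two_le (by rw [sq]; exact hsq)
    rw [sub_pow_expChar_of_commute p (Commute.one_right _), one_pow, sub_eq_zero] at h1
    have h2 := congrArg Matrix.det h1
    rw [Matrix.det_pow, Matrix.det_one] at h2
    exact frobenius_inj F p (by rw [frobenius_def, frobenius_def, h2, one_pow])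
  let h : SL := ⟨H, hdet⟩
  have hh : h ∈ D := hK (mem_stab.2 hHstep)
  have hz : g * h⁻¹ ∈ Subgroup.center SL := by
    have e : g.1 = lam • h.1 := by
      show g.1 = lam • (lam⁻¹ • g.1)
      rw [smul_smul, mul_inv_cancel₀ hlam0, one_smul]
    have e2 : (g * h⁻¹).1 = lam • (1 : Matrix (Fin n) (Fin n) F) := by
      rw [Matrix.SpecialLinearGroup.coe_mul, e, Matrix.smul_mul, ← Matrix.SpecialLinearGroup.coe_mul,
        mul_inv_cancel, Matrix.SpecialLinearGroup.coe_one]
    rw [Subgroup.mem_center_iff]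
    intro A
    apply Subtype.ext
    rw [Matrix.SpecialLinearGroup.coe_mul A, Matrix.SpecialLinearGroup.coe_mul _ A, e2, Matrix.mul_smul,
      Matrix.smul_mul, Matrix.mul_one, Matrix.one_mul]
  rw [show g = g * h⁻¹ * h by group]
  exact mul_mem (Subgroup.mem_sup_right hz) (Subgroup.mem_sup_left hh)

end CfsgLib.PSLn.Radical
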