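import Cfsg.Agent.Lib.Blocks.CentralRadical
import Cfsg.Agent.Lib.DefectZero.Residue
import Cfsg.Agent.Lib.PSLn.DefectDatum
import Cfsg.Agent.Lib.PSLn.RadicalCentralizer
import Cfsg.Agent.Lib.PSLn.SteinbergChar

/-!
The blocks of `SL_n(q)` in the defining characteristic.
-/

set_option autoImplicit false

namespace CfsgLib.PSLn.Blocks

open Cfsg CfsgLib.Blocks

theorem card_blocks {F : Type*} [Field F] [Fintype F] (p : ℕ) [Fact p.Prime] [CharP F p] {n : ℕ} (hn : 2 ≤ n)
    {M : Ideal Cfsg.AlgInt} (hM : Cfsg.IsPModular p M) :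
    Nat.card {B : Set (Cfsg.IrrCharacter (Matrix.SpecialLinearGroup (Fin n) F)) // Cfsg.IsPBlock M B} =
      Nat.gcd n (Fintype.card F - 1) + 1 := by
  classical
  obtain ⟨f, hp, hf⟩ := FiniteField.card F p
  have hn1 : 1 ≤ n := by omega
  have hcardU := CfsgLib.PSLn.Radical.card_upper_eq (F := F) (n := n) p hn1
  have hU : Nat.card (CfsgLib.PSLn.upper F n) = Fintype.card F ^ n.choose 2 := by
    rw [CfsgLib.PSLn.card_upper, Finset.prod_pow_eq_pow_sum, Fin.sum_univ_eq_sum_range (fun k => k) n,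
      Finset.sum_range_id, Nat.choose_two_right]
  have hfac : (Fintype.card F ^ n.choose 2).factorization p =
      (Nat.card (Matrix.SpecialLinearGroup (Fin n) F)).factorization p := by
    rw [← hU, hcardU, Nat.Prime.factorization_pow hp, Finsupp.single_eq_same]
  have hdvd : p ∣ Nat.card (Matrix.SpecialLinearGroup (Fin n) F) := by
    refine dvd_trans ?_ (Subgroup.card_subgroup_dvd_card (CfsgLib.PSLn.upper F n))
    rw [hU, hf, ← pow_mul]
    exact dvd_pow_self p (Nat.mul_ne_zero f.ne_zero (Nat.choose_pos hn).ne')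
  have hZp : ¬ p ∣ Nat.card (Subgroup.center (Matrix.SpecialLinearGroup (Fin n) F)) := by
    rw [CfsgLib.SLCard.card_SL_center hn1]
    intro h
    have h1 := h.trans (Nat.gcd_dvd_right _ _)
    have h2 : p ∣ Fintype.card F := hf ▸ dvd_pow_self p f.ne_zero
    have h3 := Nat.dvd_sub h2 h1
    rw [Nat.sub_sub_self (Nat.one_le_of_lt Fintype.one_lt_card)] at h3
    exact hp.not_dvd_one h3
  rw [CentralRadical.card_blocks hM le_rfl hZp
    (fun D hD hne hrad => CfsgLib.PSLn.Radical.centralizer_le p hn1 hD hne hrad) hdvd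
    ⟨_, CfsgLib.PSLn.St.stSL_irr p⟩ ?_ (fun z hz => CfsgLib.PSLn.St.center_scalar hz)
    (fun χ ψ hχ hψ => CfsgLib.DefectZeroBN.defZero_unique (CfsgLib.PSLn.Datum.datum hn p) χ ψ hχ hψ),
    CfsgLib.SLCard.card_SL_center hn1]
  show (Cfsg.charDegree (CfsgLib.PSLn.St.stSL n F)).factorization p = _
  rw [Cfsg.charDegree, CfsgLib.PSLn.St.stSL_one, ← Nat.cast_pow, Complex.natCast_re, Nat.floor_natCast, hfac]

end CfsgLib.PSLn.Blocks
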